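import Cfsg.Agent.Lib.Base.ColThree
import Cfsg.Agent.Lib.Grp.MinNormal

/-! Regular colourings for quasiprimitive solvable permutation groups. -/

set_option autoImplicit false

namespace Base2

open Subgroup Function

instance factPrimeFive : Fact (Nat.Prime 5) := ⟨by norm_num⟩

section Aff

variable {A : Type*} [CommGroup A] [Finite A]

theorem shift_eq_zero {X : Type*} [Finite X] [Nonempty X] {κ : ℕ} [Fact κ.Prime] {c : X → ZMod κ}
    (hc : ¬ κ ∣ Nat.card X ∨ ¬ Surjective c) {φ : X → X} (hφ : Injective φ) {t : ZMod κ}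
    (h : ∀ x, c (φ x) = c x + t) : t = 0 := by
  by_contra ht
  rcases hc with hc | hc
  · have := Fintype.ofFinite X
    have h1 : ∑ x, c (φ x) = ∑ x, c x :=
      Fintype.sum_bijective φ (Finite.injective_iff_bijective.1 hφ) _ _ fun _ => rfl
    simp only [h, Finset.sum_add_distrib, Finset.sum_const, Finset.card_univ, add_eq_left,
      nsmul_eq_mul, mul_eq_zero, ht, or_false] at h1
    rw [Nat.card_eq_fintype_card] at hc
    exact hc ((ZMod.natCast_eq_zero_iff _ _).1 h1)
  · apply hc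
    obtain ⟨x⟩ := ‹Nonempty X›
    have h1 : ∀ k : ℕ, c (φ^[k] x) = c x + k * t := by
      intro k
      induction k with
      | zero => simp
      | succ k ih => rw [iterate_succ_apply', h, ih]; push_cast; ring
    intro y
    refine ⟨φ^[((y - c x) / t).val] x, ?_⟩
    rw [h1, ZMod.natCast_zmod_val, div_mul_cancel₀ _ ht]; ring

/-- A colouring of `A` that is rigid for the affine maps with admissible linear part. -/
def AffCol (κ : ℕ) (Adm : (A →* A) → Prop) : Prop :=
  ∃ c : A → ZMod κ, ∀ L, Adm L → ∀ (a0 : A) (t : ZMod κ), (∀ a, c (a0 * L a) = c a + t) →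
    t = 0 ∧ a0 = 1 ∧ ∀ a, L a = a

theorem affCol_of {κ : ℕ} [Fact κ.Prime] {Adm : (A →* A) → Prop}
    (hA : ∀ L, Adm L → Injective L) (c : A → ZMod κ)
    (hc : ¬ κ ∣ Nat.card A ∨ ¬ Surjective c) (h1 : ∀ a, c a = c 1 → a = 1)
    (h2 : ∀ L, Adm L → (∀ a, c (L a) = c a) → ∀ a, L a = a) : AffCol κ Adm := by
  refine ⟨c, fun L hL a0 t h => ?_⟩
  have ht : t = 0 := shift_eq_zero hc (φ := fun a => a0 * L a)
    (fun a b hab => hA L hL (mul_left_cancel hab)) h
  subst ht
  have h0 : a0 = 1 := h1 _ (by simpa using h 1)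
  subst h0
  exact ⟨rfl, rfl, h2 L hL (by simpa using h)⟩

theorem affCol_five {s : ℕ} (hs : s.Prime) (h : ∀ a : A, a ^ s = 1) :
    AffCol (A := A) 5 fun L => Injective L := by
  classical
  have : Fact s.Prime := ⟨hs⟩
  obtain ⟨k, hk⟩ := IsPGroup.iff_card.1 (show IsPGroup s A from fun a => ⟨1, by simpa using h a⟩)
  have key : ∀ col : A → Fin 4, IsCol A col → (¬ 5 ∣ Nat.card A ∨ ∀ a, col a ≠ 2) →
      AffCol (A := A) 5 fun L => Injective L := by
    intro col hcol hh
    have e1 : ∀ x : Fin 4, ((x : ℕ) : ZMod 5) ≠ 4 := by decide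
    have e2 : ∀ x y : Fin 4, ((x : ℕ) : ZMod 5) = (y : ℕ) → x = y := by decide
    apply affCol_of (fun _ h => h) (fun a => if a = 1 then 4 else ((col a : ℕ) : ZMod 5))
    · refine hh.imp_right fun hh hs => ?_
      obtain ⟨a, ha⟩ := hs 2
      simp only at ha
      split_ifs at ha
      · exact absurd ha (by decide)
      · exact hh a (e2 _ _ ha)
    · intro a ha
      by_contra hne
      simp only [hne, if_false, if_true] at ha
      exact e1 _ ha
    · intro L hL hc
      apply hcol.reg L hL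
      intro a ha
      have := hc a
      simp only [ha, map_ne_one' hL ha, if_false] at this
      exact e2 _ _ this
  rcases hs.eq_two_or_odd' with rfl | hodd
  · obtain ⟨col, hcol, -⟩ := exists_isCol_two (A := A) A (fun a => by rw [← sq]; exact h a)
    refine key col hcol (Or.inl ?_)
    rw [hk]; intro hc
    have := (Nat.Prime.dvd_of_dvd_pow (by norm_num) hc)
    omega
  · obtain ⟨col, hcol, h2⟩ := exists_isCol_odd (A := A) A (hk ▸ hodd.pow)
    exact key col hcol (Or.inr h2)

theorem affCol_three_odd [Nontrivial A] (hodd : Odd (Nat.card A)) (h3 : ¬ 3 ∣ Nat.card A) :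
    AffCol (A := A) 3 fun L => Injective L := by
  classical
  obtain ⟨e1, T, h1, hT1, hT2, hreg⟩ := exists_odd_data hodd
  let B : Set A := {e1, e1 ^ 2} ∪ T
  have hB1 : (1 : A) ∉ B := by
    rintro ((h | h) | h)
    · exact h1 h.symm
    · exact h1 (eq_one_of_sq hodd _ h.symm)
    · exact hT1 _ h (one_mem _)
  apply affCol_of (fun _ h => h) (fun a => if a = 1 then 0 else if a ∈ B then 1 else 2)
    (Or.inl h3)
  · intro a ha
    by_contra hne
    simp only [hne, if_false, if_true] at ha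
    split_ifs at ha <;> exact absurd ha (by decide)
  · intro L hL hc
    have hB : ∀ u ∈ B, L u ∈ B := by
      intro u hu
      have hu1 : u ≠ 1 := fun h => hB1 (h ▸ hu)
      have := hc u
      by_contra hne
      simp only [hu1, map_ne_one' hL hu1, hu, hne, if_false, if_true] at this
      exact absurd this (by decide)
    have b1 := hB e1 (Or.inl (Or.inl rfl))
    have b2 := hB (e1 ^ 2) (Or.inl (Or.inr rfl))
    rw [map_pow] at b2
    have he : L e1 = e1 := by
      rcases b1 with (b1 | b1) | b1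
      · exact b1
      · exfalso
        rw [b1] at b2
        rcases b2 with (b2 | b2) | b2
        · have h3' : e1 ^ 3 = 1 := by
            rw [← pow_mul, show 2 * 2 = 3 + 1 from rfl, pow_succ] at b2
            exact mul_eq_right.1 b2
          have := orderOf_dvd_of_pow_eq_one h3'
          rcases (Nat.dvd_prime Nat.prime_three).1 this with h | h
          · exact h1 (orderOf_eq_one_iff.1 h)
          · exact h3 (h ▸ orderOf_dvd_natCard e1)
        · rw [Set.mem_singleton_iff, sq (e1 ^ 2), mul_eq_left] at b2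
          exact h1 (eq_one_of_sq hodd _ b2)
        · exact hT1 _ b2 (pow_mem (pow_mem (mem_zpowers _) 2) 2)
      · exfalso
        rcases b2 with (b2 | b2) | b2
        · exact hT1 _ b1 (mem_of_sq_mem hodd (by rw [b2]; exact mem_zpowers _))
        · exact hT1 _ b1 (mem_of_sq_mem hodd (b2 ▸ pow_mem (mem_zpowers _) 2))
        · exact hT2 _ b1 b2
    apply hreg L hL he
    intro u hu
    rcases hB u (Or.inr hu) with (h | h) | h
    · exact absurd (hL (h.trans he.symm) ▸ mem_zpowers _) (hT1 u hu)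
    · rw [Set.mem_singleton_iff, ← he, ← map_pow] at h
      exact absurd (hL h ▸ pow_mem (mem_zpowers _) 2) (hT1 u hu)
    · exact h

theorem affCol_three_pt (h3 : ¬ 3 ∣ Nat.card A) {Adm : (A →* A) → Prop}
    (hA : ∀ L, Adm L → Injective L) {e : A} (he : e ≠ 1)
    (h : ∀ L, Adm L → L e = e → ∀ a, L a = a) : AffCol 3 Adm := by
  classical
  apply affCol_of hA (fun a => if a = 1 then 0 else if a = e then 1 else 2) (Or.inl h3)
  · intro a ha
    by_contra hne
    simp only [hne, if_false, if_true] at ha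
    split_ifs at ha <;> exact absurd ha (by decide)
  · intro L hL hc
    apply h L hL
    have := hc e
    by_contra hne
    simp only [he, map_ne_one' (hA L hL) he, hne, if_false, if_true] at this
    exact absurd this (by decide)

/-- first colour class in rank four -/
def setA : List (Fin 4 → ZMod 2) :=
  [0, ![1, 0, 0, 0], ![0, 1, 0, 0], ![0, 0, 1, 0], ![0, 0, 0, 1], ![1, 1, 0, 0]]

/-- second colour class in rank four -/
def setB : List (Fin 4 → ZMod 2) :=
  [![0, 0, 1, 1], ![1, 0, 1, 0], ![1, 0, 0, 1], ![0, 1, 0, 1]]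

set_option synthInstance.maxSize 2000 in
set_option synthInstance.maxHeartbeats 200000 in
theorem base4_check : ∀ u ∈ setA, ∀ u0 ∈ setA, ∀ u1 ∈ setA, u1 ≠ u0 →
    u + u0 + u1 ∈ setA → ∀ u2 ∈ setA, u + u0 + u2 ∈ setB → ∀ u3 ∈ setA, u + u2 + u3 ∈ setB →
    u + u0 + u3 ∈ setB → u + u1 + u3 ∈ setB →
    u = 0 ∧ u0 = ![1, 0, 0, 0] ∧ u1 = ![0, 1, 0, 0] ∧ u2 = ![0, 0, 1, 0] ∧ u3 = ![0, 0, 0, 1] := by
  decide +kernel

theorem setAB_disj : ∀ v ∈ setB, v ∉ setA := by decide +kernel

theorem affCol_three_big (h2 : ∀ a : A, a * a = 1) (h8 : 8 < Nat.card A) :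
    AffCol (A := A) 3 fun L => Injective L := by
  classical
  obtain ⟨e, d, he, htop⟩ := exists_chain A
  have hcard := he.card_two htop h2
  have hd : 4 ≤ d := by
    by_contra hc
    rw [hcard] at h8
    have : d ≤ 3 := by omega
    interval_cases d <;> omega
  have hinj := he.psi_injective h2 hd
  let SA : Set A := {a | ∃ v ∈ setA, psi e 4 v = a}
  let SB : Set A := {a | ∃ v ∈ setB, psi e 4 v = a}
  let T := triples e 4 d
  have hT : ∀ u ∈ T, u ∉ lev e 4 := fun u hu => he.triples_not_mem (by omega) le_rfl hu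
  have mA : ∀ v, psi e 4 v ∈ SA ↔ v ∈ setA := fun v =>
    ⟨fun ⟨w, hw, h⟩ => hinj h ▸ hw, fun h => ⟨v, h, rfl⟩⟩
  have mB : ∀ v, (psi e 4 v ∈ SB ∨ psi e 4 v ∈ T) ↔ v ∈ setB := fun v =>
    ⟨fun h => h.elim (fun ⟨w, hw, h⟩ => hinj h ▸ hw) (fun h => absurd (psi_mem e 4 v) (hT _ h)),
      fun h => Or.inl ⟨v, h, rfl⟩⟩
  let c : A → ZMod 3 := fun a => if a ∈ SA then 0 else if a ∈ SB ∨ a ∈ T then 1 else 2
  refine ⟨c, fun L hL a0 t h => ?_⟩
  have ht : t = 0 := shift_eq_zero (c := c) (Or.inl (by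
      rw [hcard]; intro hc
      have := (Nat.Prime.dvd_of_dvd_pow (by norm_num) hc)
      omega)) (φ := fun a => a0 * L a) (fun a b hab => hL (mul_left_cancel hab)) h
  subst ht
  have hA : ∀ a ∈ SA, a0 * L a ∈ SA := by
    intro a ha
    have := h a
    by_contra hne
    simp only [c, ha, hne, if_false, if_true, add_zero] at this
    split_ifs at this <;> exact absurd this (by decide)
  have hB : ∀ a, a ∉ SA → (a ∈ SB ∨ a ∈ T) → (a0 * L a ∈ SB ∨ a0 * L a ∈ T) := by
    intro a ha ha'
    have := h a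
    by_contra hne
    simp only [c, ha, ha', hne, if_false, if_true, add_zero] at this
    split_ifs at this <;> exact absurd this (by decide)
  have p0 : psi e 4 ![1, 0, 0, 0] = e 0 := Eq.trans (by congr 1; decide) (psi_single e 4 0)
  have p1 : psi e 4 ![0, 1, 0, 0] = e 1 := Eq.trans (by congr 1; decide) (psi_single e 4 1)
  have p2 : psi e 4 ![0, 0, 1, 0] = e 2 := Eq.trans (by congr 1; decide) (psi_single e 4 2)
  have p3 : psi e 4 ![0, 0, 0, 1] = e 3 := Eq.trans (by congr 1; decide) (psi_single e 4 3)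
  obtain ⟨u, hu, eu⟩ := hA _ ((mA 0).2 (by decide))
  obtain ⟨u0, hu0, eu0⟩ := hA _ ((mA ![1, 0, 0, 0]).2 (by decide))
  obtain ⟨u1, hu1, eu1⟩ := hA _ ((mA ![0, 1, 0, 0]).2 (by decide))
  obtain ⟨u2, hu2, eu2⟩ := hA _ ((mA ![0, 0, 1, 0]).2 (by decide))
  obtain ⟨u3, hu3, eu3⟩ := hA _ ((mA ![0, 0, 0, 1]).2 (by decide))
  rw [psi_zero, map_one, mul_one] at eu
  have sum : ∀ v w v' w', psi e 4 v' = a0 * L (psi e 4 v) → psi e 4 w' = a0 * L (psi e 4 w) →
      a0 * L (psi e 4 (v + w)) = psi e 4 (u + v' + w') := by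
    intro v w v' w' h1 h1'
    rw [psi_add h2, psi_add h2, psi_add h2, eu, h1, h1', map_mul, ← mul_assoc a0 a0, h2, one_mul,
      mul_left_comm]
  have sB : ∀ v w v' w', psi e 4 v' = a0 * L (psi e 4 v) → psi e 4 w' = a0 * L (psi e 4 w) →
      v + w ∈ setB → u + v' + w' ∈ setB := by
    intro v w v' w' h1 h1' hm
    rw [← mB, ← sum v w v' w' h1 h1']
    exact hB _ (fun hc => setAB_disj _ hm ((mA _).1 hc)) ((mB _).2 hm)
  obtain ⟨rfl, rfl, rfl, rfl, rfl⟩ := base4_check u hu u0 hu0 u1 hu1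
    (fun hc => by
      rw [hc, eu0] at eu1
      exact absurd (hinj (hL (mul_left_cancel eu1))) (by decide))
    (by rw [← mA, ← sum _ _ _ _ eu0 eu1]; exact hA _ ((mA _).2 (by decide))) u2 hu2
    (sB _ _ _ _ eu0 eu2 (by decide)) u3 hu3 (sB _ _ _ _ eu2 eu3 (by decide))
    (sB _ _ _ _ eu0 eu3 (by decide)) (sB _ _ _ _ eu1 eu3 (by decide))
  rw [psi_zero] at eu
  subst eu
  refine ⟨rfl, rfl, he.fix_of_triples' htop h2 (k0 := 4) (by omega) hL ?_ ?_⟩
  · intro u hu
    have hfix : ∀ a ∈ lev e 4, L a = a := fix_lev e L fun j hj => by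
      interval_cases j
      · simpa [p0] using eu0.symm
      · simpa [p1] using eu1.symm
      · simpa [p2] using eu2.symm
      · simpa [p3] using eu3.symm
    have hn := hT u hu
    rcases hB u (fun ⟨v, _, hv⟩ => hn (hv ▸ psi_mem e 4 v)) (Or.inr hu) with ⟨v, _, hv⟩ | h'
    · rw [one_mul] at hv
      exact absurd (hv ▸ psi_mem e 4 v) (not_mem_of_fix hL hfix hn)
    · simpa using h'
  · intro j hj
    interval_cases j
    · simpa [p0] using eu0.symm
    · simpa [p1] using eu1.symm
    · simpa [p2] using eu2.symm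
    · simpa [p3] using eu3.symm

end Aff

end Base2
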