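import Cfsg.Agent.Lib.Base.Max

/-! The generic colouring cases. -/

set_option autoImplicit false

namespace Base2

open Function Subgroup

variable {K G V : Type*} [Field K] [Group G] [AddCommGroup V] [Module K V] [DistribMulAction G V]
  {ι : Kˣ →* G} {E : Subgroup G}

theorem exists_fourth [Finite K] (h2 : (2 : K) ≠ 0) {r : ℕ} (hr : Nat.card Kˣ = 2 * r) {u : Kˣ}
    (hu : Even r → u ^ r = 1) : ∃ w : Kˣ, w ^ 4 = u ^ 2 := by
  rcases Nat.even_or_odd r with he | ⟨c, rfl⟩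
  · have := Fintype.ofFinite K
    have h1 : Fintype.card K / 2 = r := by
      rw [Nat.card_units, Nat.card_eq_fintype_card] at hr
      have : 1 < Fintype.card K := Fintype.one_lt_card
      omega
    obtain ⟨w, rfl⟩ := (FiniteField.unit_isSquare_iff (F := K) (fun hc => h2 (by
      have := ringChar.Nat.cast_ringChar (R := K)
      rwa [hc] at this)) u).2 (h1 ▸ hu he)
    exact ⟨w, by rw [← pow_two, ← pow_mul]⟩
  · refine ⟨u ^ (c + 1), ?_⟩
    rw [← pow_mul, show (c + 1) * 4 = 2 * (2 * c + 1) + 2 by ring, pow_add, ← hr, pow_card_eq_one',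
      one_mul]

namespace EData

variable (h : EData V ι E)

include h in
theorem eig_pow {x : V} (hx : x ≠ 0) {m : E} {c : K} (hm : (m : G) • x = c • x) {k : ℕ}
    (hk : m ^ k = 1) : c ^ k = 1 := by
  have h1 : ∀ k : ℕ, ((m ^ k : E) : G) • x = c ^ k • x := by
    intro k
    induction k with
    | zero => simp
    | succ k ih => rw [pow_succ', coe_mul, mul_smul, ih, h.linE m.2, hm, smul_smul, pow_succ]
  have h2 := h1 k
  rw [hk, OneMemClass.coe_one, one_smul] at h2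
  exact (smul_left_injective K hx ((one_smul K x).trans h2)).symm

theorem pow_χ_eq_one [Finite G] {x : V} (hx : x ≠ 0) {m : ℕ} (hβ : ∀ a b, h.β a b ^ m = 1)
    (a : stab E x →* Kˣ) : a ^ m = 1 := by
  obtain ⟨e, rfl⟩ := h.χ_surjective hx a
  exact MonoidHom.ext fun d => hβ d e

variable [Finite G] {p : ℕ} [Fact p.Prime] [CharP K p] (hG : ¬ p ∣ Nat.card G) {x : V}
  (hx : x ≠ 0) {y0 : ZMod p → V} (hb : h.IsBase p x y0)
include hG hx hb

theorem good_small (hA : Nat.card (stab E x →* Kˣ) ≤ 2) : Good (ZMod p) G V := by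
  have := finite_hom (stab E x) K
  choose t ht using h.χ_surjective hx
  exact h.good_of_col hG hx hb t ht _ (isCol_small hA) (fun _ => x) (fun _ => h.self_mem_W x) rfl
    (fun _ _ => hx) (fun n _ h1 _ => ⟨1, by simpa using h1⟩) (fun _ => True)
    (fun _ _ _ => trivial) fun _ _ _ _ _ _ => rfl

theorem good_mixed {n : ℕ} (hn : Odd n) (hβ : ∀ a b, h.β a b ^ (2 * n) = 1)
    (h2 : ∃ f : stab E x →* Kˣ, f ≠ 1 ∧ f ^ 2 = 1) (ho : ∃ b : stab E x →* Kˣ, b ≠ 1 ∧ b ^ n = 1) :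
    Good (ZMod p) G V := by
  have := finite_hom (stab E x) K
  choose t ht using h.χ_surjective hx
  obtain ⟨col, hcol, hc⟩ := exists_isCol_mixed (A := stab E x →* Kˣ) Kˣ hn (h.pow_χ_eq_one hx hβ) h2 ho
  refine h.good_of_col hG hx hb t ht col hcol ![x, x, x, 0] (fun i => ?_) rfl (fun i hi => ?_)
    (fun n _ h1 _ => ⟨1, by simpa using h1⟩) (fun _ => True) (fun _ _ _ => trivial)
    fun a b n _ _ h1 => ?_
  · fin_cases i <;> simp [h.self_mem_W]
  · fin_cases i <;> simp_all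
  · rcases hc a with h3 | h3 <;> rcases hc b with h4 | h4 <;> rw [h3, h4] at h1 ⊢
    · exact absurd ((smul_eq_zero_iff_eq _).1 h1) hx
    · exact absurd ((smul_zero _).symm.trans h1).symm hx

omit hG hx hb [Finite G] in
include h in
theorem odd_mul {n : ℕ} (hn : Odd n) {a b : E} (ha : a ^ n = 1) (hb : b ^ n = 1) :
    (a * b) ^ n = 1 := by
  obtain ⟨c, rfl⟩ := hn
  rw [h.mul_powE, ha, hb, Nat.choose_two_right, Nat.add_sub_cancel, mul_left_comm (2 * c + 1),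
    Nat.mul_div_cancel_left _ two_pos, pow_mul, ← map_pow (h.β b), ha]
  simp

theorem good_odd [Finite K] (h2 : (2 : K) ≠ 0) {n k : ℕ} (hn : Odd n)
    (hK : Nat.card Kˣ = 2 ^ k * n) (hβ : ∀ a b, h.β a b ^ (2 * n) = 1)
    (ho : ∀ f : stab E x →* Kˣ, f ^ 2 = 1 → f = 1) : Good (ZMod p) G V := by
  have := finite_hom (stab E x) K
  choose t ht using h.χ_surjective hx
  obtain ⟨col, hcol, hc⟩ := exists_isCol_odd (A := stab E x →* Kˣ) Kˣ (by
    by_contra hc
    obtain ⟨f, hf⟩ := exists_prime_orderOf_dvd_card' 2 (Nat.not_odd_iff_even.1 hc).two_dvd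
    have h1 := ho f (hf ▸ pow_orderOf_eq_one f)
    simp [h1] at hf)
  obtain ⟨M, hM1, r, hM2⟩ : ∃ M, M ≡ 1 [MOD n] ∧ 2 ^ (k + 1) ∣ M := by
    obtain ⟨M, h1, h2⟩ := Nat.chineseRemainder (Nat.Coprime.pow_right (k + 1) hn.coprime_two_right) 1 0
    exact ⟨M, h1, (Nat.modEq_zero_iff_dvd).1 h2⟩
  have htn : ∀ a, (t a ^ M) ^ n = 1 := fun a => by
    rw [← pow_mul, hM2, show 2 ^ (k + 1) * r * n = 2 * (2 ^ k * n) * r by ring, ← hK, pow_mul,
      h.pow_two_card, one_pow]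
  have hneg : ∀ m : E, m ^ n = 1 → (m : G) • x ≠ -x := fun m hm h1 => h2 (by
    have := h.eig_pow hx (h1.trans (neg_one_smul K x).symm) hm
    rw [hn.neg_one_pow] at this
    linear_combination -this)
  have hxx : x ≠ -x := by simpa using hneg 1 (one_pow n)
  refine h.good_of_col hG hx hb (fun a => t a ^ M) (fun a => ?_) col hcol ![x, -x, x, 0]
    (fun i => ?_) rfl (fun i hi => ?_)
    (fun n _ h1 _ => ⟨1, by simpa using h1⟩) (fun m => m ^ n = 1) (fun a b g => ?_)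
    fun a b m hm _ h1 => ?_
  · rw [map_pow, ht]
    refine (pow_eq_pow_of_modEq hM1 (ho _ ?_)).trans (pow_one a)
    exact (pow_mul a n 2).symm.trans (mul_comm 2 n ▸ h.pow_χ_eq_one hx hβ a)
  · fin_cases i <;> simp [h.self_mem_W]
  · fin_cases i <;> simp_all
  · exact h.odd_mul hn (by rw [inv_pow, htn, inv_one]) (by rw [← map_pow, htn, map_one])
  · have h3 := hneg m hm
    have h4 := hc a
    have h5 := hc b
    generalize col a = c, col b = c' at h1 h4 h5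
    fin_cases c <;> fin_cases c' <;> first | rfl | exact absurd rfl h4 | exact absurd rfl h5 | skip
    all_goals simp [smul_eq_zero_iff_eq, hx, hx.symm, h3, neg_eq_iff_eq_neg] at h1

omit hG hx hb in
theorem β_sq [Finite K] {n k : ℕ} (hn : Odd n) (hK : Nat.card Kˣ = 2 ^ k * n)
    (hβ : ∀ a b, h.β a b ^ (2 * n) = 1) (hx : IsMx E x)
    (ho : ∀ f : stab E x →* Kˣ, f ^ n = 1 → f = 1) (a b : E) : h.β a b ^ 2 = 1 := by
  have h1 : ∀ e : E, e ^ n = 1 → h.χ x e = 1 := fun e he => ho _ ((map_pow (h.χ x) e n).symm.trans (by rw [he, map_one]))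
  have h2 := h.iso (S := {g | ∃ e : E, e ^ n = 1 ∧ e = g}) (by rintro _ ⟨e, -, rfl⟩; exact e.2)
    (by
      rintro g _ ⟨e, he, rfl⟩
      exact ⟨_, ⟨h.cE g e, by rw [← map_pow, he, map_one], rfl⟩, 1, by simp [coe_cE]⟩)
    (by
      rintro _ ⟨e, he, rfl⟩ _ ⟨f, hf, rfl⟩
      exact h.β_eq_one_iff.1 (h.β_of_S hx.1 (h.mem_S_of_pow hx (h1 e he)
        (by rw [hK, mul_comm, pow_mul, he, one_pow])) (h1 f hf)))
  have h3 := h.β_of_mem_range (a := a ^ 2 ^ (k + 1)) (h2 _ ⟨_, by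
    rw [← pow_mul, show 2 ^ (k + 1) * n = 2 * (2 ^ k * n) by ring, ← hK, h.pow_two_card], rfl⟩) b
  rw [map_pow, MonoidHom.pow_apply, pow_succ', pow_mul] at h3
  exact (pow_eq_one_iff_of_coprime (Nat.Coprime.pow_left k hn.coprime_two_left)).1
    ⟨h3, by rw [← pow_mul, hβ]⟩

omit hG hx hb in
theorem exists_four [Finite K] (h2 : (2 : K) ≠ 0) (he : 2 ∣ Nat.card Kˣ)
    (hsq : ∀ a b, h.β a b ^ 2 = 1) (e : E) : ∃ w, (e * h.ιE w) ^ 4 = 1 := by
  obtain ⟨r, hr⟩ := he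
  obtain ⟨u, hu⟩ := h.exists_pow_eq (hsq e)
  obtain ⟨w, hw⟩ := exists_fourth h2 hr (u := u) fun ⟨c, hc⟩ => h.ιE_inj (by
    rw [map_pow, ← hu, ← pow_mul, ← hr, h.pow_card_of_four ⟨c, by omega⟩, map_one])
  refine ⟨w⁻¹, ?_⟩
  rw [(h.ιE_comm _ _).symm.mul_pow, ← map_pow, inv_pow, hw, show 4 = 2 * 2 from rfl, pow_mul, hu,
    ← map_pow, ← map_mul, mul_inv_cancel, map_one]

omit hG hx hb [Finite G] in
theorem four_mul (hsq : ∀ a b, h.β a b ^ 2 = 1) {a b : E} (ha : a ^ 4 = 1) (hb : b ^ 4 = 1) :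
    (a * b) ^ 4 = 1 := by
  rw [h.mul_powE, ha, hb, show Nat.choose 4 2 = 2 * 3 from rfl, pow_mul, hsq]
  simp

theorem good_two [Finite K] (h2 : (2 : K) ≠ 0) (he : 2 ∣ Nat.card Kˣ)
    (hsq : ∀ a b, h.β a b ^ 2 = 1) {γ : Kˣ} (hγ : γ ^ 4 ≠ 1) {z : V} (hz : z ∈ h.W x) (hz0 : z ≠ 0)
    (hs : ∀ n : E, n ^ 4 = 1 → (n : G) • x ≠ z ∧ (n : G) • (γ : K) • x ≠ z) :
    Good (ZMod p) G V := by
  have := finite_hom (stab E x) K
  choose t ht using h.χ_surjective hx
  choose w hw using h.exists_four h2 he hsq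
  obtain ⟨col, hcol, -⟩ := exists_isCol_two (A := stab E x →* Kˣ) Kˣ fun a => by
    rw [← pow_two, h.pow_χ_eq_one hx hsq]
  have key : ∀ n : E, n ^ 4 = 1 → ∀ c c' : Fin 4, c < c' →
      (n : G) • ![x, (γ : K) • x, z, 0] c ≠ ![x, (γ : K) • x, z, 0] c' := by
    intro n hn c c' hc
    have h1 : (n : G) • x ≠ (γ : K) • x := fun h1 =>
      hγ (Units.ext (by simpa using h.eig_pow hx h1 hn))
    have h3 := hs n hn
    fin_cases c <;> fin_cases c' <;> simp at hc <;>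
      simp [smul_eq_zero_iff_eq, hx, hz0, h1, h3]
  refine h.good_of_col hG hx hb (fun a => t a * h.ιE (w (t a))) (fun a => ?_) col hcol
    ![x, (γ : K) • x, z, 0] (fun i => ?_) rfl (fun i hi => ?_)
    (fun n _ h1 _ => ⟨1, ?_⟩) (fun m => m ^ 4 = 1) (fun a b g => ?_)
    fun a b m hm _ h1 => ?_
  · rw [map_mul, ht, χ_ιE]; exact mul_one a
  · fin_cases i <;> simp [h.self_mem_W, hz]
  · fin_cases i <;> simp_all
  · simpa [h.linE n.2] using h1
  · exact h.four_mul hsq (by rw [inv_pow, hw, inv_one]) (by rw [← map_pow, hw, map_one])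
  · rcases lt_trichotomy (col a) (col b) with h3 | h3 | h3
    · exact absurd h1 (key m hm _ _ h3)
    · exact h3
    · exact absurd (inv_smul_eq_iff.2 h1.symm) (key m⁻¹ (by rw [inv_pow, hm, inv_one]) _ _ h3)

theorem good_two_gen [Finite K] (h2 : (2 : K) ≠ 0) (he : 2 ∣ Nat.card Kˣ)
    (hsq : ∀ a b, h.β a b ^ 2 = 1) {γ : Kˣ} (hγ : γ ^ 8 ≠ 1) : Good (ZMod p) G V := by
  have h4 : γ ^ 4 ≠ 1 := fun h4 => hγ (by rw [show 8 = 4 * 2 from rfl, pow_mul, h4, one_pow])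
  refine h.good_two hG hx hb h2 he hsq h4 (z := (γ : K) • (γ : K) • x)
    (Submodule.smul_mem _ _ (Submodule.smul_mem _ _ (h.self_mem_W x))) (by simpa using hx)
    fun n hn => ⟨fun h1 => hγ ?_, fun h1 => h4 ?_⟩
  · rw [smul_smul] at h1
    have := h.eig_pow hx h1 hn
    rw [← pow_two, ← pow_mul] at this
    exact Units.ext (by simpa using this)
  · exact Units.ext (by simpa using h.eig_pow (by simpa using hx) h1 hn)

end EData

end Base2
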