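import Mathlib

/-! Generating chains in finite abelian groups and rigid subsets for automorphisms. -/

set_option autoImplicit false

namespace Base2

open Subgroup

variable {A : Type*} [CommGroup A]

/-- The subgroup generated by the first `k` terms of `e`. -/
def lev (e : ℕ → A) (k : ℕ) : Subgroup A := closure (e '' Set.Iio k)

theorem lev_mono (e : ℕ → A) {j k : ℕ} (h : j ≤ k) : lev e j ≤ lev e k :=
  closure_mono (Set.image_mono (Set.Iio_subset_Iio h))

theorem mem_lev (e : ℕ → A) {j k : ℕ} (h : j < k) : e j ∈ lev e k :=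
  subset_closure ⟨j, h, rfl⟩

theorem lev_zero (e : ℕ → A) : lev e 0 = ⊥ := by
  simp [lev]

theorem lev_succ (e : ℕ → A) (k : ℕ) : lev e (k + 1) = lev e k ⊔ zpowers (e k) := by
  have : Set.Iio (k + 1) = Set.Iio k ∪ {k} := by
    ext j; simp only [Set.mem_Iio, Set.mem_union, Set.mem_singleton_iff]; omega
  rw [lev, this, Set.image_union, Subgroup.closure_union, Set.image_singleton, zpowers_eq_closure]
  rfl

theorem lev_one (e : ℕ → A) : lev e 1 = zpowers (e 0) := by
  rw [lev_succ, lev_zero, bot_sup_eq]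

theorem fix_lev (e : ℕ → A) (L : A →* A) {k : ℕ} (h : ∀ j < k, L (e j) = e j) :
    ∀ a ∈ lev e k, L a = a := by
  intro a ha
  have : Set.EqOn L (MonoidHom.id A) (e '' Set.Iio k) := by
    rintro _ ⟨j, hj, rfl⟩; exact h j hj
  exact MonoidHom.eqOn_closure this ha

/-- `e` is a chain of length `d`. -/
def IsChain (e : ℕ → A) (d : ℕ) : Prop := ∀ k < d, e k ∉ lev e k

theorem IsChain.two_pow_le_card [Finite A] {e : ℕ → A} {d : ℕ} (h : IsChain e d) :
    ∀ k ≤ d, 2 ^ k ≤ Nat.card (lev e k) := by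
  intro k
  induction k with
  | zero => intro _; simp [lev_zero]
  | succ k ih =>
    intro hk
    have h1 := ih (by omega)
    have hle : lev e k ≤ lev e (k + 1) := lev_mono e (by omega)
    have hd := card_dvd_of_le hle
    have hne : Nat.card (lev e k) ≠ Nat.card (lev e (k + 1)) := by
      intro hc
      have := eq_of_le_of_card_ge hle hc.ge
      exact h k (by omega) (this ▸ mem_lev e (Nat.lt_succ_self k))
    obtain ⟨m, hm⟩ := hd
    have hpos : 0 < Nat.card (lev e (k + 1)) := Nat.card_pos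
    have hm2 : 2 ≤ m := by
      rcases m with _ | _ | m
      · simp [hm] at hpos
      · simp [hm] at hne
      · omega
    calc 2 ^ (k + 1) = 2 ^ k * 2 := pow_succ _ _
      _ ≤ Nat.card (lev e k) * m := Nat.mul_le_mul h1 hm2
      _ = _ := hm.symm

theorem exists_chain (A : Type*) [CommGroup A] [Finite A] :
    ∃ (e : ℕ → A) (d : ℕ), IsChain e d ∧ lev e d = ⊤ := by
  classical
  let P : ℕ → Prop := fun n => ∃ e : ℕ → A, IsChain e n
  have hP0 : P 0 := ⟨fun _ => 1, fun k hk => absurd hk (Nat.not_lt_zero k)⟩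
  have hb : ∀ n, P n → n ≤ Nat.card A := by
    rintro n ⟨e, he⟩
    have h1 := he.two_pow_le_card n le_rfl
    have h2 : Nat.card (lev e n) ≤ Nat.card A := card_le_card_group _
    have h3 : n < 2 ^ n := Nat.lt_two_pow_self
    omega
  obtain ⟨e, he⟩ : P (Nat.findGreatest P (Nat.card A)) :=
    Nat.findGreatest_spec (Nat.zero_le _) hP0
  set d := Nat.findGreatest P (Nat.card A) with hd
  refine ⟨e, d, he, ?_⟩
  by_contra hne
  obtain ⟨a, ha⟩ : ∃ a, a ∉ lev e d := by
    by_contra hall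
    push Not at hall
    exact hne (eq_top_iff.2 fun a _ => hall a)
  have hl : ∀ k ≤ d, lev (Function.update e d a) k = lev e k := by
    intro k hk
    unfold lev
    congr 1
    apply Set.image_congr
    intro j hj
    have : j ≠ d := by have : j < k := hj; omega
    simp [this]
  have hP : P (d + 1) := by
    refine ⟨Function.update e d a, fun k hk => ?_⟩
    rw [hl k (by omega)]
    rcases Nat.lt_succ_iff_lt_or_eq.1 hk with h | h
    · rw [Function.update_of_ne h.ne]; exact he k h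
    · subst h; simpa using ha
  have := Nat.le_findGreatest (hb _ hP) hP
  omega

theorem IsChain.mul_not_mem {e : ℕ → A} {d : ℕ} (h : IsChain e d) {k : ℕ} (hk : k < d) {y : A}
    (hy : y ∈ lev e k) : e k * y ∉ lev e k := fun hc =>
  h k hk (by simpa using mul_mem hc (inv_mem hy))

theorem mul_mem_lev_succ (e : ℕ → A) {k : ℕ} {y : A} (hy : y ∈ lev e k) :
    e k * y ∈ lev e (k + 1) :=
  mul_mem (mem_lev e (Nat.lt_succ_self k)) (lev_mono e (Nat.le_succ k) hy)

theorem IsChain.ne_one {e : ℕ → A} {d : ℕ} (h : IsChain e d) {k : ℕ} (hk : k < d) : e k ≠ 1 :=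
  fun hc => h k hk (hc ▸ one_mem _)

/-- Two elements at levels `j`, `j'` differing by an element of a lower level have `j = j'`. -/
theorem IsChain.level_eq {e : ℕ → A} {d : ℕ} (h : IsChain e d) {j j' k : ℕ} (hj : j < d)
    (hj' : j' < d) (hkj : k ≤ j) (hkj' : k ≤ j') {y y' z : A} (hy : y ∈ lev e j)
    (hy' : y' ∈ lev e j') (hz : z ∈ lev e k) (heq : e j' * y' = e j * y * z) : j = j' := by
  rcases lt_trichotomy j j' with hlt | heq' | hlt
  · exfalso
    apply h.mul_not_mem hj' hy'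
    rw [heq]
    exact mul_mem (lev_mono e hlt (mul_mem_lev_succ e hy)) (lev_mono e hkj' hz)
  · exact heq'
  · exfalso
    apply h.mul_not_mem hj hy
    have : e j * y = e j' * y' * z⁻¹ := by rw [heq]; simp
    rw [this]
    exact mul_mem (lev_mono e hlt (mul_mem_lev_succ e hy')) (inv_mem (lev_mono e hkj hz))

theorem not_mem_of_fix {L : A →* A} (hL : Function.Injective L) {S : Subgroup A}
    (hS : ∀ a ∈ S, L a = a) {a : A} (ha : a ∉ S) : L a ∉ S := fun hc =>
  ha (hL (hS _ hc) ▸ hc)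

/-- Rigidity of the sets of pairs `{e k, e k * e (k - 1)}`. -/
theorem IsChain.fix_of_pairs {e : ℕ → A} {d : ℕ} (h : IsChain e d)
    (h2 : ∀ a : A, a ^ 2 = 1 → a = 1) {k0 : ℕ} (hk0 : 1 ≤ k0) {T : Set A}
    (hT1 : ∀ k, k0 ≤ k → k < d → e k ∈ T ∧ e k * e (k - 1) ∈ T)
    (hT2 : ∀ u ∈ T, u ∉ lev e k0 → ∃ k, k0 ≤ k ∧ k < d ∧ (u = e k ∨ u = e k * e (k - 1)))
    {L : A →* A} (hL : Function.Injective L) (hLT : ∀ u ∈ T, u ∉ lev e k0 → L u ∈ T)
    (h0 : ∀ j < k0, L (e j) = e j) : ∀ a ∈ lev e d, L a = a := by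
  apply fix_lev
  intro k
  induction k using Nat.strong_induction_on with
  | _ k ih =>
  intro hk
  rcases lt_or_ge k k0 with hlt | hge
  · exact h0 k hlt
  have hfix : ∀ a ∈ lev e k, L a = a := fix_lev e L fun j hj => ih j hj (by omega)
  have hm : e (k - 1) ∈ lev e k := mem_lev e (by omega)
  have hn1 : e k ∉ lev e k := h k hk
  have hn2 : e k * e (k - 1) ∉ lev e k := h.mul_not_mem hk hm
  have hle : lev e k0 ≤ lev e k := lev_mono e hge
  obtain ⟨t1, t2⟩ := hT1 k hge hk
  have u1 := hLT _ t1 fun hc => hn1 (hle hc)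
  have u2 := hLT _ t2 fun hc => hn2 (hle hc)
  have v1 := not_mem_of_fix hL hfix hn1
  have v2 := not_mem_of_fix hL hfix hn2
  rw [map_mul, hfix _ hm] at u2 v2
  set u := L (e k) with hu
  obtain ⟨j, hj0, hjd, hj⟩ := hT2 _ u1 fun hc => v1 (hle hc)
  obtain ⟨j', hj0', hjd', hj'⟩ := hT2 _ u2 fun hc => v2 (hle hc)
  have hmj : e (j - 1) ∈ lev e j := mem_lev e (by omega)
  have hmj' : e (j' - 1) ∈ lev e j' := mem_lev e (by omega)
  obtain ⟨y, hy, hyu, hy1⟩ : ∃ y ∈ lev e j, u = e j * y ∧ (y = 1 ∨ y = e (j - 1)) := by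
    rcases hj with hj | hj
    · exact ⟨1, one_mem _, by simpa using hj, Or.inl rfl⟩
    · exact ⟨_, hmj, hj, Or.inr rfl⟩
  obtain ⟨y', hy', hyu', hy1'⟩ : ∃ y ∈ lev e j', u * e (k - 1) = e j' * y ∧
      (y = 1 ∨ y = e (j' - 1)) := by
    rcases hj' with hj' | hj'
    · exact ⟨1, one_mem _, by simpa using hj', Or.inl rfl⟩
    · exact ⟨_, hmj', hj', Or.inr rfl⟩
  have hkj : k ≤ j := by
    by_contra hc
    exact v1 (hyu ▸ lev_mono e (by omega) (mul_mem_lev_succ e hy))
  have hkj' : k ≤ j' := by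
    by_contra hc
    exact v2 (hyu' ▸ lev_mono e (by omega) (mul_mem_lev_succ e hy'))
  have hjj : j = j' := h.level_eq hjd hjd' hkj hkj' hy hy' hm (by rw [← hyu', ← hyu])
  subst hjj
  have hyy : y' = y * e (k - 1) := by
    apply mul_left_cancel (a := e j)
    rw [← hyu', hyu, mul_assoc]
  have hk1 : e (k - 1) ≠ 1 := h.ne_one (by omega)
  have hjk : j = k := by
    by_contra hne
    have hlt : k ≤ j - 1 := by omega
    apply h (j - 1) (by omega)
    apply lev_mono e hlt
    rcases hy1 with rfl | rfl <;> rcases hy1' with h' | h'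
    · rw [h', one_mul] at hyy; exact absurd hyy.symm hk1
    · rw [← h', hyy, one_mul]; exact hm
    · rw [h'] at hyy
      rw [eq_inv_of_mul_eq_one_left hyy.symm]; exact inv_mem hm
    · rw [h'] at hyy; exact absurd (left_eq_mul.1 hyy) hk1
  subst hjk
  rcases hy1 with rfl | rfl
  · simpa using hyu
  · exfalso
    rcases hy1' with h' | h'
    · rw [h'] at hyy; exact hk1 (h2 _ (by rw [sq]; exact hyy.symm))
    · rw [h'] at hyy; exact hk1 (left_eq_mul.1 hyy)

/-- Rigidity of the sets of triples in exponent two; the top level may be a single point. -/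
theorem IsChain.fix_of_triples {e : ℕ → A} {d : ℕ} (h : IsChain e d) (htop : lev e d = ⊤)
    (h2 : ∀ a : A, a * a = 1) {k0 : ℕ} (hk0 : 2 ≤ k0) {T : Set A}
    (hT1 : ∀ k, k0 ≤ k → k < d → e k ∈ T ∧ ((e k * e (k - 1) ∈ T ∧ e k * e (k - 2) ∈ T) ∨
      (k + 1 = d ∧ ∀ u ∈ T, u ∉ lev e k → u = e k)))
    (hT2 : ∀ u ∈ T, u ∉ lev e k0 → ∃ k, k0 ≤ k ∧ k < d ∧
      (u = e k ∨ u = e k * e (k - 1) ∨ u = e k * e (k - 2)))
    {L : A →* A} (hL : Function.Injective L) (hLT : ∀ u ∈ T, u ∉ lev e k0 → L u ∈ T)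
    (h0 : ∀ j < k0, L (e j) = e j) : ∀ a, L a = a := by
  suffices hs : ∀ a ∈ lev e d, L a = a from fun a => hs a (htop ▸ mem_top a)
  apply fix_lev
  intro k
  induction k using Nat.strong_induction_on with
  | _ k ih =>
  intro hk
  rcases lt_or_ge k k0 with hlt | hge
  · exact h0 k hlt
  have hfix : ∀ a ∈ lev e k, L a = a := fix_lev e L fun j hj => ih j hj (by omega)
  have hm : e (k - 1) ∈ lev e k := mem_lev e (by omega)
  have hm' : e (k - 2) ∈ lev e k := mem_lev e (by omega)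
  have hn1 : e k ∉ lev e k := h k hk
  have hle : lev e k0 ≤ lev e k := lev_mono e hge
  obtain ⟨t1, t2⟩ := hT1 k hge hk
  have u1 := hLT _ t1 fun hc => hn1 (hle hc)
  have v1 := not_mem_of_fix hL hfix hn1
  rcases t2 with ⟨t2, t3⟩ | ⟨-, t2⟩
  swap
  · exact t2 _ u1 v1
  set u := L (e k) with hu
  have key : ∀ z ∈ lev e k, e k * z ∈ T → ∃ j, k ≤ j ∧ j < d ∧ ∃ y ∈ lev e j,
      u * z = e j * y ∧ (y = 1 ∨ y = e (j - 1) ∨ y = e (j - 2)) := by
    intro z hz ht
    have hn := h.mul_not_mem hk hz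
    have u2 := hLT _ ht fun hc => hn (hle hc)
    have v2 := not_mem_of_fix hL hfix hn
    rw [map_mul, hfix _ hz] at u2 v2
    obtain ⟨j, hj0, hjd, hj⟩ := hT2 _ u2 fun hc => v2 (hle hc)
    obtain ⟨y, hy, hyu, hy1⟩ : ∃ y ∈ lev e j, u * z = e j * y ∧
        (y = 1 ∨ y = e (j - 1) ∨ y = e (j - 2)) := by
      rcases hj with hj | hj | hj
      · exact ⟨1, one_mem _, by simpa using hj, Or.inl rfl⟩
      · exact ⟨_, mem_lev e (by omega), hj, Or.inr (Or.inl rfl)⟩
      · exact ⟨_, mem_lev e (by omega), hj, Or.inr (Or.inr rfl)⟩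
    refine ⟨j, ?_, hjd, y, hy, hyu, hy1⟩
    by_contra hc
    exact v2 (hyu ▸ lev_mono e (by omega) (mul_mem_lev_succ e hy))
  obtain ⟨j, hkj, hjd, y, hy, hyu, hy1⟩ := key 1 (one_mem _) (by simpa using t1)
  obtain ⟨j', hkj', hjd', y', hy', hyu', hy1'⟩ := key _ hm t2
  obtain ⟨j'', hkj'', hjd'', y'', hy'', hyu'', hy1''⟩ := key _ hm' t3
  rw [mul_one] at hyu
  obtain rfl : j = j' := h.level_eq hjd hjd' hkj hkj' hy hy' hm (by rw [← hyu', ← hyu])
  obtain rfl : j = j'' := h.level_eq hjd hjd'' hkj hkj'' hy hy'' hm' (by rw [← hyu'', ← hyu])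
  have e1 : y' = y * e (k - 1) := by
    apply mul_left_cancel (a := e j); rw [← hyu', hyu, mul_assoc]
  have e2 : y'' = y * e (k - 2) := by
    apply mul_left_cancel (a := e j); rw [← hyu'', hyu, mul_assoc]
  have hk1 : e (k - 1) ≠ 1 := h.ne_one (by omega)
  have hk2 : e (k - 2) ≠ 1 := h.ne_one (by omega)
  have hk3 : e (k - 1) ≠ e (k - 2) := fun hc =>
    h (k - 1) (by omega) (hc ▸ mem_lev e (by omega))
  have n1 : y' ≠ y := by rw [e1]; simpa using hk1
  have n2 : y'' ≠ y := by rw [e2]; simpa using hk2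
  have n3 : y'' ≠ y' := by rw [e1, e2]; simpa using hk3.symm
  have hinv : ∀ a : A, a⁻¹ = a := fun a => inv_eq_of_mul_eq_one_right (h2 a)
  have hprod : y * y' * y'' = e (j - 1) * e (j - 2) := by
    rcases hy1 with h1 | h1 | h1 <;> rcases hy1' with h1' | h1' | h1' <;>
      rcases hy1'' with h1'' | h1'' | h1'' <;>
      first
      | exact absurd (h1'.trans h1.symm) n1
      | exact absurd (h1''.trans h1.symm) n2
      | exact absurd (h1''.trans h1'.symm) n3
      | (rw [h1, h1', h1'']; simp [mul_comm])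
  have hy1mem : y ∈ lev e k := by
    by_contra hc
    have c1 : y' ∉ lev e k := fun hh => hc (by simpa [e1] using mul_mem hh (inv_mem hm))
    have c2 : y'' ∉ lev e k := fun hh => hc (by simpa [e2] using mul_mem hh (inv_mem hm'))
    have d0 : y ≠ 1 := fun hh => hc (hh ▸ one_mem _)
    have d1 : y' ≠ 1 := fun hh => c1 (hh ▸ one_mem _)
    have d2 : y'' ≠ 1 := fun hh => c2 (hh ▸ one_mem _)
    rcases hy1 with h1 | h1 | h1 <;> rcases hy1' with h1' | h1' | h1' <;>
      rcases hy1'' with h1'' | h1'' | h1'' <;>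
      first
      | exact d0 h1
      | exact d1 h1'
      | exact d2 h1''
      | exact absurd (h1'.trans h1.symm) n1
      | exact absurd (h1''.trans h1.symm) n2
      | exact absurd (h1''.trans h1'.symm) n3
  have hjk : j = k := by
    by_contra hne
    have hall : y * y' * y'' ∈ lev e k := by
      rw [e1, e2]
      exact mul_mem (mul_mem hy1mem (mul_mem hy1mem hm)) (mul_mem hy1mem hm')
    rw [hprod] at hall
    exact h.mul_not_mem (k := j - 1) (by omega) (mem_lev e (by omega))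
      (lev_mono e (by omega) hall)
  subst hjk
  have : y * y * y * (e (j - 1) * e (j - 2)) = e (j - 1) * e (j - 2) := by
    have h3 := hprod
    rw [e1, e2] at h3
    rw [← h3.symm.symm]
    conv_lhs => rw [h3]
    simp only [mul_assoc, mul_left_comm]
  rw [h2, one_mul, mul_eq_right] at this
  rw [hyu, this, mul_one]

theorem mem_lev_succ_two (h2 : ∀ a : A, a * a = 1) (e : ℕ → A) (k : ℕ) {x : A} :
    x ∈ lev e (k + 1) ↔ x ∈ lev e k ∨ e k * x ∈ lev e k := by
  constructor
  · intro hx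
    rw [lev_succ, mem_sup] at hx
    obtain ⟨y, hy, z, ⟨n, rfl⟩, rfl⟩ := hx
    have h2' : e k ^ (2 : ℤ) = 1 := by rw [zpow_two]; exact h2 _
    rcases Int.even_or_odd' n with ⟨m, rfl | rfl⟩
    · left; simpa [zpow_mul, h2'] using hy
    · right
      simp only [zpow_add, zpow_mul, h2', one_zpow, one_mul, zpow_one]
      rw [mul_left_comm, h2, mul_one]; exact hy
  · rintro (hx | hx)
    · exact lev_mono e (Nat.le_succ k) hx
    · have := mul_mem_lev_succ e hx
      rwa [← mul_assoc, h2, one_mul] at this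

theorem IsChain.card_lev_two [Finite A] {e : ℕ → A} {d : ℕ} (h : IsChain e d)
    (h2 : ∀ a : A, a * a = 1) : ∀ k ≤ d, Nat.card (lev e k) = 2 ^ k := by
  intro k
  induction k with
  | zero => intro _; simp [lev_zero]
  | succ k ih =>
    intro hk
    refine le_antisymm ?_ (h.two_pow_le_card _ hk)
    have hs : (lev e (k + 1) : Set A) ⊆ (lev e k : Set A) ∪ (fun x => e k * x) '' (lev e k) := by
      intro x hx
      rcases (mem_lev_succ_two h2 e k).1 hx with h1 | h1
      · exact Or.inl h1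
      · exact Or.inr ⟨_, h1, by simp only; rw [← mul_assoc, h2, one_mul]⟩
    have h1 := Set.ncard_le_ncard hs
    have h3 := Set.ncard_union_le (lev e k : Set A) ((fun x => e k * x) '' (lev e k))
    have h4 := Set.ncard_image_le (f := fun x => e k * x) (s := (lev e k : Set A))
    have h5 : (lev e k : Set A).ncard = 2 ^ k := ih (by omega)
    have h6 : Nat.card (lev e (k + 1)) = (lev e (k + 1) : Set A).ncard := rfl
    rw [h6, pow_succ]
    omega

theorem IsChain.card_two [Finite A] {e : ℕ → A} {d : ℕ} (h : IsChain e d) (htop : lev e d = ⊤)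
    (h2 : ∀ a : A, a * a = 1) : Nat.card A = 2 ^ d := by
  rw [← h.card_lev_two h2 d le_rfl, htop, card_top]

end Base2
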