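import Cfsg.Agent.Lib.Base.Chain

/-! Rigid colourings of finite abelian groups. -/

set_option autoImplicit false

namespace Base2

open Subgroup Function

variable {A : Type*} [CommGroup A] {M : Type*} [CommGroup M]

/-- The cubic identity satisfied by quadratic functions. -/
def Cubic (c : A → M) : Prop :=
  ∀ a b d, c (a * b * d) * c a * c b * c d = c (a * b) * c (a * d) * c (b * d)

theorem Cubic.one {c : A → M} (h : Cubic c) : c 1 = 1 := by
  have := h 1 1 1
  simpa using this

/-- Colours: `0` regular, `1`, `2` non-zero, `3` zero. -/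
structure IsCol (M : Type*) [CommGroup M] (col : A → Fin 4) : Prop where
  reg : ∀ L : A →* A, Injective L → (∀ a, a ≠ 1 → col (L a) = col a) → ∀ a, L a = a
  gen : ∀ S : Subgroup A, (∀ a, a ≠ 1 → col a = 0 → a ∈ S) →
    (∀ a a', a ≠ 1 → a' ≠ 1 → col a = 1 → col a' = 2 → a * a'⁻¹ ∈ S → a ∈ S) → S = ⊤
  det : ∀ c : A → M, Cubic c → (∀ a, a ≠ 1 → col a ≠ 3 → c a = 1) → ∀ a, c a = 1

theorem lev_le {e : ℕ → A} {d : ℕ} {S : Subgroup A} (h : ∀ j < d, e j ∈ S) : lev e d ≤ S := by
  rw [lev, Subgroup.closure_le]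
  rintro _ ⟨j, hj, rfl⟩; exact h j hj

theorem map_ne_one' {L : A →* A} (hL : Injective L) {a : A} (ha : a ≠ 1) : L a ≠ 1 :=
  fun h => ha (hL (h.trans (map_one L).symm))

theorem isCol_small [Finite A] (h : Nat.card A ≤ 2) : IsCol M (fun _ : A => 0) := by
  have huniq : ∀ a b : A, a ≠ 1 → b ≠ 1 → a = b := by
    intro a b ha hb
    by_contra hab
    classical
    have := Fintype.ofFinite A
    have h3 : ({1, a, b} : Finset A).card = 3 := by
      rw [Finset.card_eq_three]
      exact ⟨1, a, b, ha.symm, hb.symm, hab, rfl⟩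
    have := Finset.card_le_univ ({1, a, b} : Finset A)
    rw [Nat.card_eq_fintype_card] at h
    omega
  refine ⟨fun L hL _ a => ?_, fun S h1 _ => ?_, fun c hc h1 a => ?_⟩
  · by_cases ha : a = 1
    · simp [ha]
    · exact huniq _ _ (map_ne_one' hL ha) ha
  · rw [eq_top_iff]; intro a _
    by_cases ha : a = 1
    · exact ha ▸ one_mem _
    · exact h1 a ha rfl
  · by_cases ha : a = 1
    · exact ha ▸ hc.one
    · exact h1 a ha (by decide)

/-- The set of all triples at levels `k0 ≤ k < d`. -/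
def triples (e : ℕ → A) (k0 d : ℕ) : Set A :=
  {u | ∃ k, k0 ≤ k ∧ k < d ∧ (u = e k ∨ u = e k * e (k - 1) ∨ u = e k * e (k - 2))}

theorem IsChain.triples_not_mem {e : ℕ → A} {d : ℕ} (h : IsChain e d) {k0 d' : ℕ} (hk0 : 1 ≤ k0)
    (hd : d' ≤ d) {u : A} (hu : u ∈ triples e k0 d') : u ∉ lev e k0 := by
  obtain ⟨k, h1, h2, h3⟩ := hu
  intro hc
  have hc' := lev_mono e h1 hc
  rcases h3 with rfl | rfl | rfl
  · exact h k (by omega) hc'
  · exact h.mul_not_mem (by omega) (mem_lev e (by omega)) hc'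
  · exact h.mul_not_mem (by omega) (mem_lev e (by omega)) hc'

theorem IsChain.fix_of_triples' {e : ℕ → A} {d : ℕ} (h : IsChain e d) (htop : lev e d = ⊤)
    (h2 : ∀ a : A, a * a = 1) {k0 : ℕ} (hk0 : 2 ≤ k0)
    {L : A →* A} (hL : Injective L) (hLT : ∀ u ∈ triples e k0 d, L u ∈ triples e k0 d)
    (h0 : ∀ j < k0, L (e j) = e j) : ∀ a, L a = a :=
  h.fix_of_triples htop h2 hk0 (T := triples e k0 d)
    (fun k h1 h2 => ⟨⟨k, h1, h2, Or.inl rfl⟩, Or.inl ⟨⟨k, h1, h2, Or.inr (Or.inl rfl)⟩,
      ⟨k, h1, h2, Or.inr (Or.inr rfl)⟩⟩⟩)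
    (fun _ hu _ => hu) hL (fun u hu _ => hLT u hu) h0

theorem IsChain.ne {e : ℕ → A} {d : ℕ} (h : IsChain e d) {j k : ℕ} (hjk : j < k) (hk : k < d) :
    e k ≠ e j := fun hc => h k hk (hc ▸ mem_lev e hjk)

theorem exists_isCol_two (M : Type*) [CommGroup M] [Finite A] (h2 : ∀ a : A, a * a = 1) :
    ∃ col : A → Fin 4, IsCol M col ∧ (Nontrivial A → ∃ a, a ≠ 1 ∧ col a = 0) := by
  classical
  obtain ⟨e, d, he, htop⟩ := exists_chain A
  have hcard := he.card_two htop h2
  rcases Nat.lt_or_ge d 2 with hd | hd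
  · refine ⟨fun _ => 0, isCol_small ?_, fun hn => ?_⟩
    · rw [hcard]; interval_cases d <;> norm_num
    · obtain ⟨a, ha⟩ := exists_ne (1 : A); exact ⟨a, ha, rfl⟩
  have h10 : e 1 ≠ e 0 := he.ne (by omega) (by omega)
  have h0 : e 0 ≠ 1 := he.ne_one (by omega)
  have h1 : e 1 ≠ 1 := he.ne_one (by omega)
  rcases Nat.eq_or_lt_of_le hd with rfl | hd3
  · refine ⟨fun a => if a = e 0 then 0 else if a = e 1 then 1 else 2, ⟨?_, ?_, ?_⟩, ?_⟩
    · intro L hL hc a
      apply fix_lev e L (k := 2) _ a (htop ▸ mem_top a)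
      intro j hj
      interval_cases j
      · have := hc _ h0
        by_contra hne
        simp only [hne, if_false, if_true] at this
        split_ifs at this <;> simp at this
      · have := hc _ h1
        by_contra hne
        simp only [hne, h10, if_false, if_true] at this
        split_ifs at this <;> simp at this
    · intro S hS hS'
      have s0 : e 0 ∈ S := hS _ h0 (by simp)
      have n1 : e 1 * e 0 ≠ e 0 := by simpa using h1
      have n2 : e 1 * e 0 ≠ e 1 := by simpa using h0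
      have n3 : e 1 * e 0 ≠ 1 := fun hc => he.mul_not_mem (k := 1) (by omega)
        (mem_lev e (by omega)) (hc ▸ one_mem _)
      have s1 : e 1 ∈ S := hS' _ (e 1 * e 0) h1 n3 (by simp [h10]) (by simp [n1, n2])
        (by simpa using inv_mem s0)
      rw [eq_top_iff, ← htop]
      apply lev_le
      intro j hj; interval_cases j <;> assumption
    · intro c hc h a
      by_cases ha : a = 1
      · exact ha ▸ hc.one
      · apply h a ha; split_ifs <;> decide
    · intro _; exact ⟨e 0, h0, by simp⟩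
  · set T := triples e 2 d with hT
    have hTn : ∀ u ∈ T, u ≠ e 0 ∧ u ≠ e 1 ∧ u ≠ 1 := by
      intro u hu
      have := he.triples_not_mem (by omega) le_rfl hu
      exact ⟨fun hc => this (hc ▸ mem_lev e (by omega)), fun hc => this (hc ▸ mem_lev e (by omega)),
        fun hc => this (hc ▸ one_mem _)⟩
    have t0 : e 2 ∈ T := ⟨2, le_rfl, hd3, Or.inl rfl⟩
    have t1 : e 2 * e 1 ∈ T := ⟨2, le_rfl, hd3, Or.inr (Or.inl rfl)⟩
    have t2 : e 2 * e 0 ∈ T := ⟨2, le_rfl, hd3, Or.inr (Or.inr rfl)⟩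
    refine ⟨fun a => if a = e 0 then 3 else if a = e 1 then 1 else if a ∈ T then 0 else 2,
      ⟨?_, ?_, ?_⟩, ?_⟩
    · intro L hL hc
      apply he.fix_of_triples' htop h2 le_rfl hL
      · intro u hu
        obtain ⟨n0, n1, n2⟩ := hTn u hu
        have := hc _ n2
        by_contra hne
        rw [← hT] at hne hu
        simp only [hne, n0, n1, hu, if_false, if_true] at this
        split_ifs at this <;> simp at this
      · intro j hj
        interval_cases j
        · have := hc _ h0
          by_contra hne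
          simp only [hne, if_false, if_true] at this
          split_ifs at this <;> simp at this
        · have := hc _ h1
          by_contra hne
          simp only [hne, h10, if_false, if_true] at this
          split_ifs at this <;> simp at this
    · intro S hS _
      have hTS : ∀ u ∈ T, u ∈ S := by
        intro u hu
        obtain ⟨n0, n1, n2⟩ := hTn u hu
        exact hS u n2 (by simp [n0, n1, hu])
      rw [eq_top_iff, ← htop]
      apply lev_le
      intro j hj
      rcases Nat.lt_or_ge j 2 with hj2 | hj2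
      · interval_cases j
        · simpa using mul_mem (inv_mem (hTS _ t0)) (hTS _ t2)
        · simpa using mul_mem (inv_mem (hTS _ t0)) (hTS _ t1)
      · exact hTS _ ⟨j, hj2, hj, Or.inl rfl⟩
    · intro c hc h
      have h' : ∀ a, a ≠ e 0 → c a = 1 := by
        intro a ha
        by_cases ha1 : a = 1
        · exact ha1 ▸ hc.one
        · apply h a ha1; simp only [ha, if_false]; split_ifs <;> decide
      have hl : ∀ y ∈ lev e 2, e 2 * y ≠ e 0 := fun y hy hh =>
        he.mul_not_mem hd3 hy (hh ▸ mem_lev e (by omega))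
      have m0 : e 0 ∈ lev e 2 := mem_lev e (by omega)
      have m1 : e 1 ∈ lev e 2 := mem_lev e (by omega)
      have key := hc (e 0) (e 1) (e 2)
      rw [h' (e 0 * e 1 * e 2) (by rw [mul_comm]; exact hl _ (mul_mem m0 m1)), h' _ h10,
        h' (e 2) (by simpa using hl _ (one_mem _)), h' (e 0 * e 1) (by simpa using h1),
        h' (e 0 * e 2) (by rw [mul_comm]; exact hl _ m0),
        h' (e 1 * e 2) (by rw [mul_comm]; exact hl _ m1)] at key
      intro a
      by_cases ha : a = e 0
      · simpa [ha] using key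
      · exact h' a ha
    · intro _
      obtain ⟨n0, n1, n2⟩ := hTn _ t0
      exact ⟨e 2, n2, by simp [n0, n1, t0]⟩

theorem mem_zpowers_sq [Finite A] (h : Odd (Nat.card A)) (a : A) : a ∈ zpowers (a ^ 2) := by
  obtain ⟨m, hm⟩ := h
  refine ⟨m + 1, ?_⟩
  have : a ^ Nat.card A = 1 := pow_card_eq_one'
  simp only
  rw [← zpow_natCast, ← zpow_mul, show ((2 : ℕ) : ℤ) * (m + 1) = ((2 * m + 1 : ℕ) : ℤ) + 1 by
    push_cast; ring, zpow_add, zpow_natCast, ← hm, this]
  simp

theorem mem_of_sq_mem [Finite A] (h : Odd (Nat.card A)) {S : Subgroup A} {a : A}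
    (ha : a ^ 2 ∈ S) : a ∈ S := (zpowers_le_of_mem ha) (mem_zpowers_sq h a)

theorem eq_one_of_sq [Finite A] (h : Odd (Nat.card A)) (a : A) (ha : a ^ 2 = 1) : a = 1 := by
  have : a ∈ (⊥ : Subgroup A) := mem_of_sq_mem h (by simpa using ha)
  simpa using this

theorem exists_odd_data [Finite A] [Nontrivial A] (h : Odd (Nat.card A)) :
    ∃ (e1 : A) (T : Set A), e1 ≠ 1 ∧ (∀ b ∈ T, b ∉ zpowers e1) ∧ (∀ b ∈ T, b ^ 2 ∉ T) ∧
      ∀ L : A →* A, Injective L → L e1 = e1 → (∀ u ∈ T, L u ∈ T) → ∀ a, L a = a := by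
  obtain ⟨e, d, he, htop⟩ := exists_chain A
  have hd : 0 < d := by
    by_contra hc
    obtain rfl : d = 0 := by omega
    rw [lev_zero] at htop
    exact bot_ne_top htop
  let T : Set A := {u | ∃ k, 1 ≤ k ∧ k < d ∧ (u = e k ∨ u = e k * e (k - 1))}
  have hT : ∀ u ∈ T, ∃ k, 1 ≤ k ∧ k < d ∧ ∃ y ∈ lev e k, u = e k * y := by
    rintro u ⟨k, h1, h2, rfl | rfl⟩
    · exact ⟨k, h1, h2, 1, one_mem _, by simp⟩
    · exact ⟨k, h1, h2, _, mem_lev e (by omega), rfl⟩
  refine ⟨e 0, T, he.ne_one hd, ?_, ?_, ?_⟩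
  · intro b hb hc
    obtain ⟨k, h1, h2, y, hy, rfl⟩ := hT b hb
    rw [← lev_one] at hc
    exact he.mul_not_mem h2 hy (lev_mono e h1 hc)
  · intro b hb hc
    obtain ⟨k, h1, h2, y, hy, rfl⟩ := hT b hb
    obtain ⟨j, h1', h2', y', hy', hj⟩ := hT _ hc
    rcases lt_trichotomy j k with hlt | rfl | hlt
    · exact he.mul_not_mem h2 hy (mem_of_sq_mem h
        (hj ▸ lev_mono e hlt (mul_mem_lev_succ e hy')))
    · apply he j h2
      have : e j = y' * (y ^ 2)⁻¹ := by
        rw [eq_mul_inv_iff_mul_eq]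
        apply mul_left_cancel (a := e j)
        rw [← hj, mul_pow, sq (e j), mul_assoc]
      rw [this]; exact mul_mem hy' (inv_mem (pow_mem hy 2))
    · exact he.mul_not_mem h2' hy' (hj ▸ pow_mem (lev_mono e hlt (mul_mem_lev_succ e hy)) 2)
  · intro L hL h0 hLT a
    exact he.fix_of_pairs (eq_one_of_sq h) le_rfl (T := T)
      (fun k h1 h2 => ⟨⟨k, h1, h2, Or.inl rfl⟩, ⟨k, h1, h2, Or.inr rfl⟩⟩) (fun u hu _ => hu) hL
      (fun u hu _ => hLT u hu) (fun j hj => by obtain rfl : j = 0 := by omega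
                                               exact h0) a (htop ▸ mem_top a)

theorem exists_isCol_odd (M : Type*) [CommGroup M] [Finite A] (h : Odd (Nat.card A)) :
    ∃ col : A → Fin 4, IsCol M col ∧ ∀ a, col a ≠ 2 := by
  classical
  rcases subsingleton_or_nontrivial A with hs | hn
  · exact ⟨fun _ => 0, isCol_small (by rw [Nat.card_of_subsingleton (1 : A)]; omega),
      fun _ => by simp⟩
  obtain ⟨e1, T, h1, hT1, hT2, hreg⟩ := exists_odd_data h
  have hTe : ∀ b ∈ T, b ≠ e1 ∧ b ≠ 1 := fun b hb =>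
    ⟨fun hc => hT1 b hb (hc ▸ mem_zpowers _), fun hc => hT1 b hb (hc ▸ one_mem _)⟩
  let z : Fin 4 := if T = ∅ then 1 else 3
  have hz0 : z ≠ 0 := by simp only [z]; split_ifs <;> decide
  refine ⟨fun a => if a = e1 then z else if a ∈ T then 1 else 0, ⟨?_, ?_, ?_⟩, ?_⟩
  · intro L hL hc
    apply hreg L hL
    · have := hc _ h1
      by_contra hne
      simp only [hne, if_false, if_true] at this
      split_ifs at this with hm
      · have hT : T ≠ ∅ := fun hh => by simp [hh] at hm
        simp [z, hT] at this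
      · exact hz0 this.symm
    · intro u hu
      obtain ⟨n1, n2⟩ := hTe u hu
      have := hc _ n2
      have hT : T ≠ ∅ := fun hh => by simp [hh] at hu
      by_contra hne
      simp only [hne, n1, hu, if_false, if_true] at this
      split_ifs at this
      · simp [z, hT] at this
      · simp at this
  · intro S hS _
    have hb : ∀ a, a ≠ e1 → a ∉ T → a ∈ S := by
      intro a ha ha'
      by_cases ha1 : a = 1
      · exact ha1 ▸ one_mem _
      · exact hS a ha1 (by simp [ha, ha'])
    rw [eq_top_iff]; intro a _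
    by_cases ha : a = e1
    · subst ha
      apply mem_of_sq_mem h
      apply hb
      · rw [sq]; simpa using h1
      · exact fun hc => hT1 _ hc (pow_mem (mem_zpowers _) 2)
    by_cases ha' : a ∈ T
    · apply mem_of_sq_mem h
      apply hb _ _ (hT2 a ha')
      intro hc
      exact hT1 a ha' (mem_of_sq_mem h (hc ▸ mem_zpowers _))
    · exact hb a ha ha'
  · intro c hc hh
    have h' : ∀ a, a ≠ e1 → c a = 1 := by
      intro a ha
      by_cases ha1 : a = 1
      · exact ha1 ▸ hc.one
      · apply hh a ha1; simp only [ha, if_false]; split_ifs <;> decide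
    intro a
    by_cases ha : a = e1
    swap
    · exact h' a ha
    subst ha
    by_cases hT : T = ∅
    · apply hh a h1; simp [z, hT]
    obtain ⟨b, hb⟩ := Set.nonempty_iff_ne_empty.2 hT
    have n1 : b * b ∉ zpowers a := fun hc => hT1 b hb (mem_of_sq_mem h (by rwa [sq]))
    have key := hc a b b
    rw [h' (a * b * b) (by rw [mul_assoc]; intro hc; apply n1; rw [mul_eq_left.1 hc]; exact one_mem _),
      h' b (hTe b hb).1, h' (a * b) (by simpa using (hTe b hb).2),
      h' (b * b) (fun hc => n1 (hc ▸ mem_zpowers _))] at key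
    simpa using key
  · intro a
    simp only [z]
    split_ifs <;> decide

theorem Cubic.map_mul_of_coprime {c : A → M} (h : Cubic c) {f b : A} {n : ℕ} (hn : Odd n)
    (hf : f * f = 1) (hb : b ^ n = 1) : c (f * b) = c f * c b := by
  let β : A → A → M := fun a d => c (a * d) * (c a * c d)⁻¹
  have hβ : ∀ a a' d, β (a * a') d = β a d * β a' d := by
    intro a a' d
    have := congrArg Additive.ofMul (h a a' d)
    apply Additive.ofMul.injective
    simp only [β, ofMul_mul, ofMul_inv] at this ⊢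
    linear_combination (norm := abel) this
  have hsymm : ∀ a d, β a d = β d a := by intro a d; simp only [β, mul_comm]
  have h1 : ∀ d, β 1 d = 1 := by intro d; simp [β, h.one]
  have hpow : ∀ a d (k : ℕ), β (a ^ k) d = β a d ^ k := by
    intro a d k
    induction k with
    | zero => simp [h1]
    | succ k ih => rw [pow_succ, hβ, ih, pow_succ]
  have e1 : β f b ^ 2 = 1 := by rw [← hpow, sq, hf, h1]
  have e2 : β f b ^ n = 1 := by rw [hsymm, ← hpow, hb, h1]
  obtain ⟨m, rfl⟩ := hn
  rw [pow_succ, pow_mul, e1, one_pow, one_mul] at e2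
  exact mul_inv_eq_one.1 e2

theorem exists_isCol_mixed (M : Type*) [CommGroup M] [Finite A] {n : ℕ} (hn : Odd n)
    (hA : ∀ a : A, a ^ (2 * n) = 1) (h2 : ∃ f : A, f ≠ 1 ∧ f ^ 2 = 1)
    (ho : ∃ b : A, b ≠ 1 ∧ b ^ n = 1) :
    ∃ col : A → Fin 4, IsCol M col ∧ ∀ a, col a = 0 ∨ col a = 3 := by
  classical
  let A2 : Subgroup A := (powMonoidHom 2 : A →* A).ker
  let Ao : Subgroup A := (powMonoidHom n : A →* A).ker
  have m2 : ∀ a : A, a ∈ A2 ↔ a ^ 2 = 1 := fun a => Iff.rfl
  have mo : ∀ a : A, a ∈ Ao ↔ a ^ n = 1 := fun a => Iff.rfl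
  have nt2 : Nontrivial A2 := by
    obtain ⟨f, h1, h⟩ := h2
    exact ⟨⟨⟨f, h⟩, 1, fun hc => h1 (congrArg Subtype.val hc)⟩⟩
  have nto : Nontrivial Ao := by
    obtain ⟨f, h1, h⟩ := ho
    exact ⟨⟨⟨f, h⟩, 1, fun hc => h1 (congrArg Subtype.val hc)⟩⟩
  have hodd : Odd (Nat.card Ao) := by
    rw [← Nat.not_even_iff_odd, even_iff_two_dvd]
    intro hc
    obtain ⟨x, hx⟩ := exists_prime_orderOf_dvd_card' 2 hc
    have : orderOf x ∣ n := orderOf_dvd_of_pow_eq_one (Subtype.ext x.2)
    rw [hx] at this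
    exact (Nat.not_even_iff_odd.2 hn) (even_iff_two_dvd.2 this)
  have hsq : ∀ f : A2, f * f = 1 := fun f => Subtype.ext (by
    have := (m2 _).1 f.2; rwa [sq] at this)
  obtain ⟨c2, hc2, hex⟩ := exists_isCol_two (A := A2) M hsq
  obtain ⟨f0, hf0, hf0'⟩ := hex nt2
  obtain ⟨e1, T, he1, hT1, -, hreg⟩ := exists_odd_data (A := Ao) hodd
  obtain ⟨m, hm⟩ := id hn
  let p2 : A → A2 := fun a => ⟨a ^ n, by rw [m2, ← pow_mul, mul_comm, hA]⟩
  let po : A → Ao := fun a => ⟨a ^ (n + 1), by
    rw [mo, ← pow_mul, show (n + 1) * n = 2 * n * (m + 1) by rw [hm]; ring, pow_mul, hA, one_pow]⟩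
  have hdec : ∀ a, (p2 a : A) * po a = a := by
    intro a
    simp only [p2, po]
    rw [← pow_add, show n + (n + 1) = 2 * n + 1 by ring, pow_succ, hA, one_mul]
  have hp2 : ∀ (f : A2) (b : Ao), p2 (f * b) = f := by
    intro f b
    apply Subtype.ext
    simp only [p2]
    rw [mul_pow, (mo _).1 b.2, mul_one, hm, pow_succ, pow_mul, (m2 _).1 f.2, one_pow, one_mul]
  have hpo : ∀ (f : A2) (b : Ao), po (f * b) = b := by
    intro f b
    apply Subtype.ext
    simp only [po]
    rw [mul_pow, pow_succ (b : A), (mo _).1 b.2, one_mul,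
      show n + 1 = 2 * (m + 1) by rw [hm]; ring, pow_mul, (m2 _).1 f.2, one_pow, one_mul]
  have hne : ∀ (f : A2) (b : Ao), (f : A) * b = 1 → f = 1 ∧ b = 1 := by
    intro f b h
    constructor
    · rw [← hp2 f b, h]; apply Subtype.ext; simp [p2]
    · rw [← hpo f b, h]; apply Subtype.ext; simp [po]
  let Z : A2 → Ao → Prop := fun f b => if f = 1 then b ∈ T else
    (c2 f = 0 ∧ b = e1) ∨ (c2 f = 2 ∧ (b = 1 ∨ b = e1)) ∨ c2 f = 3
  have hsq1 : e1 ^ 2 ≠ 1 := fun hc => he1 (eq_one_of_sq hodd _ hc)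
  have hsq2 : e1 ^ 2 ≠ e1 := by rw [sq]; simpa using he1
  have heT : e1 ∉ T := fun hc => hT1 _ hc (mem_zpowers _)
  have hex2 : ∀ f : A2, f ≠ 1 → c2 f ≠ 3 → ¬ Z f (e1 ^ 2) := by
    intro f hf h3; simp [Z, hf, h3, hsq1, hsq2]
  let col : A → Fin 4 := fun a => if Z (p2 a) (po a) then 3 else 0
  have hcol : ∀ (f : A2) (b : Ao), col (f * b) = if Z f b then 3 else 0 := by
    intro f b; simp only [col, hp2, hpo]
  refine ⟨col, ⟨?_, ?_, ?_⟩, ?_⟩
  · intro L hL hc
    let L2 : A2 →* A2 := (L.comp A2.subtype).codRestrict A2 fun f => by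
      rw [m2, ← map_pow, show f ^ 2 = 1 from Subtype.ext ((m2 _).1 f.2), map_one]
    let Lo : Ao →* Ao := (L.comp Ao.subtype).codRestrict Ao fun f => by
      rw [mo, ← map_pow, show f ^ n = 1 from Subtype.ext ((mo _).1 f.2), map_one]
    have hL2 : Injective L2 := fun f f' h => Subtype.ext (hL (congrArg Subtype.val h))
    have hLo : Injective Lo := fun f f' h => Subtype.ext (hL (congrArg Subtype.val h))
    have hLs : Surjective Lo := Finite.surjective_of_injective hLo
    have hZ : ∀ f b, Z (L2 f) (Lo b) ↔ Z f b := by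
      intro f b
      by_cases h1 : (f : A) * b = 1
      · obtain ⟨rfl, rfl⟩ := hne f b h1
        simp
      · have := hc _ h1
        rw [map_mul, hcol, show L f = L2 f from rfl, show L b = Lo b from rfl, hcol] at this
        by_cases h : Z f b <;> by_cases h' : Z (L2 f) (Lo b)
        · exact iff_of_true h' h
        · rw [if_pos h, if_neg h'] at this; exact absurd this (by decide)
        · rw [if_pos h', if_neg h] at this; exact absurd this (by decide)
        · exact iff_of_false h' h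
    have hfix2 : ∀ f, L2 f = f := by
      apply hc2.reg L2 hL2
      intro f hf
      have hf' := map_ne_one' hL2 hf
      have q1 : ∀ g : A2, g ≠ 1 → (Z g 1 ↔ (c2 g = 2 ∨ c2 g = 3)) := by
        intro g hg; simp [Z, hg, he1.symm]
      have q2 : ∀ g : A2, g ≠ 1 → ((∃ b, Z g b) ↔ c2 g ≠ 1) := by
        intro g hg
        constructor
        · rintro ⟨b, hb⟩ h1; simp [Z, hg, h1] at hb
        · intro h1
          refine ⟨e1, ?_⟩
          simp only [Z, hg, if_false, and_true, or_true]
          revert h1; generalize c2 g = x; revert x; decide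
      have q3 : ∀ g : A2, g ≠ 1 → ((∀ b, Z g b) ↔ c2 g = 3) := by
        intro g hg
        constructor
        · intro hb; by_contra h3; exact hex2 g hg h3 (hb _)
        · intro h3 b; simp [Z, hg, h3]
      have P1 : (c2 (L2 f) = 2 ∨ c2 (L2 f) = 3) ↔ (c2 f = 2 ∨ c2 f = 3) := by
        rw [← q1 _ hf, ← q1 _ hf', ← hZ f 1, map_one]
      have P2 : c2 (L2 f) ≠ 1 ↔ c2 f ≠ 1 := by
        rw [← q2 _ hf, ← q2 _ hf', hLs.exists]; simp only [hZ]
      have P3 : c2 (L2 f) = 3 ↔ c2 f = 3 := by
        rw [← q3 _ hf, ← q3 _ hf', hLs.forall]; simp only [hZ]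
      revert P1 P2 P3
      generalize c2 (L2 f) = x; generalize c2 f = y; revert x y; decide
    have hfixo : ∀ b, Lo b = b := by
      apply hreg Lo hLo
      · have := (hZ f0 e1).2 (by simp [Z, hf0, hf0'])
        simpa [Z, hfix2, hf0, hf0'] using this
      · intro u hu
        have := (hZ 1 u).2 (by simpa [Z] using hu)
        simpa [Z] using this
    intro a
    rw [← hdec a, map_mul]
    have a1 : L (p2 a) = p2 a := congrArg Subtype.val (hfix2 (p2 a))
    have a2 : L (po a) = po a := congrArg Subtype.val (hfixo (po a))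
    rw [a1, a2]
  · intro S hS _
    have hS' : ∀ (f : A2) (b : Ao), ¬ Z f b → (f : A) * b ∈ S := by
      intro f b h
      by_cases h1 : (f : A) * b = 1
      · exact h1 ▸ one_mem _
      · exact hS _ h1 (by rw [hcol, if_neg h])
    have s0 : (f0 : A) ∈ S := by simpa using hS' f0 1 (by simp [Z, hf0, hf0', he1.symm])
    have so : ∀ b : Ao, (b : A) ∈ S := by
      intro b
      by_cases hb : b = e1
      · simpa [hb] using hS' 1 e1 (by simpa [Z] using heT)
      · simpa using mul_mem (inv_mem s0) (hS' f0 b (by simp [Z, hf0, hf0', hb]))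
    have s2 : ∀ f : A2, f ≠ 1 → c2 f ≠ 3 → (f : A) ∈ S := by
      intro f hf h3
      have := mul_mem (hS' f _ (hex2 f hf h3)) (inv_mem (so (e1 ^ 2)))
      rwa [mul_inv_cancel_right] at this
    have := hc2.gen (S.comap A2.subtype) (fun f hf h0 => s2 f hf (by simp [h0]))
      (fun f _ hf _ h1 _ _ => s2 f hf (by simp [h1]))
    rw [eq_top_iff]; intro a _
    rw [← hdec a]
    exact mul_mem (show p2 a ∈ S.comap A2.subtype from this ▸ mem_top _) (so _)
  · intro c hc h
    have hmul : ∀ (f : A2) (b : Ao), c (f * b) = c f * c b := fun f b =>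
      hc.map_mul_of_coprime hn (congrArg Subtype.val (hsq f)) ((mo _).1 b.2)
    have hS' : ∀ (f : A2) (b : Ao), ¬ Z f b → c f * c b = 1 := by
      intro f b hz
      rw [← hmul]
      by_cases h1 : (f : A) * b = 1
      · exact h1 ▸ hc.one
      · exact h _ h1 (by rw [hcol, if_neg hz]; decide)
    have s0 : c f0 = 1 := by simpa [hc.one] using hS' f0 1 (by simp [Z, hf0, hf0', he1.symm])
    have so : ∀ b : Ao, c b = 1 := by
      intro b
      by_cases hb : b = e1
      · simpa [hb, hc.one] using hS' 1 e1 (by simpa [Z] using heT)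
      · simpa [s0] using hS' f0 b (by simp [Z, hf0, hf0', hb])
    have s2 := hc2.det (fun f => c f) (fun a b d => hc a b d) (fun f hf h3 => by
      have := hS' f _ (hex2 f hf h3)
      rwa [so, mul_one] at this)
    intro a
    rw [← hdec a, hmul, s2, so, one_mul]
  · intro a
    simp only [col]
    split_ifs <;> simp

end Base2
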