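import Cfsg.Agent.Lib.Base.Col

/-! Coordinates in elementary abelian 2-groups; the colouring modulo homomorphisms. -/

set_option autoImplicit false

namespace Base2

open Subgroup Function

variable {A : Type*} [CommGroup A] {M : Type*} [CommGroup M]

/-- Coordinates with respect to the first `n` terms of `e`. -/
def psi (e : ℕ → A) (n : ℕ) (v : Fin n → ZMod 2) : A := ∏ i : Fin n, e i ^ (v i).val

theorem pw_add (h2 : ∀ a : A, a * a = 1) (a : A) (x y : ZMod 2) :
    a ^ (x + y).val = a ^ x.val * a ^ y.val := by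
  have h : ∀ x : ZMod 2, x = 0 ∨ x = 1 := by decide
  have v1 : (1 : ZMod 2).val = 1 := rfl
  have v2 : (1 + 1 : ZMod 2).val = 0 := rfl
  rcases h x with rfl | rfl <;> rcases h y with rfl | rfl <;> simp [v1, v2, h2]

theorem psi_add (h2 : ∀ a : A, a * a = 1) (e : ℕ → A) (n : ℕ) (v w : Fin n → ZMod 2) :
    psi e n (v + w) = psi e n v * psi e n w := by
  simp only [psi, Pi.add_apply, pw_add h2, Finset.prod_mul_distrib]

theorem psi_zero (e : ℕ → A) (n : ℕ) : psi e n 0 = 1 := by simp [psi]

theorem psi_single (e : ℕ → A) (n : ℕ) (i : Fin n) : psi e n (Pi.single i 1) = e i := by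
  rw [psi, Finset.prod_eq_single i]
  · simp [show (1 : ZMod 2).val = 1 from rfl]
  · intro j _ hj; simp [hj]
  · simp

theorem psi_mem (e : ℕ → A) (n : ℕ) (v : Fin n → ZMod 2) : psi e n v ∈ lev e n :=
  prod_mem fun i _ => pow_mem (mem_lev e i.2) _

theorem exists_psi (h2 : ∀ a : A, a * a = 1) (e : ℕ → A) (n : ℕ) {a : A} (ha : a ∈ lev e n) :
    ∃ v, psi e n v = a := by
  induction ha using Subgroup.closure_induction with
  | mem x hx => obtain ⟨j, hj, rfl⟩ := hx; exact ⟨_, psi_single e n ⟨j, hj⟩⟩
  | one => exact ⟨0, psi_zero e n⟩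
  | mul x y _ _ hx hy =>
    obtain ⟨v, rfl⟩ := hx; obtain ⟨w, rfl⟩ := hy; exact ⟨v + w, psi_add h2 e n v w⟩
  | inv x _ hx =>
    obtain ⟨v, rfl⟩ := hx
    exact ⟨v, (inv_eq_of_mul_eq_one_right (h2 _)).symm⟩

theorem IsChain.psi_injective {e : ℕ → A} {d : ℕ} (h : IsChain e d) (h2 : ∀ a : A, a * a = 1)
    {n : ℕ} (hn : n ≤ d) : Injective (psi e n) := by
  have key : ∀ n ≤ d, ∀ v : Fin n → ZMod 2, psi e n v = 1 → v = 0 := by
    intro n
    induction n with
    | zero => intro _ v _; exact Subsingleton.elim _ _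
    | succ n ih =>
      intro hn v hv
      rw [psi, Fin.prod_univ_castSucc] at hv
      have hm : ∏ i : Fin n, e (i.castSucc : Fin (n + 1)) ^ (v i.castSucc).val =
        psi e n (fun i => v i.castSucc) := rfl
      rw [hm] at hv
      have hl : v (Fin.last n) = 0 := by
        by_contra hc
        have h1 : v (Fin.last n) = 1 := by
          revert hc; generalize v (Fin.last n) = x; revert x; decide
        rw [h1, show (1 : ZMod 2).val = 1 from rfl, pow_one, mul_comm] at hv
        exact h.mul_not_mem (k := n) (by omega) (psi_mem e n _) (hv ▸ one_mem _)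
      rw [hl, ZMod.val_zero, pow_zero, mul_one] at hv
      have := ih (by omega) _ hv
      ext i
      refine Fin.lastCases hl (fun j => congrFun this j) i
  intro v w hvw
  have h1 : psi e n (v + w) = 1 := by rw [psi_add h2, hvw, h2]
  have := key n hn _ h1
  ext i
  have := congrFun this i
  simp only [Pi.add_apply, Pi.zero_apply] at this
  revert this; generalize v i = x; generalize w i = y; revert x y; decide

theorem map_psi (h2 : ∀ a : A, a * a = 1) (e : ℕ → A) (n : ℕ) (L : A →* A)
    (u : Fin n → Fin n → ZMod 2) (hu : ∀ i, psi e n (u i) = L (e i)) (v : Fin n → ZMod 2) :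
    L (psi e n v) = psi e n (∑ i, v i • u i) := by
  have hs : ∀ s : Finset (Fin n), psi e n (∑ i ∈ s, v i • u i) = ∏ i ∈ s, L (e i) ^ (v i).val := by
    intro s
    induction s using Finset.induction_on with
    | empty => simp [psi_zero]
    | insert i s hi ih =>
      rw [Finset.sum_insert hi, Finset.prod_insert hi, psi_add h2, ih]
      congr 1
      have h : ∀ x : ZMod 2, x = 0 ∨ x = 1 := by decide
      rcases h (v i) with h0 | h0
      · simp [h0, psi_zero]
      · simp [h0, hu, show (1 : ZMod 2).val = 1 from rfl]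
  rw [hs, psi, map_prod]
  simp only [map_pow]

/-- concrete colouring for rank three -/
def nu3 (v : Fin 3 → ZMod 2) : Fin 2 → ZMod 2 :=
  if v = ![1, 0, 0] then ![1, 0] else if v = ![0, 0, 1] then ![0, 1] else 0

/-- concrete linear map for rank three -/
def lin3 (u w a : Fin 3 → ZMod 2) : Fin 3 → ZMod 2 := a 0 • u + a 1 • ![0, 1, 0] + a 2 • w

/-- good points -/
def gd3 (a : Fin 3 → ZMod 2) : Prop := a ≠ 0 ∧ a ≠ ![0, 1, 0]

instance gd3Dec : DecidablePred gd3 := fun a => by unfold gd3; infer_instance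

set_option synthInstance.maxSize 2000 in
set_option synthInstance.maxHeartbeats 200000 in
theorem nu3_check : ∀ u w : Fin 3 → ZMod 2, (∀ a, lin3 u w a = 0 → a = 0) →
    (∀ a b, gd3 a → gd3 b → gd3 (a + b) → nu3 (lin3 u w (a + b)) + nu3 (a + b) =
        (nu3 (lin3 u w a) + nu3 a) + (nu3 (lin3 u w b) + nu3 b)) →
    u = ![1, 0, 0] ∧ w = ![0, 0, 1] := by
  decide +kernel

theorem ker_eq_top_of_ncard [Finite A] {S : Subgroup A} {B : Set A} (hB : ∀ a, a ∉ B → a ∈ S)
    (h : 2 * B.ncard < Nat.card A) : S = ⊤ := by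
  by_contra hne
  have h1 : (Bᶜ).ncard ≤ (S : Set A).ncard := Set.ncard_le_ncard fun a ha => hB a ha
  have h2 := Set.ncard_add_ncard_compl B
  have h3 := S.card_mul_index
  have h4 : S.index ≠ 1 := fun hc => hne (index_eq_one.1 hc)
  have h5 : S.index ≠ 0 := index_ne_zero_of_finite
  have h6 : Nat.card S = (S : Set A).ncard := rfl
  have h7 : Nat.card S * 2 ≤ Nat.card S * S.index := Nat.mul_le_mul_left _ (by omega)
  omega

theorem ncard_triples_le [Finite A] (e : ℕ → A) (k0 : ℕ) :
    ∀ d, (triples e k0 d).ncard ≤ 3 * (d - k0) := by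
  intro d
  induction d with
  | zero =>
    have : triples e k0 0 = ∅ := by
      ext u; simp [triples]
    simp [this]
  | succ d ih =>
    rcases Nat.lt_or_ge d k0 with hlt | hge
    · have : triples e k0 (d + 1) = ∅ := by
        ext u; simp only [triples, Set.mem_ofPred_eq, Set.mem_empty_iff_false, iff_false]
        rintro ⟨k, h1, h2, -⟩; omega
      simp [this]
    · have hs : triples e k0 (d + 1) ⊆ triples e k0 d ∪ {e d, e d * e (d - 1), e d * e (d - 2)} := by
        rintro u ⟨k, h1, h2, h3⟩
        rcases Nat.lt_succ_iff_lt_or_eq.1 h2 with h | rfl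
        · exact Or.inl ⟨k, h1, h, h3⟩
        · exact Or.inr h3
      have h1 := Set.ncard_le_ncard hs
      have h2 := Set.ncard_union_le (triples e k0 d) {e d, e d * e (d - 1), e d * e (d - 2)}
      have h3 : ({e d, e d * e (d - 1), e d * e (d - 2)} : Set A).ncard ≤ 3 :=
        (Set.ncard_insert_le _ _).trans (by
          have := Set.ncard_insert_le (e d * e (d - 1)) ({e d * e (d - 2)} : Set A)
          rw [Set.ncard_singleton] at this; omega)
      have : d + 1 - k0 = d - k0 + 1 := by omega
      omega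

theorem lin_lt_two_pow : ∀ d, 4 ≤ d → 2 * (6 * (d - 4) + 7) < 2 ^ d := by
  intro d hd
  induction d, hd using Nat.le_induction with
  | base => norm_num
  | succ d hd ih =>
    have : d + 1 - 4 = d - 4 + 1 := by omega
    rw [pow_succ, this]; omega

/-- The colouring modulo homomorphisms. -/
theorem exists_col_three (M : Type*) [CommGroup M] [Finite A] (h2 : ∀ a : A, a * a = 1)
    (h4 : Nat.card A ≠ 4) {C : Type*} [CommGroup C] (hC : ∀ c : C, c * c = 1) {α γ : C}
    (hα : α ≠ 1) (hγ : γ ≠ 1) (hαγ : α ≠ γ) :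
    ∃ (col : A → Fin 4) (ν : A → C), (∀ a, col a = 0 ∨ col a = 3) ∧
      (∀ a, ν a = 1 ∨ ν a = α ∨ ν a = γ ∨ ν a = α * γ) ∧
      (∀ S : Subgroup A, (∀ a, a ≠ 1 → col a = 0 → a ∈ S) → S = ⊤) ∧
      (∀ c : A → M, Cubic c → (∀ a, a ≠ 1 → col a ≠ 3 → c a = 1) → ∀ a, c a = 1) ∧
      ∀ (L : A →* A) (h : A →* C), Injective L → (∀ a, a ≠ 1 → col (L a) = col a) →
        (∀ a, a ≠ 1 → col a = 0 → ν (L a) = ν a * h a) → ∀ a, L a = a := by
  classical
  obtain ⟨e, d, he, htop⟩ := exists_chain A
  have hcard := he.card_two htop h2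
  rcases Nat.lt_or_ge d 2 with hd | hd
  · have hs : IsCol M (fun _ : A => (0 : Fin 4)) := isCol_small (by
      rw [hcard]; interval_cases d <;> norm_num)
    exact ⟨fun _ => 0, fun _ => 1, fun _ => Or.inl rfl, fun _ => Or.inl rfl,
      fun S hS => hs.gen S hS (fun _ _ _ _ h => absurd h (by decide)), hs.det,
      fun L _ hL hc _ => hs.reg L hL hc⟩
  have hd3 : 3 ≤ d := by
    by_contra hc
    obtain rfl : d = 2 := by omega
    exact h4 hcard
  have h0 : e 0 ≠ 1 := he.ne_one (by omega)
  have h1 : e 1 ≠ 1 := he.ne_one (by omega)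
  have h2' : e 2 ≠ 1 := he.ne_one (by omega)
  have h10 : e 1 ≠ e 0 := he.ne (by omega) (by omega)
  have h20 : e 2 ≠ e 0 := he.ne (by omega) (by omega)
  have h21 : e 2 ≠ e 1 := he.ne (by omega) (by omega)
  let T : Set A := triples e 3 (d - 1) ∪ {u | 4 ≤ d ∧ u = e (d - 1)}
  have hTn : ∀ u ∈ T, u ∉ lev e 3 := by
    rintro u (hu | ⟨h, rfl⟩)
    · exact he.triples_not_mem (by omega) (by omega) hu
    · exact fun hc => he (d - 1) (by omega) (lev_mono e (by omega) hc)
  have hT0 : e 0 ∉ T := fun hc => hTn _ hc (mem_lev e (by omega))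
  have hT1 : e 1 ∉ T := fun hc => hTn _ hc (mem_lev e (by omega))
  have hT2 : e 2 ∉ T := fun hc => hTn _ hc (mem_lev e (by omega))
  have hT3 : (1 : A) ∉ T := fun hc => hTn _ hc (one_mem _)
  let col : A → Fin 4 := fun a => if a = e 1 then 3 else 0
  let ν : A → C := fun a => if a = e 0 then α else if a = e 2 then γ else
    if a ∈ T then α * γ else 1
  have n1 : α * γ ≠ 1 := fun hc => hαγ (by
    have := hC γ; rw [← hc] at this; exact (mul_right_cancel this).symm)
  have n2 : α * γ ≠ α := by simpa using hγ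
  have n3 : α * γ ≠ γ := by simpa using hα
  refine ⟨col, ν, ?_, ?_, ?_, ?_, ?_⟩
  · intro a; simp only [col]; split_ifs <;> simp
  · intro a; simp only [ν]; split_ifs <;> simp
  · intro S hS
    have h' : ∀ a, a ≠ e 1 → a ∈ S := by
      intro a ha
      by_cases ha1 : a = 1
      · exact ha1 ▸ one_mem _
      · exact hS a ha1 (by simp [col, ha])
    rw [eq_top_iff]; intro a _
    by_cases ha : a = e 1
    · subst ha
      simpa using mul_mem (h' (e 1 * e 0) (by simpa using h0)) (inv_mem (h' _ h10.symm))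
    · exact h' a ha
  · intro c hc h
    have h' : ∀ a, a ≠ e 1 → c a = 1 := by
      intro a ha
      by_cases ha1 : a = 1
      · exact ha1 ▸ hc.one
      · exact h a ha1 (by simp [col, ha])
    have hl : ∀ y ∈ lev e 2, e 2 * y ≠ e 1 := fun y hy hh =>
      he.mul_not_mem hd3 hy (hh ▸ mem_lev e (by omega))
    have m0 : e 0 ∈ lev e 2 := mem_lev e (by omega)
    have m1 : e 1 ∈ lev e 2 := mem_lev e (by omega)
    have key := hc (e 1) (e 0) (e 2)
    rw [h' (e 1 * e 0 * e 2) (by rw [mul_comm]; exact hl _ (mul_mem m1 m0)), h' _ h10.symm,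
      h' (e 2) h21, h' (e 1 * e 0) (by simpa using h0),
      h' (e 0 * e 2) (by rw [mul_comm]; exact hl _ m0),
      h' (e 1 * e 2) (by rw [mul_comm]; exact hl _ m1)] at key
    intro a
    by_cases ha : a = e 1
    · simpa [ha] using key
    · exact h' a ha
  intro L h hL hc hν
  have hz : L (e 1) = e 1 := by
    have := hc _ h1
    by_contra hne
    simp [col, hne] at this
  have hν' : ∀ a, a ≠ 1 → a ≠ e 1 → ν (L a) = ν a * h a := fun a ha ha' =>
    hν a ha (by simp [col, ha'])
  rcases Nat.eq_or_lt_of_le hd3 with rfl | hd4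
  · -- rank three
    have hT : ∀ a, a ∉ T := by
      rintro a (⟨k, k1, k2, -⟩ | ⟨k1, -⟩) <;> omega
    have hinj := he.psi_injective h2 le_rfl
    obtain ⟨u, hu⟩ := exists_psi h2 e 3 (a := L (e 0)) (htop ▸ mem_top _)
    obtain ⟨w, hw⟩ := exists_psi h2 e 3 (a := L (e 2)) (htop ▸ mem_top _)
    have p0 : psi e 3 ![1, 0, 0] = e 0 :=
      Eq.trans (by congr 1; decide) (psi_single e 3 0)
    have p1 : psi e 3 ![0, 1, 0] = e 1 :=
      Eq.trans (by congr 1; decide) (psi_single e 3 1)
    have p2 : psi e 3 ![0, 0, 1] = e 2 :=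
      Eq.trans (by congr 1; decide) (psi_single e 3 2)
    have hlin : ∀ a, L (psi e 3 a) = psi e 3 (lin3 u w a) := by
      intro a
      rw [map_psi h2 e 3 L ![u, ![0, 1, 0], w] _ a, Fin.sum_univ_three]
      · rfl
      · intro i; fin_cases i
        · exact hu
        · exact p1.trans hz.symm
        · exact hw
    let f : ℕ → C := fun i => if i = 0 then α else γ
    have hf : IsChain f 2 := by
      intro k hk
      interval_cases k
      · simpa [lev_zero, f] using hα
      · rw [mem_lev_succ_two hC, lev_zero]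
        simp only [f, mem_bot, if_true, one_ne_zero, if_false]
        rintro (hh | hh)
        · exact hγ hh
        · exact n1 hh
    have hfi := hf.psi_injective hC le_rfl
    have hνψ : ∀ a, ν (psi e 3 a) = psi f 2 (nu3 a) := by
      intro a
      simp only [ν, nu3, ← p0, ← p2, hinj.eq_iff, hT, if_false]
      split_ifs
      · exact (psi_single f 2 0).symm.trans (by congr 1; decide)
      · exact (psi_single f 2 1).symm.trans (by congr 1; decide)
      · exact (psi_zero f 2).symm
    have hh : ∀ a, gd3 a → psi f 2 (nu3 (lin3 u w a) + nu3 a) = h (psi e 3 a) := by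
      intro a ha
      rw [psi_add hC, ← hνψ, ← hνψ, ← hlin, hν' _ (fun hc => ha.1 (hinj (hc.trans (psi_zero e 3).symm)))
        (fun hc => ha.2 (hinj (hc.trans p1.symm))), mul_right_comm, hC, one_mul]
    obtain ⟨rfl, rfl⟩ := nu3_check u w (fun a ha => by
      apply hinj
      apply hL
      rw [hlin, ha, psi_zero, map_one]) (fun a b ha hb hab => by
      apply hfi
      rw [hh _ hab, psi_add hC (v := _ + nu3 a), hh _ ha, hh _ hb, psi_add h2, map_mul])
    intro a
    apply fix_lev e L (k := 3) _ a (htop ▸ mem_top a)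
    intro j hj
    interval_cases j
    · exact hu.symm.trans p0
    · exact hz
    · exact hw.symm.trans p2
  · let P : Set A := {e 0, e 2} ∪ T
    have hP : P.ncard ≤ 3 * (d - 4) + 3 := by
      have a1 := Set.ncard_union_le ({e 0, e 2} : Set A) T
      have a2 := Set.ncard_pair h20.symm
      have a3 := Set.ncard_union_le (triples e 3 (d - 1)) {u | 4 ≤ d ∧ u = e (d - 1)}
      have a4 := ncard_triples_le e 3 (d - 1)
      have a5 : {u | 4 ≤ d ∧ u = e (d - 1)}.ncard ≤ ({e (d - 1)} : Set A).ncard :=
        Set.ncard_le_ncard fun u hu => hu.2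
      rw [Set.ncard_singleton] at a5
      have : d - 1 - 3 = d - 4 := by omega
      simp only [P, T] at a1 ⊢
      omega
    have hker : h.ker = ⊤ := by
      apply ker_eq_top_of_ncard (B := insert (e 1) (P ∪ L ⁻¹' P))
      · intro a ha
        simp only [Set.mem_insert_iff, Set.mem_union, Set.mem_preimage, not_or, P,
          Set.mem_singleton_iff] at ha
        obtain ⟨a1, ⟨⟨a2, a3⟩, a4⟩, ⟨a5, a6⟩, a7⟩ := ha
        by_cases ha1 : a = 1
        · exact ha1 ▸ one_mem _
        have := hν' a ha1 a1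
        simp only [ν, a2, a3, a4, a5, a6, a7, if_false, one_mul] at this
        exact this.symm
      · have a1 := Set.ncard_insert_le (e 1) (P ∪ L ⁻¹' P)
        have a2 := Set.ncard_union_le P (L ⁻¹' P)
        have a3 : (L ⁻¹' P).ncard ≤ P.ncard :=
          Set.ncard_le_ncard_of_injOn L (fun a ha => ha) hL.injOn
        have := lin_lt_two_pow d hd4
        omega
    have hν2 : ∀ a, a ≠ 1 → a ≠ e 1 → ν (L a) = ν a := by
      intro a ha ha'
      rw [hν' a ha ha', show h a = 1 from (hker ▸ mem_top a : a ∈ h.ker), mul_one]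
    apply he.fix_of_triples htop h2 (k0 := 3) (by omega) (T := T) _ _ hL
    · intro u hu hu'
      have m : ∀ j < 3, u ≠ e j := fun j hj hc => hu' (hc ▸ mem_lev e hj)
      have := hν2 u (fun hc => hu' (hc ▸ one_mem _)) (m 1 (by omega))
      by_contra hne
      simp only [ν, m 0 (by omega), m 2 (by omega), hu, hne, if_false, if_true] at this
      split_ifs at this
      · exact n2 this.symm
      · exact n3 this.symm
      · exact n1 this.symm
    · intro j hj
      interval_cases j
      · have := hν2 _ h0 h10.symm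
        by_contra hne
        simp only [ν, hne, if_false, if_true] at this
        split_ifs at this
        · exact hαγ this.symm
        · exact n2 this
        · exact hα this.symm
      · exact hz
      · have := hν2 _ h2' h21
        by_contra hne
        simp only [ν, hne, h20, if_false, if_true] at this
        split_ifs at this
        · exact hαγ this
        · exact n3 this
        · exact hγ this.symm
    · intro k k1 k2
      rcases Nat.lt_or_ge k (d - 1) with hk | hk
      · exact ⟨Or.inl ⟨k, k1, hk, Or.inl rfl⟩, Or.inl ⟨Or.inl ⟨k, k1, hk, Or.inr (Or.inl rfl)⟩,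
          Or.inl ⟨k, k1, hk, Or.inr (Or.inr rfl)⟩⟩⟩
      · obtain rfl : k = d - 1 := by omega
        refine ⟨Or.inr ⟨hd4, rfl⟩, Or.inr ⟨by omega, ?_⟩⟩
        rintro u (⟨j, j1, j2, hj⟩ | ⟨-, hu⟩) hu'
        · exfalso
          apply hu'
          apply lev_mono e (show j + 1 ≤ d - 1 by omega)
          rcases hj with rfl | rfl | rfl
          · exact mem_lev e (by omega)
          · exact mul_mem_lev_succ e (mem_lev e (by omega))
          · exact mul_mem_lev_succ e (mem_lev e (by omega))
        · exact hu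
    · rintro u (⟨j, j1, j2, hj⟩ | ⟨-, hu⟩) _
      · exact ⟨j, j1, by omega, hj⟩
      · exact ⟨d - 1, by omega, by omega, Or.inl hu⟩

end Base2
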