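import Cfsg.Agent.Lib.Base.Three

/-! Exclusion of the extraspecial group of order 128 and minus type. -/

set_option autoImplicit false
set_option linter.style.haveILetI false

namespace Base2

open Function Subgroup

variable {K G V : Type*} [Field K] [Group G] [AddCommGroup V] [Module K V] [DistribMulAction G V]
  {ι : Kˣ →* G} {E : Subgroup G}

namespace EData

variable (h : EData V ι E)

theorem cE_mem_ker (g : G) {e : E} (he : e ∈ h.β.ker) : h.cE g e ∈ h.β.ker := by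
  ext f
  have := h.β_cE_eq_one g (a := e) (b := h.cE g⁻¹ f) (DFunLike.congr_fun he _)
  rw [cE_inv] at this
  exact congrArg Units.val this

/-- the action on the central quotient -/
@[reducible] noncomputable def actB : MulAction G (E ⧸ h.β.ker) where
  smul g := QuotientGroup.map h.β.ker h.β.ker (h.cE g) fun _ he => h.cE_mem_ker g he
  one_smul b := by
    induction b using QuotientGroup.induction_on with
    | H e => exact congrArg QuotientGroup.mk (Subtype.ext (by simp [coe_cE]) : h.cE 1 e = e)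
  mul_smul g g' b := by
    induction b using QuotientGroup.induction_on with
    | H e => exact congrArg QuotientGroup.mk (Subtype.ext (by simp [coe_cE, mul_assoc]) :
        h.cE (g * g') e = h.cE g (h.cE g' e))

theorem mem_ker_of_fix {e : E} (he : ∀ g, e⁻¹ * h.cE g e ∈ h.β.ker) : e ∈ h.β.ker :=
  MonoidHom.ext (h.β_of_mem_range (h.mem_range_of_conj e.2 fun g => by
    obtain ⟨u, hu⟩ := h.exists_ιE (DFunLike.congr_fun (he g))
    exact ⟨u, congrArg Subtype.val (inv_mul_eq_iff_eq_mul.1 hu)⟩))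

theorem nondeg {M : Subgroup E} (hM : ∀ g, ∀ e ∈ M, h.cE g e ∈ M) {a : E} (ha : a ∈ M)
    (h1 : ∀ m ∈ M, h.β a m = 1) : a ∈ h.β.ker := by
  refine MonoidHom.ext (h.β_of_mem_range (h.iso
    (S := {g | ∃ e ∈ M, (∀ m ∈ M, h.β e m = 1) ∧ e = g}) ?_ ?_ ?_ _ ⟨a, ha, h1, rfl⟩))
  · rintro _ ⟨e, -, -, rfl⟩; exact e.2
  · rintro g _ ⟨e, he, h2, rfl⟩
    refine ⟨_, ⟨_, hM g e he, fun m hm => ?_, rfl⟩, 1, by simp [coe_cE]⟩
    simpa only [cE_inv] using h.β_cE_eq_one g (h2 _ (hM g⁻¹ m hm))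
  · rintro _ ⟨e, -, h2, rfl⟩ _ ⟨f, hf, -, rfl⟩
    exact h.β_eq_one_iff.1 (h2 f hf)

theorem exists_pairs [Finite G] (hG : ¬ 3 ∣ Nat.card G) (h2 : (2 : K) ≠ 0)
    (hK : ∀ u : Kˣ, u ^ 2 = 1) {M : Subgroup E} (hM : ∀ g, ∀ e ∈ M, h.cE g e ∈ M) {a : E}
    (ha : a ∈ M) (ha1 : a ∉ h.β.ker) : ∃ v w : Fin 4 → E, (∀ i, v i ∈ M ∧ w i ∈ M) ∧
      ∀ i j, h.β (v i) (w j) = if i = j then -1 else 1 := by
  have hn := neg_one_unit_ne h2
  have key : ∀ a ∈ M, a ∉ h.β.ker → ∃ b ∈ M, h.β a b = -1 := by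
    intro a ha ha1
    by_contra hc
    push Not at hc
    exact ha1 (h.nondeg hM ha fun m hm => (unit_sq_eq_one (hK _)).resolve_right (hc m hm))
  obtain ⟨b, hb, hab⟩ := key a ha ha1
  have hba : h.β b a = -1 := by rw [h.β_swap, hab]; simp
  obtain ⟨c, hc, hca, hcb, hc1⟩ : ∃ c ∈ M, h.β c a = 1 ∧ h.β c b = 1 ∧ c ∉ h.β.ker := by
    by_contra hcon
    push Not at hcon
    letI := h.actB
    have hne : ∀ e f y : E, h.β e y ≠ h.β f y → (e : E ⧸ h.β.ker) ≠ f := fun e f y h1 h3 => h1 (by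
      have := DFunLike.congr_fun (QuotientGroup.eq.1 h3) y
      rw [map_mul, map_inv] at this
      exact inv_mul_eq_one.1 this)
    have hT : (QuotientGroup.mk '' {e | e ∈ M ∧ e ∉ h.β.ker} : Set (E ⧸ h.β.ker)) =
        {(a : E ⧸ h.β.ker), (b : E ⧸ h.β.ker), ((a * b : E) : E ⧸ h.β.ker)} := by
      apply Set.Subset.antisymm
      · rintro _ ⟨e, ⟨he, he1⟩, rfl⟩
        obtain ⟨c, hc, h3, h4⟩ := h.adjust hab (hK (h.β e a)) (hK (h.β e b))
        have h5 := hcon _ (mul_mem (inv_mem (by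
          rcases hc with rfl | rfl | rfl | rfl
          exacts [one_mem _, ha, hb, mul_mem ha hb])) he) h3 h4
        rw [← QuotientGroup.eq.2 h5]
        rcases hc with rfl | rfl | rfl | rfl
        · exact absurd (by simpa using h5) he1
        all_goals simp
      · rintro _ (rfl | rfl | rfl)
        · exact ⟨a, ⟨ha, ha1⟩, rfl⟩
        · exact ⟨b, ⟨hb, fun h3 => hn (hba.symm.trans (DFunLike.congr_fun h3 a))⟩, rfl⟩
        · exact ⟨a * b, ⟨mul_mem ha hb, fun h3 => hn (by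
            simpa [hab, h.β_self] using DFunLike.congr_fun h3 b)⟩, rfl⟩
    obtain ⟨_, ⟨e, ⟨he, he1⟩, rfl⟩, hfix⟩ := exists_fixed_of_three (H := G) hG
      (T := (QuotientGroup.mk '' {e | e ∈ M ∧ e ∉ h.β.ker} : Set (E ⧸ h.β.ker))) (by
        rw [hT, Set.ncard_eq_three]
        exact ⟨_, _, _, hne _ _ a (by simp [hba, h.β_self, hn.symm]),
          hne _ _ a (by simp [hba, h.β_self, hn.symm]),
          hne _ _ b (by simp [hab, h.β_self, hn.symm]), rfl⟩) (by
        rintro g _ ⟨e, ⟨he, he1⟩, rfl⟩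
        exact ⟨h.cE g e, ⟨hM g e he, fun h3 => he1 (h.cE_inv' g e ▸ h.cE_mem_ker g⁻¹ h3)⟩, rfl⟩)
    exact he1 (h.mem_ker_of_fix fun g => QuotientGroup.eq.1 (hfix g).symm)
  obtain ⟨d0, hd0, hcd⟩ := key c hc hc1
  obtain ⟨c', hc', hda, hdb⟩ := h.adjust hab (hK (h.β d0 a)) (hK (h.β d0 b))
  have hd : c'⁻¹ * d0 ∈ M ∧ h.β c (c'⁻¹ * d0) = -1 := by
    rcases hc' with rfl | rfl | rfl | rfl <;> simp [hca, hcb, hcd, mul_mem, ha, hb, hd0]
  generalize c'⁻¹ * d0 = d at hda hdb hd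
  refine ⟨![a, b, c, d], ![b, a, d, c], fun i => ?_, fun i j => ?_⟩
  · fin_cases i <;> simp [ha, hb, hc, hd.1]
  · fin_cases i <;> fin_cases j <;> simp [h.β_self, hab, hba, hca, hcb, hda, hdb, hd.2,
      h.β_swap c a, h.β_swap c b, h.β_swap d a, h.β_swap d b, h.β_swap c d]

theorem card_le_of_pairs [Finite G] (hK : ∀ u : Kˣ, u ^ 2 = 1) {κ : Type} [Fintype κ]
    [DecidableEq κ] (v w : κ → E) (hvw : ∀ i j, h.β (v i) (w j) = if i = j then -1 else 1) :
    Nat.card Kˣ ^ Fintype.card κ ≤ Nat.card E := by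
  let ψ : E →* (κ → Kˣ) := MonoidHom.pi fun i => h.β (v i)
  have : Surjective ψ := by
    intro f
    rw [← Finset.univ_prod_mulSingle f]
    refine prod_mem (S := ψ.range) fun j _ => ?_
    rcases unit_sq_eq_one (hK (f j)) with h1 | h1
    · simp [h1]
    · exact ⟨w j, funext fun i => by rw [h1, Pi.mulSingle_apply]; exact hvw i j⟩
  simpa [Nat.card_fun] using Nat.card_le_card_of_surjective ψ this

theorem card_ker [Finite G] : Nat.card h.β.ker = Nat.card Kˣ := by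
  have : h.β.ker = h.ιE.range := by
    ext e
    exact ⟨fun he => (h.exists_ιE (DFunLike.congr_fun he)).imp fun _ => Eq.symm,
      by rintro ⟨u, rfl⟩; exact MonoidHom.ext (h.β_ιE u)⟩
  rw [this]
  exact (Nat.card_congr (MonoidHom.ofInjective h.ιE_inj).toEquiv).symm

include h in
theorem card_stab [Finite G] {x : V} (hx : x ≠ 0) :
    Nat.card (stab E x) = Nat.card (stab E x →* Kˣ) := by
  have := finite_hom (stab E x) K
  have := finite_hom (stab E x →* Kˣ) K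
  refine le_antisymm (le_trans (Nat.card_le_card_of_injective
    (MonoidHom.eval : stab E x →* (stab E x →* Kˣ) →* Kˣ) ?_) (card_hom_le _ K)) (card_hom_le _ K)
  rw [injective_iff_map_eq_one]
  intro d hd
  obtain ⟨u, hu⟩ := h.exists_ιE (a := d) fun e => DFunLike.congr_fun hd (h.χ x e)
  exact Subtype.ext (Subtype.ext (h.eq_one_of_fix ⟨u, by rw [hu]; rfl⟩ hx d.2))

theorem card_S {x : V} (hx : x ≠ 0) : Nat.card (h.S x) = Nat.card (stab E x) * Nat.card Kˣ := by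
  rw [← Nat.card_prod]
  symm
  refine Nat.card_eq_of_bijective (fun p => ⟨h.ιE p.2 * p.1,
    mul_mem (h.ιE_mem_S x _) (h.stab_le_S x p.1.2)⟩) ⟨?_, ?_⟩
  · rintro ⟨d, u⟩ ⟨d', u'⟩ hd
    have h1 : h.ιE u * d = h.ιE u' * d' := congrArg Subtype.val hd
    have h2 := congrArg (fun e : E => (e : G) • x) h1
    simp only [coe_mul, mul_smul, show ((d : E) : G) • x = x from d.2,
      show ((d' : E) : G) • x = x from d'.2] at h2
    obtain rfl := h.eq_of_smul hx h2
    rw [Subtype.ext (mul_left_cancel h1 : (d : E) = d')]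
  · rintro ⟨s, u, hu⟩
    refine ⟨(⟨_, (h.χ_of_eig hx hu).1⟩, u), Subtype.ext ?_⟩
    change h.ιE u * (h.ιE u⁻¹ * s) = s
    rw [map_inv, mul_inv_cancel_left]

theorem Minus.card_N [Finite G] (hK : ∀ u : Kˣ, u ^ 2 = 1) {x : V} (hx : x ≠ 0) {i j : E}
    (q : h.Minus x i j) :
    Nat.card (h.χ x).ker = Nat.card Kˣ * Nat.card Kˣ * Nat.card (h.S x) := by
  have h1 : (h.π2 i j).ker ⊓ (h.χ x).ker = h.S x := by
    ext m
    exact ⟨fun hm => q.mem m hm.2 (congrArg Prod.fst hm.1) (congrArg Prod.snd hm.1), fun hm =>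
      ⟨Prod.ext (h.β_of_S hx hm q.hi) (h.β_of_S hx hm q.hj), h.χ_of_S hx hm⟩⟩
  have h2 : (h.χ x).ker.map (h.π2 i j) = ⊤ := by
    have hji : h.β j i = -1 := by rw [h.β_swap, q.ij]; simp
    rw [eq_top_iff]
    rintro ⟨a, b⟩ -
    rcases unit_sq_eq_one (hK a) with rfl | rfl <;> rcases unit_sq_eq_one (hK b) with rfl | rfl
    · exact one_mem _
    · exact ⟨i, q.hi, by simp [π2_apply, q.ij, h.β_self]⟩
    · exact ⟨j, q.hj, by simp [π2_apply, hji, h.β_self]⟩
    · exact ⟨i * j, h.χ_mul q.hi q.hj, by simp [π2_apply, hji, q.ij, h.β_self]⟩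
  rw [← GT.card_map_mul_card_inf_ker (h.π2 i j), h1, h2, card_top, Nat.card_prod]

theorem card_E [Finite G] {x : V} (hx : x ≠ 0) :
    Nat.card E = Nat.card (h.χ x).ker * Nat.card (stab E x →* Kˣ) := by
  rw [← (h.χ x).ker.card_mul_index, index_ker, MonoidHom.range_eq_top.2 (h.χ_surjective hx),
    card_top]

theorem ncard_invol [Finite G] [Finite K] (h2 : (2 : K) ≠ 0) (hK : Nat.card Kˣ = 2) {x : V}
    (hx : IsMx E x) : 2 * {e : E | e ^ 2 = 1}.ncard + Nat.card (h.χ x).ker =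
      2 * Nat.card (h.S x) + Nat.card E := by
  have hK' : ∀ u : Kˣ, u ^ 2 = 1 := fun u => hK ▸ pow_card_eq_one'
  have hsq : ∀ a b, h.β a b ^ 2 = 1 := fun _ _ => hK' _
  choose! Z hZ1 hZ2 using fun (a : stab E x →* Kˣ) (ha : a ≠ 1) =>
    show ∃ Z ∈ stab E x, ∀ Y, h.χ x Y = a → h.β Z Y = -1 by
      obtain ⟨Y, rfl⟩ := h.χ_surjective hx.1 a
      obtain ⟨Z, h1, h3⟩ := h.exists_neg hsq ha
      exact ⟨Z, h1, fun Y' hY => (DFunLike.congr_fun hY ⟨Z, h1⟩).trans h3⟩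
  have hσ1 : ∀ e, h.χ x e ≠ 1 → h.χ x (e * Z (h.χ x e)) = h.χ x e := fun e he => by
    rw [map_mul, h.χ_of_mem hx.1 (hZ1 _ he)]; exact mul_one (h.χ x e)
  have hσ2 : ∀ e, h.χ x e ≠ 1 → (e * Z (h.χ x e)) ^ 2 = h.ιE (-1) * e ^ 2 := fun e he => by
    rw [h.mul_powE, hZ2 _ he e rfl, h.stab_sq hsq hx.1 (hZ1 _ he)]; simp
  have hinj : Set.InjOn (fun e => e * Z (h.χ x e)) ((h.χ x).ker : Set E)ᶜ := by
    intro a ha b hb hab
    have h1 := congrArg (h.χ x) hab
    simp only at h1 hab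
    rw [hσ1 a ha, hσ1 b hb] at h1
    rw [h1] at hab
    exact mul_right_cancel hab
  have hne : h.ιE (-1) ≠ 1 := fun h1 => neg_one_unit_ne h2 (h.ιE_inj (h1.trans (map_one _).symm))
  set J : Set E := {e | e ^ 2 = 1}
  set N : Set E := ((h.χ x).ker : Set E)
  have e1 : (Nᶜ ∩ J).ncard ≤ (Nᶜ \ J).ncard := Set.ncard_le_ncard_of_injOn _ (fun e he =>
    ⟨fun h1 => he.1 ((hσ1 e he.1).symm.trans h1), fun h1 => hne (by
      have := (hσ2 e he.1).symm.trans h1
      rwa [show e ^ 2 = 1 from he.2, mul_one] at this)⟩) (hinj.mono Set.inter_subset_left)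
  have e2 : (Nᶜ \ J).ncard ≤ (Nᶜ ∩ J).ncard := Set.ncard_le_ncard_of_injOn _ (fun e he =>
    ⟨fun h1 => he.1 ((hσ1 e he.1).symm.trans h1), by
      obtain ⟨u, hu⟩ := h.exists_pow_eq (hsq e)
      rcases unit_sq_eq_one (hK' u) with rfl | rfl
      · exact absurd (hu.trans (map_one _)) he.2
      · change _ ^ 2 = 1
        rw [hσ2 e he.1, hu, ← map_mul]; simp⟩) (hinj.mono Set.sdiff_subset)
  have e3 := Set.ncard_inter_add_ncard_sdiff_eq_ncard Nᶜ J
  have e4 := Set.ncard_inter_add_ncard_sdiff_eq_ncard J N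
  have e5 := Set.ncard_add_ncard_compl N
  have e6 : J ∩ N = h.S x := by
    ext m
    refine ⟨fun hm => h.mem_S_of_pow hx hm.2 (hK ▸ hm.1), fun hm => ⟨?_, h.χ_of_S hx.1 hm⟩⟩
    obtain ⟨u, hu⟩ := h.exists_pow_eq (hsq m)
    obtain ⟨c, hc⟩ := hm
    refine Subtype.ext (h.eq_one_of_fix ⟨u, by rw [hu]; rfl⟩ hx.1 ?_)
    rw [pow_two, coe_mul, mul_smul, hc, h.linE m.2, hc, smul_smul, ← Units.val_mul, ← pow_two, hK']
    simp
  rw [Set.sdiff_eq_compl_inter, e6] at e4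
  change _ + N.ncard = 2 * (h.S x : Set E).ncard + _
  omega

theorem Minus.card_ne_four [Finite G] [Group.IsSolvable G] [Finite K] (hG : ¬ 3 ∣ Nat.card G)
    (h2 : (2 : K) ≠ 0) (hK : Nat.card Kˣ = 2) {x : V} (hx : IsMx E x) {i j : E}
    (q : h.Minus x i j) : Nat.card (stab E x →* Kˣ) ≠ 4 := by
  intro hA
  have hK' : ∀ u : Kˣ, u ^ 2 = 1 := fun u => hK ▸ pow_card_eq_one'
  have e1 := h.card_S hx.1
  have e2 := q.card_N h hK' hx.1
  have e3 := h.card_E hx.1
  have e4 := h.ncard_invol h2 hK hx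
  have e5 := h.card_ker
  rw [h.card_stab hx.1, hA, hK] at e1
  rw [hK, e1] at e2
  rw [hA, e2] at e3
  rw [e1, e2, e3] at e4
  letI := h.actB
  have hsm : ∀ (g : G) (e : E), g • (e : E ⧸ h.β.ker) = (h.cE g e : E) := fun _ _ => rfl
  let T : Set (E ⧸ h.β.ker) := QuotientGroup.mk '' ({e | e ^ 2 = 1} \ h.β.ker)
  have hT : T.ncard = 27 := by
    have a1 := QuotientGroup.card_preimage_mk h.β.ker T
    have a2 : QuotientGroup.mk ⁻¹' T = {e | e ^ 2 = 1} \ h.β.ker := by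
      refine Set.Subset.antisymm ?_ (Set.subset_preimage_image _ _)
      rintro e ⟨f, hf, hfe⟩
      have a3 := QuotientGroup.eq.1 hfe
      obtain ⟨u, hu⟩ := h.exists_ιE (DFunLike.congr_fun a3)
      refine ⟨?_, fun he => hf.2 ((inv_mem_iff (H := h.β.ker)).1 ((mul_mem_cancel_right he).1 a3))⟩
      change e ^ 2 = 1
      rw [inv_mul_eq_iff_eq_mul.1 hu, (h.ιE_comm _ _).symm.mul_pow, show f ^ 2 = 1 from hf.1,
        ← map_pow, hK', map_one, one_mul]
    have a3 := Set.ncard_sdiff_add_ncard_of_subset (s := (h.β.ker : Set E)) (t := {e | e ^ 2 = 1})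
      (fun e he => by
        obtain ⟨u, rfl⟩ := h.exists_ιE (DFunLike.congr_fun he)
        change _ ^ 2 = 1
        rw [← map_pow, hK', map_one])
    rw [a2, e5, hK] at a1
    change Set.ncard _ = 2 * T.ncard at a1
    change _ + Nat.card h.β.ker = _ at a3
    omega
  have hi1 : i ∉ h.β.ker := fun h1 => neg_one_unit_ne h2 (q.ij.symm.trans (DFunLike.congr_fun h1 j))
  obtain ⟨L, hL⟩ := GT.exists_isChief (K := (MulAction.toPermHom G (E ⧸ h.β.ker)).ker)
    inferInstance fun h1 => hi1 (h.mem_ker_of_fix fun g => QuotientGroup.eq.1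
      (DFunLike.congr_fun (show g ∈ (MulAction.toPermHom G (E ⧸ h.β.ker)).ker from
        h1 ▸ mem_top g) (i : E ⧸ h.β.ker)).symm)
  obtain ⟨s, k, hs, hk, hsk⟩ := hL.exists_relIndex_eq_pow
  obtain ⟨_, ⟨e, he, rfl⟩, hfix⟩ := exists_fixed_of_pow (H := L) (T := T) hs (by
      rw [hT, show 27 = 3 ^ 3 from rfl]
      intro h1
      obtain rfl := (Nat.prime_dvd_prime_iff_eq hs Nat.prime_three).1 (hs.dvd_of_dvd_pow h1)
      exact hG (((dvd_pow_self 3 hk.ne').trans (hsk ▸ relIndex_dvd_card _ _)).trans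
        (card_subgroup_dvd_card L))) (by
      rintro g _ ⟨e, he, rfl⟩
      refine ⟨h.cE g e, ⟨?_, fun h3 => he.2 (h.cE_inv' g e ▸ h.cE_mem_ker (g : G)⁻¹ h3)⟩, rfl⟩
      change _ ^ 2 = 1
      rw [← map_pow, show e ^ 2 = 1 from he.1, map_one])
    fun g => ⟨k, fun b _ => DFunLike.congr_fun
      (hsk ▸ pow_relIndex_mem (MulAction.toPermHom G (E ⧸ h.β.ker)).ker g.2) b⟩
  let M : Subgroup E :=
    { carrier := {e | ∀ t ∈ L, t • (e : E ⧸ h.β.ker) = e}
      one_mem' := fun t _ => by rw [hsm, map_one]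
      mul_mem' := fun {a b} ha hb t ht => by
        rw [hsm, map_mul, QuotientGroup.mk_mul, ← hsm, ← hsm, ha t ht, hb t ht, QuotientGroup.mk_mul]
      inv_mem' := fun {a} ha t ht => by
        rw [hsm, map_inv, QuotientGroup.mk_inv, ← hsm, ha t ht, QuotientGroup.mk_inv] }
  have hM : ∀ g, ∀ e ∈ M, h.cE g e ∈ M := fun g e he t ht => by
    rw [← hsm, ← inv_smul_eq_iff, smul_smul, smul_smul]
    simpa using he _ (hL.normal_right.conj_mem t ht g⁻¹)
  let M' : Subgroup E :=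
    { carrier := {e | ∀ m ∈ M, h.β m e = 1}
      one_mem' := fun _ _ => map_one _
      mul_mem' := fun ha hb m hm => by rw [map_mul, ha m hm, hb m hm, one_mul]
      inv_mem' := fun ha m hm => by rw [map_inv, ha m hm, inv_one] }
  have hM' : ∀ g, ∀ e ∈ M', h.cE g e ∈ M' := fun g e he m hm => by
    simpa only [cE_inv] using h.β_cE_eq_one g (he _ (hM g⁻¹ m hm))
  obtain ⟨e', he', he1⟩ : ∃ e' ∈ M', e' ∉ h.β.ker := by
    by_contra hc
    push Not at hc
    refine hL.lt.not_ge fun t ht => Equiv.ext fun b => ?_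
    induction b using QuotientGroup.induction_on with
    | H f =>
      obtain ⟨m, hm⟩ := exists_rep (h.β.comp M.subtype) (h.β f) fun y hy => by
        rw [h.β_swap, show h.β y f = 1 from DFunLike.congr_fun (hc y fun m hm => hy ⟨m, hm⟩) f,
          inv_one]
      rw [← QuotientGroup.eq.2 (show (m : E)⁻¹ * f ∈ h.β.ker by
        rw [MonoidHom.mem_ker, map_mul, map_inv, ← hm]; exact inv_mul_cancel _)]
      exact m.2 t ht
  obtain ⟨v, w, a1, a2⟩ := h.exists_pairs hG h2 hK' hM (a := e) (fun t ht => hfix ⟨t, ht⟩) he.2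
  obtain ⟨v', w', a3, a4⟩ := h.exists_pairs hG h2 hK' hM' he' he1
  have := h.card_le_of_pairs hK' (Sum.elim v v') (Sum.elim w w') (by
    rintro (a | a) (b | b)
    · simp [a2]
    · simpa using (a3 b).2 _ (a1 a).1
    · rw [h.β_swap]; simpa using (a3 a).1 _ (a1 b).2
    · simp [a4])
  rw [hK, e3] at this
  simp at this

end EData

end Base2
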