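import Mathlib

/-! Fixed point lemmas for actions on small invariant sets. -/

set_option autoImplicit false

namespace Base2

open MulAction

variable {H X : Type*} [Group H] [MulAction H X]

theorem ncard_orbit_dvd [Finite H] (x : X) : (orbit H x).ncard ∣ Nat.card H := by
  rw [← MulAction.index_stabilizer]
  exact Subgroup.index_dvd_card _

theorem exists_fixed_of_three [Finite H] (h3 : ¬ 3 ∣ Nat.card H) {T : Set X} (hT : T.ncard = 3)
    (hinv : ∀ (h : H), ∀ x ∈ T, h • x ∈ T) : ∃ x ∈ T, ∀ h : H, h • x = x := by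
  by_contra hne
  push Not at hne
  have hfin : T.Finite := Set.finite_of_ncard_ne_zero (by omega)
  obtain ⟨x, hx⟩ : T.Nonempty := Set.nonempty_of_ncard_ne_zero (by omega)
  have hsub : ∀ x ∈ T, orbit H x ⊆ T := by rintro x hx _ ⟨h, rfl⟩; exact hinv h x hx
  have hlt : (orbit H x).ncard < 3 := by
    have h1 := Set.ncard_le_ncard (hsub x hx) hfin
    have h2 : (orbit H x).ncard ≠ 3 := fun hc => h3 (hc ▸ ncard_orbit_dvd x)
    omega
  obtain ⟨y, hy, hyx⟩ : ∃ y ∈ T, y ∉ orbit H x := by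
    by_contra hc
    push Not at hc
    have := Set.ncard_le_ncard (show T ⊆ orbit H x from hc) (hfin.subset (hsub x hx))
    omega
  obtain ⟨g, hg⟩ := hne x hx
  obtain ⟨k, hk⟩ := hne y hy
  have hky : k • y ∉ orbit H x := fun ⟨l, hl⟩ => hyx ⟨k⁻¹ * l, by
    simp only at hl ⊢; rw [mul_smul, hl, inv_smul_smul]⟩
  have hs : ({x, g • x, y, k • y} : Set X) ⊆ T := by
    rintro _ (rfl | rfl | rfl | rfl)
    · exact hx
    · exact hinv _ _ hx
    · exact hy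
    · exact hinv _ _ hy
  have n1 : y ≠ x := fun hc => hyx (hc ▸ mem_orbit_self _)
  have n2 : y ≠ g • x := fun hc => hyx (hc ▸ mem_orbit _ _)
  have n3 : k • y ≠ x := fun hc => hky (hc ▸ mem_orbit_self _)
  have n4 : k • y ≠ g • x := fun hc => hky (hc ▸ mem_orbit _ _)
  have h4 : ({x, g • x, y, k • y} : Set X).ncard = 4 := by
    rw [Set.ncard_insert_of_notMem (by simp [hg.symm, n1.symm, n3.symm]),
      Set.ncard_insert_of_notMem (by simp [n2.symm, n4.symm]), Set.ncard_pair hk.symm]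
  have := Set.ncard_le_ncard hs hfin
  omega

theorem exists_fixed_of_pow {s : ℕ} (hs : s.Prime) {T : Set X} (hT : ¬ s ∣ T.ncard)
    (hinv : ∀ (h : H), ∀ x ∈ T, h • x ∈ T)
    (hp : ∀ h : H, ∃ k, ∀ x ∈ T, h ^ s ^ k • x = x) : ∃ x ∈ T, ∀ h : H, h • x = x := by
  have : Fact s.Prime := ⟨hs⟩
  let S : SubMulAction H X := ⟨T, fun h x hx => hinv h x hx⟩
  let R := (toPermHom H S).range
  have hR : IsPGroup s R := by
    rintro ⟨_, h, rfl⟩
    obtain ⟨k, hk⟩ := hp h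
    refine ⟨k, Subtype.ext ?_⟩
    rw [SubgroupClass.coe_pow, OneMemClass.coe_one, ← map_pow]
    ext x
    exact hk x x.2
  obtain ⟨x, hx⟩ := hR.nonempty_fixed_point_of_prime_not_dvd_card S hT
  exact ⟨x, x.2, fun h => congrArg Subtype.val (hx ⟨_, h, rfl⟩)⟩

theorem exists_fixed_cyclic {G : Type*} [Group G] [MulAction G X] {s : ℕ} (hs : s.Prime)
    {T : Set X} (hT : ¬ s ∣ T.ncard) {g : G} (hg : g ^ s = 1) (hinv : ∀ x ∈ T, g • x ∈ T) :
    ∃ x ∈ T, g • x = x := by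
  have hpow : ∀ (n : ℕ), ∀ x ∈ T, g ^ n • x ∈ T := by
    intro n
    induction n with
    | zero => simp
    | succ n ih => intro x hx; rw [pow_succ, mul_smul]; exact ih _ (hinv x hx)
  have hfin : IsOfFinOrder g := isOfFinOrder_iff_pow_eq_one.2 ⟨s, hs.pos, hg⟩
  obtain ⟨x, hx, h⟩ := exists_fixed_of_pow (H := Subgroup.zpowers g) hs hT (by
    rintro ⟨h, hh⟩ x hx
    obtain ⟨n, rfl⟩ := hfin.mem_powers_iff_mem_zpowers.2 hh
    exact hpow n x hx) (by
    rintro ⟨_, n, rfl⟩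
    refine ⟨1, fun x _ => ?_⟩
    change (g ^ n) ^ s ^ 1 • x = x
    rw [pow_one, ← zpow_natCast, ← zpow_mul, mul_comm, zpow_mul, zpow_natCast, hg, one_zpow,
      one_smul])
  exact ⟨x, hx, h ⟨g, Subgroup.mem_zpowers g⟩⟩

theorem exists_pow_smul_eq {G : Type*} [Group G] [MulAction G X] {s : ℕ} (hs : s.Prime)
    {T : Set X} (hT : T.ncard = s) {g : G} (hg : g ^ s = 1) (hinv : ∀ x ∈ T, g • x ∈ T)
    (hne : ∃ x ∈ T, g • x ≠ x) : ∀ x ∈ T, ∀ y ∈ T, ∃ k ∈ Subgroup.zpowers g, k • x = y := by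
  have hpow : ∀ (n : ℕ), ∀ x ∈ T, g ^ n • x ∈ T := by
    intro n
    induction n with
    | zero => simp
    | succ n ih => intro x hx; rw [pow_succ, mul_smul]; exact ih _ (hinv x hx)
  have hfin : IsOfFinOrder g := isOfFinOrder_iff_pow_eq_one.2 ⟨s, hs.pos, hg⟩
  obtain ⟨z, hz, hzne⟩ := hne
  have : Finite (Subgroup.zpowers g) := hfin.finite_zpowers.to_subtype
  have hsub : orbit (Subgroup.zpowers g) z ⊆ T := by
    rintro _ ⟨⟨h, hh⟩, rfl⟩
    obtain ⟨n, rfl⟩ := hfin.mem_powers_iff_mem_zpowers.2 hh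
    exact hpow n z hz
  have hd := ncard_orbit_dvd (H := Subgroup.zpowers g) z
  rw [Nat.card_zpowers] at hd
  have hd' := hd.trans (orderOf_dvd_of_pow_eq_one hg)
  have hTf : T.Finite := Set.finite_of_ncard_ne_zero (hT ▸ hs.ne_zero)
  rcases (Nat.dvd_prime hs).1 hd' with h1 | h1
  · obtain ⟨w, hw⟩ := Set.ncard_eq_one.1 h1
    have a1 : z ∈ orbit (Subgroup.zpowers g) z := mem_orbit_self _
    have a2 : g • z ∈ orbit (Subgroup.zpowers g) z := ⟨⟨g, Subgroup.mem_zpowers g⟩, rfl⟩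
    rw [hw] at a1 a2
    exact absurd (a2.trans a1.symm) hzne
  · have heq := Set.eq_of_subset_of_ncard_le hsub (by omega) hTf
    intro x hx y hy
    rw [← heq] at hx hy
    obtain ⟨a, rfl⟩ := hx
    obtain ⟨b, rfl⟩ := hy
    refine ⟨(b * a⁻¹ : Subgroup.zpowers g), (b * a⁻¹).2, ?_⟩
    change (b * a⁻¹) • a • z = b • z
    rw [mul_smul, inv_smul_smul]

theorem mem_zpowers_pow_of_coprime {G : Type*} [Group G] [Finite G] (g : G) {n : ℕ}
    (h : n.Coprime (orderOf g)) : g ∈ Subgroup.zpowers (g ^ n) := by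
  obtain ⟨m, hm⟩ := exists_pow_eq_self_of_coprime h
  exact ⟨m, by simpa using hm⟩

/-- A copy of a group carrying the conjugation action. -/
def Cj (G : Type*) : Type _ := G

instance cjAction {G : Type*} [Group G] : MulAction G (Cj G) :=
  MulAction.compHom G (MulAut.conj : G →* MulAut G)

section conj

variable {G : Type*} [Group G]

theorem exists_fixed_of_three_conj [Finite G] {K : Subgroup G} (h3 : ¬ 3 ∣ Nat.card G)
    {T : Set G} (hT : T.ncard = 3) (hinv : ∀ h ∈ K, ∀ x ∈ T, h * x * h⁻¹ ∈ T) :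
    ∃ x ∈ T, ∀ h ∈ K, h * x * h⁻¹ = x := by
  obtain ⟨x, hx, h⟩ := exists_fixed_of_three (H := K) (X := Cj G)
    (fun hc => h3 (hc.trans (Subgroup.card_subgroup_dvd_card K))) (T := T) hT
    (fun h x hx => hinv h h.2 x hx)
  exact ⟨x, hx, fun k hk => h ⟨k, hk⟩⟩

theorem exists_fixed_of_pow_conj {K : Subgroup G} {s : ℕ} (hs : s.Prime) {T : Set G}
    (hT : ¬ s ∣ T.ncard) (hinv : ∀ h ∈ K, ∀ x ∈ T, h * x * h⁻¹ ∈ T)
    (hp : ∀ h ∈ K, ∃ k, ∀ x ∈ T, h ^ s ^ k * x * (h ^ s ^ k)⁻¹ = x) :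
    ∃ x ∈ T, ∀ h ∈ K, h * x * h⁻¹ = x := by
  obtain ⟨x, hx, h⟩ := exists_fixed_of_pow (H := K) (X := Cj G) hs (T := T) hT
    (fun h x hx => hinv h h.2 x hx) (fun h => hp h h.2)
  exact ⟨x, hx, fun k hk => h ⟨k, hk⟩⟩

theorem exists_fixed_cyclic_conj {s : ℕ} (hs : s.Prime) {T : Set G} (hT : ¬ s ∣ T.ncard) {g : G}
    (hg : g ^ s = 1) (hinv : ∀ x ∈ T, g * x * g⁻¹ ∈ T) : ∃ x ∈ T, g * x * g⁻¹ = x :=
  exists_fixed_cyclic (X := Cj G) hs (T := T) hT hg hinv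

theorem exists_pow_conj_eq {s : ℕ} (hs : s.Prime) {T : Set G} (hT : T.ncard = s) {g : G}
    (hg : g ^ s = 1) (hinv : ∀ x ∈ T, g * x * g⁻¹ ∈ T) (hne : ∃ x ∈ T, g * x * g⁻¹ ≠ x) :
    ∀ x ∈ T, ∀ y ∈ T, ∃ k ∈ Subgroup.zpowers g, k * x * k⁻¹ = y :=
  exists_pow_smul_eq (X := Cj G) hs (T := T) hT hg hinv hne

end conj

end Base2
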