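import Cfsg.Agent.Lib.Base.Perm

/-! Gluing regular pairs along a system of imprimitivity. -/

set_option autoImplicit false

namespace Base2

open Function

/-- There are `ι` many pairs of vectors with trivial joint stabiliser in distinct orbits. -/
def Good (ι G V : Type*) [Group G] [AddCommGroup V] [DistribMulAction G V] : Prop :=
  ∃ x y : ι → V, ∀ i j (g : G), g • x i = x j → g • y i = y j → i = j ∧ ∀ v : V, g • v = v

variable {G V : Type*} [Group G] [AddCommGroup V] [DistribMulAction G V]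

theorem Good.of_injective {ι ι' : Type*} (h : Good ι G V) {f : ι' → ι} (hf : Injective f) :
    Good ι' G V := by
  obtain ⟨x, y, h⟩ := h
  exact ⟨x ∘ f, y ∘ f, fun i j g h1 h2 => ⟨hf (h _ _ g h1 h2).1, (h _ _ g h1 h2).2⟩⟩

theorem Good.of_hom {ι G' : Type*} [Group G'] [DistribMulAction G' V] (h : Good ι G' V)
    (f : G → G') (hf : ∀ g (v : V), f g • v = g • v) : Good ι G V := by
  obtain ⟨x, y, h⟩ := h
  refine ⟨x, y, fun i j g h1 h2 => ?_⟩
  obtain ⟨h3, h4⟩ := h i j (f g) (by rwa [hf]) (by rwa [hf])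
  exact ⟨h3, fun v => by rw [← hf, h4]⟩

variable (V) in
/-- the endomorphism induced by a group element -/
abbrev rho (g : G) : Module.End ℤ V := DistribMulAction.toModuleEnd ℤ V g

theorem rho_apply (g : G) (v : V) : rho V g v = g • v := rfl

/-- conjugation of endomorphisms -/
def cjE (g : G) (e : Module.End ℤ V) : Module.End ℤ V := rho V g * e * rho V g⁻¹

theorem cjE_apply (g : G) (e : Module.End ℤ V) (v : V) : cjE g e v = g • e (g⁻¹ • v) := rfl

theorem cjE_smul (g : G) (e : Module.End ℤ V) (v : V) : cjE g e (g • v) = g • e v := by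
  rw [cjE_apply, inv_smul_smul]

theorem cjE_one (e : Module.End ℤ V) : cjE (1 : G) e = e := by
  ext v; simp [cjE_apply]

theorem cjE_mul (g h : G) (e : Module.End ℤ V) : cjE (g * h) e = cjE g (cjE h e) := by
  ext v; simp [cjE_apply, mul_smul]

theorem cjE_sum {ι : Type*} (g : G) (s : Finset ι) (e : ι → Module.End ℤ V) :
    cjE g (∑ i ∈ s, e i) = ∑ i ∈ s, cjE g (e i) := by
  simp [cjE, Finset.mul_sum, Finset.sum_mul]

theorem cjE_injective (g : G) : Injective (cjE g : Module.End ℤ V → _) := by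
  intro a b h
  have := congrArg (cjE g⁻¹) h
  simpa [← cjE_mul, cjE_one] using this

variable (G) in
/-- a `G`-invariant complete family of orthogonal idempotents -/
structure IsSys (Ω : Finset (Module.End ℤ V)) : Prop where
  ne : ∀ e ∈ Ω, e ≠ 0
  idem : ∀ e ∈ Ω, e * e = e
  orth : ∀ e ∈ Ω, ∀ e' ∈ Ω, e ≠ e' → e * e' = 0
  sum : ∑ e ∈ Ω, e = 1
  inv : ∀ (g : G), ∀ e ∈ Ω, cjE g e ∈ Ω

/-- the action on a system -/
@[reducible] def IsSys.action {Ω : Finset (Module.End ℤ V)} (h : IsSys G Ω) : MulAction G Ω where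
  smul g e := ⟨cjE g e, h.inv g e e.2⟩
  one_smul e := Subtype.ext (cjE_one e.1)
  mul_smul g k e := Subtype.ext (cjE_mul g k e.1)

theorem IsSys.quasi {Ω : Finset (Module.End ℤ V)} (h : IsSys G Ω)
    (hmin : ∀ Ω' : Finset (Module.End ℤ V), IsSys G Ω' → 2 ≤ Ω'.card → Ω.card ≤ Ω'.card)
    (N : Subgroup G) (hN : N.Normal) : (∀ n ∈ N, ∀ e ∈ Ω, cjE n e = e) ∨
      ∀ e ∈ Ω, ∀ e' ∈ Ω, ∃ n ∈ N, cjE n e = e' := by
  classical
  by_contra hcon
  push Not at hcon
  obtain ⟨⟨n0, hn0, e0, he0, hne0⟩, e1, he1, e2, he2, hne⟩ := hcon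
  let r : Module.End ℤ V → Module.End ℤ V → Prop := fun e e' => ∃ n ∈ N, cjE n e = e'
  have rrefl : ∀ e, r e e := fun e => ⟨1, one_mem _, cjE_one e⟩
  have rsymm : ∀ e e', r e e' → r e' e := by
    rintro e _ ⟨n, hn, rfl⟩
    exact ⟨n⁻¹, inv_mem hn, by rw [← cjE_mul, inv_mul_cancel, cjE_one]⟩
  have rtrans : ∀ e e' e'', r e e' → r e' e'' → r e e'' := by
    rintro e _ _ ⟨n, hn, rfl⟩ ⟨m, hm, rfl⟩
    exact ⟨m * n, mul_mem hm hn, cjE_mul _ _ _⟩
  have rconj : ∀ (g : G) e e', r e e' → r (cjE g e) (cjE g e') := by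
    rintro g e _ ⟨n, hn, rfl⟩
    exact ⟨g * n * g⁻¹, hN.conj_mem n hn g, by simp [← cjE_mul]⟩
  let m : Module.End ℤ V → Module.End ℤ V := fun e => ∑ e' ∈ Ω.filter (r e), e'
  have hme : ∀ e, ∀ e' ∈ Ω, m e * e' = if r e e' then e' else 0 := by
    intro e e' he'
    simp only [m, Finset.sum_mul]
    split_ifs with hr
    · rw [Finset.sum_eq_single e']
      · exact h.idem _ he'
      · intro b hb hbe; exact h.orth _ (Finset.mem_filter.1 hb).1 _ he' hbe
      · intro hb; exact absurd (Finset.mem_filter.2 ⟨he', hr⟩) hb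
    · apply Finset.sum_eq_zero
      intro b hb
      exact h.orth _ (Finset.mem_filter.1 hb).1 _ he' fun hc => hr (hc ▸ (Finset.mem_filter.1 hb).2)
  have hmr : ∀ e e', r e e' → m e = m e' := by
    intro e e' hr
    simp only [m]
    congr 1
    ext b
    simp only [Finset.mem_filter]
    exact and_congr_right fun _ => ⟨rtrans _ _ _ (rsymm _ _ hr), rtrans _ _ _ hr⟩
  have hrm : ∀ e, ∀ e' ∈ Ω, m e = m e' → r e e' := by
    intro e e' he' hm
    by_contra hr
    have h1 := hme e e' he'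
    rw [if_neg hr, hm, hme e' e' he', if_pos (rrefl _)] at h1
    exact h.ne _ he' h1
  have hmm : ∀ e e', m e * m e' = if r e e' then m e' else 0 := by
    intro e e'
    conv_lhs => rw [show m e' = ∑ b ∈ Ω.filter (r e'), b from rfl, Finset.mul_sum]
    split_ifs with hr
    · apply Finset.sum_congr rfl
      intro b hb
      rw [hme _ _ (Finset.mem_filter.1 hb).1, if_pos (rtrans _ _ _ hr (Finset.mem_filter.1 hb).2)]
    · apply Finset.sum_eq_zero
      intro b hb
      rw [hme _ _ (Finset.mem_filter.1 hb).1, if_neg]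
      exact fun hc => hr (rtrans _ _ _ hc (rsymm _ _ (Finset.mem_filter.1 hb).2))
  have hsys : IsSys G (Ω.image m) := by
    refine ⟨?_, ?_, ?_, ?_, ?_⟩
    · intro x hx
      obtain ⟨e, he, rfl⟩ := Finset.mem_image.1 hx
      intro hc
      have := hme e e he
      rw [hc, zero_mul, if_pos (rrefl _)] at this
      exact h.ne _ he this.symm
    · intro x hx
      obtain ⟨e, he, rfl⟩ := Finset.mem_image.1 hx
      rw [hmm, if_pos (rrefl _)]
    · intro x hx y hy hxy
      obtain ⟨e, he, rfl⟩ := Finset.mem_image.1 hx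
      obtain ⟨e', he', rfl⟩ := Finset.mem_image.1 hy
      rw [hmm, if_neg fun hr => hxy (hmr _ _ hr)]
    · rw [← h.sum, ← Finset.sum_fiberwise_of_maps_to (s := Ω) (t := Ω.image m) (g := m)
        (fun x hx => Finset.mem_image_of_mem m hx)]
      apply Finset.sum_congr rfl
      intro x hx
      obtain ⟨e, he, rfl⟩ := Finset.mem_image.1 hx
      apply Finset.sum_congr _ fun _ _ => rfl
      ext b
      simp only [Finset.mem_filter]
      exact and_congr_right fun hb => ⟨fun hr => (hmr _ _ hr).symm, fun hm => hrm _ _ hb hm.symm⟩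
    · intro g x hx
      obtain ⟨e, he, rfl⟩ := Finset.mem_image.1 hx
      refine Finset.mem_image.2 ⟨cjE g e, h.inv g e he, ?_⟩
      simp only [m]
      rw [cjE_sum]
      symm
      apply Finset.sum_bij (fun b _ => cjE g b)
      · intro b hb
        exact Finset.mem_filter.2 ⟨h.inv g b (Finset.mem_filter.1 hb).1,
          rconj g _ _ (Finset.mem_filter.1 hb).2⟩
      · intro a _ b _ hab; exact cjE_injective g hab
      · intro b hb
        refine ⟨cjE g⁻¹ b, Finset.mem_filter.2 ⟨h.inv _ b (Finset.mem_filter.1 hb).1, ?_⟩, ?_⟩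
        · simpa [← cjE_mul, cjE_one] using rconj g⁻¹ _ _ (Finset.mem_filter.1 hb).2
        · simp [← cjE_mul, cjE_one]
      · intro _ _; rfl
  have h2 : 2 ≤ (Ω.image m).card := by
    rw [Nat.succ_le_iff, Finset.one_lt_card]
    refine ⟨m e1, Finset.mem_image_of_mem m he1, m e2, Finset.mem_image_of_mem m he2, fun hc => ?_⟩
    obtain ⟨n, hn, hh⟩ := hrm _ _ he2 hc
    exact hne n hn hh
  have h3 := hmin _ hsys h2
  have h4 := Finset.card_image_iff.1 (le_antisymm Finset.card_image_le h3)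
  exact hne0 (h4 (h.inv n0 e0 he0) he0 (hmr _ _ ⟨n0, hn0, rfl⟩).symm)

theorem IsSys.good {Ω : Finset (Module.End ℤ V)} (h : IsSys G Ω) {κ : ℕ}
    (c : Module.End ℤ V → ZMod κ)
    (hc : ∀ (g : G) (t : ZMod κ), (∀ e ∈ Ω, c (cjE g e) = c e + t) → t = 0 ∧ ∀ e ∈ Ω, cjE g e = e)
    (hloc : ∀ e ∈ Ω, ∃ x y : ZMod κ → V, (∀ i, e (x i) = x i) ∧ (∀ i, e (y i) = y i) ∧
      ∀ i j (g : G), cjE g e = e → g • x i = x j → g • y i = y j →
        i = j ∧ ∀ v : V, g • e v = e v) : Good (ZMod κ) G V := by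
  classical
  letI := h.action
  choose x y hx hy hxy using hloc
  let r : Ω → Ω := fun e => (Quotient.mk (MulAction.orbitRel G Ω) e).out
  have hr : ∀ e : Ω, ∃ g : G, g • r e = e := by
    intro e
    have : MulAction.orbitRel G Ω e (r e) := Quotient.exact (Quotient.out_eq _).symm
    exact this
  choose k hk using hr
  have hk' : ∀ e : Ω, cjE (k e) (r e).1 = e.1 := fun e => congrArg Subtype.val (hk e)
  have hrr : ∀ (g : G) (e : Ω), r (g • e) = r e := by
    intro g e
    simp only [r]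
    congr 1
    exact Quotient.sound ⟨g, rfl⟩
  let glue : (∀ e ∈ Ω, ZMod κ → V) → ZMod κ → V := fun x i =>
    ∑ e : Ω, k e • x (r e) (r e).2 (c e + i)
  have hglue : ∀ x : (∀ e ∈ Ω, ZMod κ → V), (∀ e he i, e (x e he i) = x e he i) → ∀ i (e : Ω),
      e.1 (glue x i) = k e • x (r e) (r e).2 (c e + i) := by
    intro x hx i e
    have h1 : ∀ (e : Ω) j, e.1 (k e • x (r e) (r e).2 j) = k e • x (r e) (r e).2 j := by
      intro e j
      rw [← hk' e, cjE_smul, hx]
    simp only [glue, map_sum]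
    rw [Finset.sum_eq_single e]
    · exact h1 e _
    · intro b _ hb
      rw [← h1 b, ← Module.End.mul_apply, h.orth _ e.2 _ b.2 (fun hc => hb (Subtype.ext hc.symm)),
        LinearMap.zero_apply]
    · simp
  refine ⟨glue x, glue y, fun i j g h1 h2 => ?_⟩
  have key : ∀ e : Ω, c e + i = c (g • e : Ω) + j ∧
      ∀ v : V, ((k (g • e))⁻¹ * g * k e) • (r e).1 v = (r e).1 v := by
    intro e
    have a : ∀ x : (∀ e ∈ Ω, ZMod κ → V), (∀ e he i, e (x e he i) = x e he i) →
        g • glue x i = glue x j →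
        ((k (g • e))⁻¹ * g * k e) • x (r e) (r e).2 (c e + i) =
          x (r e) (r e).2 (c (g • e : Ω) + j) := by
      intro x hx h1
      have := hglue x hx j (g • e)
      rw [← h1, show (g • e : Ω).1 = cjE g e from rfl, cjE_smul, hglue x hx] at this
      rw [mul_smul, mul_smul, this, inv_smul_smul]
      simp only [hrr]
      rfl
    apply hxy _ (r e).2 _ _ _ _ (a x hx h1) (a y hy h2)
    have : ((k (g • e))⁻¹ * g * k e) • r e = r e := by
      rw [mul_smul, mul_smul, hk, inv_smul_eq_iff, ← hrr g e, hk]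
    exact congrArg Subtype.val this
  obtain ⟨h3, h4⟩ := hc g (i - j) (fun e he => by
    have := (key ⟨e, he⟩).1
    change c e + i = c (cjE g e) + j at this
    linear_combination -this)
  refine ⟨sub_eq_zero.1 h3, fun v => ?_⟩
  have h5 : ∀ e ∈ Ω, g • e v = e v := by
    intro e he
    have h6 := (key ⟨e, he⟩).2 ((k ⟨e, he⟩)⁻¹ • v)
    rw [show g • (⟨e, he⟩ : Ω) = ⟨e, he⟩ from Subtype.ext (h4 e he), mul_smul, mul_smul,
      inv_smul_eq_iff, ← cjE_apply, hk'] at h6
    exact h6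
  have h7 : v = ∑ e ∈ Ω, e v := by
    rw [← LinearMap.sum_apply, h.sum]; rfl
  rw [h7, Finset.smul_sum]
  exact Finset.sum_congr rfl h5

end Base2
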