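import Cfsg.Agent.Lib.Base.Two

/-! Vectors with maximal stabiliser: the Lagrangian and the quaternion type. -/

set_option autoImplicit false

namespace Base2

open Function Subgroup

variable {K G V : Type*} [Field K] [Group G] [AddCommGroup V] [Module K V] [DistribMulAction G V]
  {ι : Kˣ →* G} {E : Subgroup G}

open Polynomial in
theorem exists_eig {T : Module.End K V} {W : Submodule K V} (hW : ∀ w ∈ W, T w ∈ W)
    (s : Multiset K) : ∀ v ∈ W, v ≠ 0 → aeval T (s.map fun c => X - C c).prod v = 0 →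
      ∃ w ∈ W, w ≠ 0 ∧ ∃ c : K, T w = c • w := by
  induction s using Multiset.induction_on with
  | empty => intro v _ hv h; exact absurd (by simpa using h) hv
  | cons c s ih =>
    intro v hv hv0 h
    by_cases h0 : T v - c • v = 0
    · exact ⟨v, hv, hv0, c, sub_eq_zero.1 h0⟩
    · apply ih _ (sub_mem (hW v hv) (W.smul_mem c hv)) h0
      rw [Multiset.map_cons, Multiset.prod_cons, mul_comm, map_mul, Module.End.mul_apply] at h
      simpa using h

open Polynomial in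
theorem exists_eig' [Finite K] {T : Module.End K V} {W : Submodule K V} (hW : ∀ w ∈ W, T w ∈ W)
    (hT : T ^ Nat.card Kˣ = 1) {v : V} (hv : v ∈ W) (hv0 : v ≠ 0) :
    ∃ w ∈ W, w ≠ 0 ∧ ∃ c : K, T w = c • w := by
  classical
  have := Fintype.ofFinite K
  have h1 : 1 < Fintype.card K := Fintype.one_lt_card
  apply exists_eig hW (X ^ Fintype.card K - X : K[X]).roots v hv hv0
  rw [prod_multiset_X_sub_C_of_monic_of_roots_card_eq
    (monic_X_pow_sub (by rw [degree_X]; exact_mod_cast h1)) (by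
      rw [FiniteField.roots_X_pow_card_sub_X, FiniteField.X_pow_card_sub_X_natDegree_eq _ h1]; rfl)]
  rw [Nat.card_units, Nat.card_eq_fintype_card] at hT
  rw [map_sub, map_pow, aeval_X, ← Nat.sub_add_cancel h1.le, pow_succ, hT, one_mul, sub_self]
  rfl

/-- non-zero vectors with maximal stabiliser -/
def IsMx (E : Subgroup G) (x : V) : Prop :=
  x ≠ 0 ∧ ∀ y : V, y ≠ 0 → Nat.card (stab E y) ≤ Nat.card (stab E x)

theorem exists_isMx [Finite V] [Nontrivial V] (E : Subgroup G) : ∃ x : V, IsMx E x := by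
  obtain ⟨x, hx, h⟩ := Set.exists_max_image {x : V | x ≠ 0} (fun y => Nat.card (stab E y))
    (Set.toFinite _) (exists_ne 0)
  exact ⟨x, hx, h⟩

theorem neg_one_unit_ne (h2 : (2 : K) ≠ 0) : (-1 : Kˣ) ≠ 1 := fun h => h2 (by
  have : (-1 : K) = 1 := congrArg Units.val h
  linear_combination -this)

namespace EData

variable (h : EData V ι E)

/-- the elements acting on `x` as scalars -/
def S (x : V) : Subgroup E where
  carrier := {n | ∃ u : Kˣ, (n : G) • x = (u : K) • x}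
  one_mem' := ⟨1, by simp⟩
  mul_mem' := by
    rintro a b ⟨u, hu⟩ ⟨v, hv⟩
    exact ⟨v * u, by rw [coe_mul, mul_smul, hv, h.linE a.2, hu, smul_smul]; rfl⟩
  inv_mem' := by
    rintro a ⟨u, hu⟩
    exact ⟨u⁻¹, by rw [coe_inv, inv_smul_eq_iff, h.linE a.2, hu, smul_smul]; simp⟩

/-- scalars as elements of `E` -/
def ιE : Kˣ →* E := ι.codRestrict E h.le

@[simp] theorem coe_ιE (u : Kˣ) : (h.ιE u : G) = ι u := rfl

theorem ιE_comm (u : Kˣ) (e : E) : Commute (h.ιE u) e := Subtype.ext (h.cent e e.2 u).symm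

@[simp] theorem β_ιE (u : Kˣ) (e : E) : h.β (h.ιE u) e = 1 := h.β_of_mem_range ⟨u, rfl⟩ e

@[simp] theorem β_ιE' (u : Kˣ) (e : E) : h.β e (h.ιE u) = 1 := by rw [h.β_swap, β_ιE, inv_one]

@[simp] theorem χ_ιE (x : V) (u : Kˣ) : h.χ x (h.ιE u) = 1 := h.χ_ι x u

theorem ιE_smul (u : Kˣ) (v : V) : (h.ιE u : G) • v = (u : K) • v := h.smul u v

theorem ιE_mem_S (x : V) (u : Kˣ) : h.ιE u ∈ h.S x := ⟨u, h.smul u x⟩

theorem ιE_inj : Injective h.ιE := fun _ _ hab => h.ι_inj (congrArg Subtype.val hab)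

theorem stab_le_S (x : V) : stab E x ≤ h.S x := fun d hd => ⟨1, by rw [Units.val_one, one_smul]; exact hd⟩

theorem mul_powE (a b : E) (n : ℕ) :
    (a * b) ^ n = h.ιE (h.β b a ^ n.choose 2) * (a ^ n * b ^ n) := Subtype.ext (h.mul_pow a b n)

theorem exists_ιE {a : E} (ha : ∀ b, h.β a b = 1) : ∃ u, a = h.ιE u := by
  obtain ⟨u, hu⟩ := h.mem_range_of_central a.2 fun e he => (h.β_eq_one_iff (b := ⟨e, he⟩)).1 (ha _)
  exact ⟨u, Subtype.ext hu.symm⟩

theorem exists_pow_eq {a : E} {m : ℕ} (ha : ∀ b, h.β a b ^ m = 1) : ∃ u, a ^ m = h.ιE u :=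
  h.exists_ιE fun b => by rw [map_pow, MonoidHom.pow_apply, ha]

theorem χ_eq_one_iff {x : V} {n : E} : h.χ x n = 1 ↔ ∀ d ∈ stab E x, h.β d n = 1 :=
  ⟨fun h1 d hd => DFunLike.congr_fun h1 ⟨d, hd⟩, fun h1 => MonoidHom.ext fun d => h1 d d.2⟩

theorem χ_mul {x : V} {a b : E} (ha : h.χ x a = 1) (hb : h.χ x b = 1) : h.χ x (a * b) = 1 :=
  (h.χ x).ker.mul_mem ha hb

theorem χ_inv {x : V} {a : E} (ha : h.χ x a = 1) : h.χ x a⁻¹ = 1 := (h.χ x).ker.inv_mem ha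

theorem χ_pow {x : V} {a : E} (ha : h.χ x a = 1) (n : ℕ) : h.χ x (a ^ n) = 1 :=
  (h.χ x).ker.pow_mem ha n

theorem χ_of_S {x : V} (hx : x ≠ 0) {s : E} (hs : s ∈ h.S x) : h.χ x s = 1 :=
  (h.χ_of_eig hx hs.choose_spec).2

theorem β_of_S {x : V} (hx : x ≠ 0) {s m : E} (hs : s ∈ h.S x) (hm : h.χ x m = 1) :
    h.β s m = 1 := h.β_eig hx hs.choose_spec hm

theorem β_of_S' {x : V} (hx : x ≠ 0) {s m : E} (hs : s ∈ h.S x) (hm : h.χ x m = 1) :
    h.β m s = 1 := by rw [h.β_swap, h.β_of_S hx hs hm, inv_one]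

theorem smul_W {x : V} {n : E} (hn : h.χ x n = 1) {w : V} (hw : w ∈ h.W x) :
    (n : G) • w ∈ h.W x := by
  induction hw using Submodule.span_induction with
  | mem v hv =>
    obtain ⟨m, hm, rfl⟩ := hv
    rw [← mul_smul, ← coe_mul]
    exact h.smul_mem_W x (h.χ_mul hn hm)
  | zero => simp
  | add a b _ _ ha hb => rw [smul_add]; exact add_mem ha hb
  | smul c a _ ha => rw [h.linE n.2]; exact Submodule.smul_mem _ _ ha

theorem stab_eq [Finite G] {x y : V} (hx : IsMx E x) (hy : y ∈ h.W x) (hy0 : y ≠ 0) :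
    stab E y = stab E x :=
  (eq_of_le_of_card_ge (fun _ hd => h.stab_fix_W hd hy) (hx.2 y hy0)).symm

theorem isMx_of_W [Finite G] {x y : V} (hx : IsMx E x) (hy : y ∈ h.W x) (hy0 : y ≠ 0) :
    IsMx E y := ⟨hy0, by rw [h.stab_eq hx hy hy0]; exact hx.2⟩

theorem mem_S_of_pow [Finite G] [Finite K] {x : V} (hx : IsMx E x) {n : E} (hn : h.χ x n = 1)
    (hp : n ^ Nat.card Kˣ = 1) : n ∈ h.S x := by
  let T : Module.End K V := ⟨⟨fun v => (n : G) • v, smul_add _⟩, h.linE n.2⟩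
  have hT : ∀ (k : ℕ) v, (T ^ k) v = ((n ^ k : E) : G) • v := by
    intro k
    induction k with
    | zero => simp
    | succ k ih => intro v; rw [pow_succ, Module.End.mul_apply, ih, pow_succ, coe_mul, mul_smul]; rfl
  obtain ⟨w, hw, hw0, c, hc⟩ := exists_eig' (T := T) (W := h.W x) (fun w hw => h.smul_W hn hw)
    (by ext v; rw [hT, hp]; simp) (h.self_mem_W x) hx.1
  have hc0 : c ≠ 0 := by
    rintro rfl
    exact hw0 ((smul_eq_zero_iff_eq (n : G)).1 (hc.trans (zero_smul K w)))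
  have h1 := (h.χ_of_eig hw0 (n := n) (u := Units.mk0 c hc0) hc).1
  rw [h.stab_eq hx hw hw0] at h1
  have h2 := mul_mem (h.ιE_mem_S x (Units.mk0 c hc0)) (h.stab_le_S x h1)
  rwa [show (⟨ι (Units.mk0 c hc0)⁻¹, h.le _⟩ : E) = h.ιE (Units.mk0 c hc0)⁻¹ from rfl, map_inv,
    mul_inv_cancel_left] at h2

theorem mem_S_of_cent [Finite G] {x : V} {e : E} (he : ∀ m, h.χ x m = 1 → h.β e m = 1) :
    e ∈ h.S x := by
  obtain ⟨d, hd⟩ := exists_rep (h.β.comp (stab E x).subtype) (h.β e) fun y hy =>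
    he y (MonoidHom.ext hy)
  obtain ⟨u, hu⟩ := h.exists_ιE (a := (d : E)⁻¹ * e) fun b => by
    rw [map_mul, map_inv, ← hd]; simp
  rw [inv_mul_eq_iff_eq_mul.1 hu]
  exact mul_mem (h.stab_le_S x d.2) (h.ιE_mem_S x u)

include h in
theorem pow_two_card [Finite G] (a : E) : a ^ (2 * Nat.card Kˣ) = 1 :=
  Subtype.ext (h.pow_eq_one_of (fun u => by rw [mul_comm, pow_mul, pow_card_eq_one', one_pow])
    (fun a b => by
      rw [Nat.choose_two_right, mul_assoc, Nat.mul_div_cancel_left _ two_pos, pow_mul,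
        pow_card_eq_one', one_pow]) a a.2)

theorem β_pow_of_dvd {m k : ℕ} (hm : Nat.card Kˣ ∣ m ^ k) (a b : E) : h.β a b ^ m = 1 := by
  have key : ∀ j : ℕ, (∀ a ∈ E, a ^ m ^ 2 ^ j ∈ ι.range) → ∀ a ∈ E, a ^ m ∈ ι.range := by
    intro j
    induction j with
    | zero => simp
    | succ j ih =>
      intro h1
      exact ih (h.pow_mem_range_of_sq (by simpa only [← pow_add, ← mul_two, ← pow_succ] using h1))
  refine (h.pow_mem_range_iff a m).1 (key k (fun c hc => ?_) a a.2) b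
  refine (h.pow_mem_range_iff ⟨c, hc⟩ _).2 fun d => ?_
  obtain ⟨r, hr⟩ := hm.trans (pow_dvd_pow m (Nat.lt_two_pow_self (n := k)).le)
  rw [hr, pow_mul, pow_card_eq_one', one_pow]

include h in
theorem pow_card_of_four [Finite G] (h4 : 4 ∣ Nat.card Kˣ) (a : E) : a ^ Nat.card Kˣ = 1 := by
  obtain ⟨r, hr⟩ := h4
  refine Subtype.ext (h.pow_eq_one_of (fun u => pow_card_eq_one') (fun a b => ?_) a a.2)
  have := h.β_pow_of_dvd (m := 2 * r) (k := 2) ⟨r, by rw [hr]; ring⟩ a b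
  rw [Nat.choose_two_right, hr, show 4 * r * (4 * r - 1) = 2 * (2 * r * (4 * r - 1)) by ring,
    Nat.mul_div_cancel_left _ two_pos, pow_mul, this, one_pow]

theorem red_minus [Finite G] [Finite K] {n : ℕ} (hn : Odd n) (hK : Nat.card Kˣ = 2 * n) {x : V}
    (hx : IsMx E x) {m : E} (hm : h.χ x m = 1) (hS : m ∉ h.S x) :
    ∃ s ∈ h.S x, (m * s) ^ 2 = h.ιE (-1) := by
  obtain ⟨c, rfl⟩ := hn
  have h4 := h.pow_two_card m
  rw [hK] at h4
  have hs : m ^ (4 * (c * c + c)) ∈ h.S x := h.mem_S_of_pow hx (h.χ_pow hm _) (by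
    rw [hK, ← pow_mul, show 4 * (c * c + c) * (2 * (2 * c + 1)) =
      2 * (2 * (2 * c + 1)) * (2 * (c * c + c)) by ring, pow_mul, h4, one_pow])
  refine ⟨_, hs, ?_⟩
  have e1 : m * m ^ (4 * (c * c + c)) = m ^ ((2 * c + 1) * (2 * c + 1)) := by
    rw [← pow_succ']; congr 1; ring
  obtain ⟨u, hu⟩ := h.exists_pow_eq (a := m * m ^ (4 * (c * c + c))) (m := 2) fun b => by
    rw [e1, map_pow, MonoidHom.pow_apply, ← pow_mul,
      show (2 * c + 1) * (2 * c + 1) * 2 = 2 * (2 * c + 1) * (2 * c + 1) by ring, pow_mul, ← hK,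
      pow_card_eq_one', one_pow]
  have hu2 : u ^ 2 = 1 := h.ιE_inj (by
    rw [map_pow, ← hu, e1, ← pow_mul, ← pow_mul,
      show (2 * c + 1) * (2 * c + 1) * (2 * 2) = 2 * (2 * (2 * c + 1)) * (2 * c + 1) by ring,
      pow_mul, h4, one_pow, map_one])
  rcases unit_sq_eq_one hu2 with rfl | rfl
  · refine absurd ((mul_mem_cancel_right hs).1 (h.mem_S_of_pow hx ?_ ?_)) hS
    · exact h.χ_mul hm (h.χ_pow hm _)
    · rw [hK, pow_mul, hu, map_one, one_pow]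
  · exact hu

theorem qrel_of {i j : E} (hii : i ^ 2 = h.ιE (-1))
    (hjj : j ^ 2 = h.ιE (-1)) (hij : h.β i j = -1) : QRel V i j (i * j) := by
  refine ⟨fun v => ?_, fun v => ?_, fun v => by rw [coe_mul, mul_smul], fun v => ?_⟩
  · rw [← mul_smul, ← coe_mul, ← pow_two, hii, ιE_smul]; simp
  · rw [← mul_smul, ← coe_mul, ← pow_two, hjj, ιE_smul]; simp
  · rw [coe_mul, mul_smul, h.β_smul i j, hij]; simp

theorem quat_of {x : V} {i j : E} (hi : h.χ x i = 1) (hj : h.χ x j = 1) (hii : i ^ 2 = h.ιE (-1))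
    (hjj : j ^ 2 = h.ιE (-1)) (hij : h.β i j = -1) : h.Quat x i j (i * j) :=
  ⟨h.qrel_of hii hjj hij, hi, hj⟩

theorem exists_quat [Finite G] [Finite K] {n : ℕ} (hn : Odd n) (hK : Nat.card Kˣ = 2 * n) {x : V}
    (hx : IsMx E x) {m : E} (hm : h.χ x m = 1) (hS : m ∉ h.S x) :
    ∃ i j, h.χ x i = 1 ∧ h.χ x j = 1 ∧ i ^ 2 = h.ιE (-1) ∧ j ^ 2 = h.ιE (-1) ∧ h.β i j = -1 := by
  obtain ⟨s, hs, hi⟩ := h.red_minus hn hK hx hm hS
  have h1 : h.χ x (m * s) = 1 := h.χ_mul hm (h.χ_of_S hx.1 hs)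
  obtain ⟨m', hm', hβ⟩ : ∃ m', h.χ x m' = 1 ∧ h.β (m * s) m' ≠ 1 := by
    by_contra hc
    push Not at hc
    exact hS ((mul_mem_cancel_right hs).1 (h.mem_S_of_cent hc))
  obtain ⟨s', hs', hj⟩ := h.red_minus hn hK hx hm' fun hc => hβ (h.β_of_S' hx.1 hc h1)
  refine ⟨_, _, h1, h.χ_mul hm' (h.χ_of_S hx.1 hs'), hi, hj, ?_⟩
  rw [map_mul (h.β (m * s)), h.β_of_S' hx.1 hs' h1, mul_one]
  exact (unit_sq_eq_one (by rw [← MonoidHom.pow_apply, ← map_pow, hi, β_ιE])).resolve_left hβ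

theorem mem_S_of_quat [Finite G] [Finite K] (h2 : (2 : K) ≠ 0) {n : ℕ} (hn : Odd n)
    (hK : Nat.card Kˣ = 2 * n) {x : V} (hx : IsMx E x) {i j : E} (hi : h.χ x i = 1)
    (hj : h.χ x j = 1) (hii : i ^ 2 = h.ιE (-1)) (hij : h.β i j = -1) {m : E} (hm : h.χ x m = 1)
    (h1 : h.β m i = 1) (h3 : h.β m j = 1) : m ∈ h.S x := by
  by_contra hS
  obtain ⟨s, hs, hl⟩ := h.red_minus hn hK hx hm hS
  have h4 : i * (m * s) ∈ h.S x := h.mem_S_of_pow hx
    (h.χ_mul hi (h.χ_mul hm (h.χ_of_S hx.1 hs))) (by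
      rw [hK, pow_mul, h.mul_powE, hii, hl, map_mul, MonoidHom.mul_apply, h1, h.β_of_S hx.1 hs hi,
        ← map_mul]
      simp)
  have := h.β_of_S hx.1 h4 hj
  simp only [map_mul, MonoidHom.mul_apply, hij, h3, h.β_of_S hx.1 hs hj, mul_one] at this
  exact neg_one_unit_ne h2 this

theorem adjust {i j : E} (hij : h.β i j = -1) {m : E} (h1 : h.β m i ^ 2 = 1)
    (h3 : h.β m j ^ 2 = 1) : ∃ c, (c = 1 ∨ c = i ∨ c = j ∨ c = i * j) ∧
      h.β (c⁻¹ * m) i = 1 ∧ h.β (c⁻¹ * m) j = 1 := by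
  have hji : h.β j i = -1 := by rw [h.β_swap, hij]; simp
  rcases unit_sq_eq_one h1 with h1 | h1 <;> rcases unit_sq_eq_one h3 with h3 | h3
  · exact ⟨1, by simp, by simpa using h1, by simpa using h3⟩
  · exact ⟨i, by simp, by simp [h1, h.β_self], by simp [h3, hij]⟩
  · exact ⟨j, by simp, by simp [h1, hji], by simp [h3, h.β_self]⟩
  · exact ⟨i * j, by simp, by simp [h1, hji, h.β_self], by simp [h3, hij, h.β_self]⟩

/-- The data of the quaternion type. -/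
structure Minus (x : V) (i j : E) : Prop where
  hi : h.χ x i = 1
  hj : h.χ x j = 1
  ii : i ^ 2 = h.ιE (-1)
  jj : j ^ 2 = h.ιE (-1)
  ij : h.β i j = -1
  mem : ∀ m, h.χ x m = 1 → h.β m i = 1 → h.β m j = 1 → m ∈ h.S x

theorem Minus.cases {x : V} {i j : E} (q : h.Minus x i j) (m : E) (hm : h.χ x m = 1) :
    ∃ u : Kˣ, (m : G) • x = (u : K) • x ∨ (m : G) • x = (u : K) • (i : G) • x ∨
      (m : G) • x = (u : K) • (j : G) • x ∨ (m : G) • x = (u : K) • ((i * j : E) : G) • x := by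
  obtain ⟨c, hc, h1, h2⟩ := h.adjust q.ij (m := m) (by rw [← map_pow, q.ii, β_ιE'])
    (by rw [← map_pow, q.jj, β_ιE'])
  have hc1 : h.χ x c = 1 := by
    rcases hc with rfl | rfl | rfl | rfl
    exacts [map_one _, q.hi, q.hj, h.χ_mul q.hi q.hj]
  obtain ⟨u, hu⟩ := q.mem _ (h.χ_mul (h.χ_inv hc1) hm) h1 h2
  rw [coe_mul, coe_inv, mul_smul, inv_smul_eq_iff, h.linE c.2] at hu
  refine ⟨u, ?_⟩
  rcases hc with rfl | rfl | rfl | rfl <;> simp [hu]

theorem exists_base [Finite G] [Finite K] [Finite V] {p : ℕ} [Fact p.Prime] [CharP K p]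
    (hG : ¬ p ∣ Nat.card G) (h2 : (2 : K) ≠ 0) (he : 2 ∣ Nat.card Kˣ) :
    ∃ x : V, IsMx E x ∧ (∃ y0, h.IsBase p x y0) ∧
      ((∀ m, h.χ x m = 1 → m ∈ h.S x) ∨ (¬ 4 ∣ Nat.card Kˣ ∧ ∃ i j, h.Minus x i j)) := by
  have := h.nt
  obtain ⟨x, hx⟩ := exists_isMx (V := V) E
  by_cases hL : ∀ m, h.χ x m = 1 → m ∈ h.S x
  · exact ⟨x, hx, h.exists_base_zero hG hx.1 hL, Or.inl hL⟩
  push Not at hL
  obtain ⟨m, hm, hS⟩ := hL
  have h4 : ¬ 4 ∣ Nat.card Kˣ := fun h4 => hS (h.mem_S_of_pow hx hm (h.pow_card_of_four h4 m))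
  obtain ⟨n, hK⟩ := he
  have hn : Odd n := by rw [Nat.odd_iff]; omega
  obtain ⟨i, j, hi, hj, hii, hjj, hij⟩ := h.exists_quat hn hK hx hm hS
  have q := h.quat_of hi hj hii hjj hij
  obtain ⟨a, b, hab⟩ : ∃ a b : K, a ^ 2 + b ^ 2 = -1 := by
    obtain ⟨a, b, hab⟩ := CharP.sq_add_sq K p (-1)
    exact ⟨a, b, by simpa using hab⟩
  obtain ⟨y, hy, hy0, hu⟩ : ∃ y ∈ h.W x, y ≠ 0 ∧ a • (i : G) • y + b • (j : G) • y = y := by
    by_cases h0 : x + (a • (i : G) • x + b • (j : G) • x) = 0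
    · refine ⟨_, h.smul_mem_W x q.hk, fun h1 => hx.1 ((smul_eq_zero_iff_eq _).1 h1), ?_⟩
      have e1 := congrArg (fun v => ((i * j : E) : G) • v) h0
      simp only [smul_add, h.linE (i * j).2, q.ki, q.kj, smul_zero] at e1
      rw [q.ik, q.jk]
      linear_combination (norm := ((try simp only [act_eq G]); module)) -e1
    · refine ⟨_, add_mem (h.self_mem_W x) (add_mem (Submodule.smul_mem _ _ (h.smul_mem_W x hi))
        (Submodule.smul_mem _ _ (h.smul_mem_W x hj))), h0, ?_⟩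
      simp only [smul_add, h.linE i.2, h.linE j.2, q.ii, q.jj, q.ij, q.ji]
      linear_combination (norm := ((try simp only [act_eq G]); module)) -hab • x
  have hy' := h.isMx_of_W hx hy hy0
  have hχ : ∀ m, h.χ x m = 1 → h.χ y m = 1 := fun m hm => by
    rw [χ_eq_one_iff, h.stab_eq hx hy hy0, ← χ_eq_one_iff]; exact hm
  have q' : h.Minus y i j := ⟨hχ i hi, hχ j hj, hii, hjj, hij, fun m =>
    h.mem_S_of_quat h2 hn hK hy' (hχ i hi) (hχ j hj) hii hij⟩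
  have hsq : ∀ a : K, a ^ 2 ≠ -1 := by
    intro a ha
    have ha0 : a ≠ 0 := by rintro rfl; simp at ha
    have h1 : Units.mk0 a ha0 ^ 2 = -1 := Units.ext ha
    have h3 := pow_card_eq_one' (x := Units.mk0 a ha0)
    rw [hK, pow_mul, h1, hn.neg_one_pow] at h3
    exact neg_one_unit_ne h2 h3
  exact ⟨y, hy', h.exists_base_quat hG h2 hy0 (h.quat_of q'.hi q'.hj hii hjj hij) (a := a) (b := b)
    (c := 0) (by simpa using hu) (hsq _) (hsq _) (hsq _) (by simpa using hab) (q'.cases h),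
    Or.inr ⟨h4, i, j, q'⟩⟩

end EData

end Base2
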