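import Cfsg.Agent.Lib.Base.Aff
import Cfsg.Agent.Lib.Base.Fix

/-! Regular colourings for quasiprimitive solvable permutation groups. -/

set_option autoImplicit false

namespace Base2

open Subgroup Function GT
open scoped IsMulCommutative

variable {G : Type*} [Group G] [Finite G]

omit [Finite G] in
theorem normal_zpowers_of {N H : Subgroup G} (hc : ∀ a ∈ N, ∀ b ∈ N, a * b = b * a)
    (hNH : ∀ g : G, ∃ n ∈ N, ∃ h ∈ H, g = n * h) {x : G} (hx : x ∈ N)
    (hfix : ∀ h ∈ H, h * x * h⁻¹ = x) : (zpowers x).Normal := by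
  refine ⟨?_⟩
  rintro _ ⟨k, rfl⟩ g
  obtain ⟨n, hn, h, hh, rfl⟩ := hNH g
  refine ⟨k, ?_⟩
  have : n * h * x * (n * h)⁻¹ = x := by
    rw [mul_inv_rev, show n * h * x * (h⁻¹ * n⁻¹) = n * (h * x * h⁻¹) * n⁻¹ by group, hfix h hh,
      hc n hn x hx, mul_inv_cancel_right]
  simp only
  rw [← conj_zpow, this]

omit [Finite G] in
theorem ncard_diff_one (N : Subgroup G) : ((N : Set G) \ {1}).ncard = Nat.card N - 1 := by
  rw [Set.ncard_sdiff_singleton_of_mem (one_mem N)]; rfl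

theorem stab_trivial_eight [Group.IsSolvable G] (h3 : ¬ 3 ∣ Nat.card G) {N H : Subgroup G}
    (hN : IsMinNormal N) (hc : ∀ a ∈ N, ∀ b ∈ N, a * b = b * a) (h8 : Nat.card N = 8)
    (hNH : ∀ g : G, ∃ n ∈ N, ∃ h ∈ H, g = n * h)
    (hf : ∀ h ∈ H, (∀ n ∈ N, h * n * h⁻¹ = n) → h = 1) {e : G} (he : e ∈ N) (he1 : e ≠ 1)
    {h : G} (hh : h ∈ H) (hhe : h * e * h⁻¹ = e) : h = 1 := by
  have hNn := hN.normal
  by_contra hne
  have : Nontrivial H := ⟨⟨⟨h, hh⟩, 1, fun hc => hne (congrArg Subtype.val hc)⟩⟩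
  obtain ⟨T, hT⟩ := exists_isMinNormal H
  obtain ⟨r, hr, hTc, hTr⟩ := hT.exists_isElementaryAbelian
  have hTn := hT.normal
  have hinv : ∀ g : G, ∀ x ∈ (N : Set G) \ {1}, g * x * g⁻¹ ∈ (N : Set G) \ {1} := by
    rintro g x ⟨hx, hx1⟩
    exact ⟨hNn.conj_mem x hx g, by simpa using hx1⟩
  have h7 : ((N : Set G) \ {1}).ncard = 7 := by rw [ncard_diff_one, h8]
  have hr7 : r = 7 := by
    by_contra hr7
    obtain ⟨x, hx, hfix⟩ := exists_fixed_of_pow_conj (K := T.map H.subtype) hr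
      (T := (N : Set G) \ {1})
      (by rw [h7]; intro hd; exact hr7 ((Nat.prime_dvd_prime_iff_eq hr (by norm_num)).1 hd))
      (fun t _ x hx => hinv _ x hx) (by
        rintro _ ⟨t, ht, rfl⟩
        refine ⟨1, fun x _ => ?_⟩
        rw [pow_one, ← map_pow, hTr _ ht]; simp)
    let K : Subgroup G := N ⊓ centralizer (T.map H.subtype : Set G)
    have hK : K.Normal := by
      refine ⟨fun y hy g => ?_⟩
      obtain ⟨n, hn, k, hk, rfl⟩ := hNH g
      have hy' : k * y * k⁻¹ ∈ N := hNn.conj_mem _ hy.1 _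
      have : n * k * y * (n * k)⁻¹ = k * y * k⁻¹ := by
        rw [mul_inv_rev, show n * k * y * (k⁻¹ * n⁻¹) = n * (k * y * k⁻¹) * n⁻¹ by group,
          hc n hn _ hy', mul_inv_cancel_right]
      rw [this]
      refine ⟨hy', ?_⟩
      rintro _ ⟨t, ht, rfl⟩
      have h1 := hy.2 _ ⟨_, hTn.conj_mem t ht ⟨k, hk⟩⁻¹, rfl⟩
      simp only [coe_subtype, coe_mul, coe_inv, inv_inv] at h1 ⊢
      calc (t : G) * (k * y * k⁻¹) = k * (k⁻¹ * t * k * y) * k⁻¹ := by group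
        _ = _ := by rw [h1]; group
    have hxK : x ∈ K := by
      refine ⟨hx.1, ?_⟩
      rintro _ ⟨t, ht, rfl⟩
      exact mul_inv_eq_iff_eq_mul.1 (hfix _ ⟨t, ht, rfl⟩)
    have hKN := hN.eq_of_le K hK inf_le_left (fun hb => hx.2 (by rwa [hb, mem_bot] at hxK))
    apply hT.ne_bot
    rw [eq_bot_iff]
    intro t ht
    rw [mem_bot]
    apply Subtype.ext
    apply hf _ t.2
    intro n hn
    rw [← hKN] at hn
    exact mul_inv_eq_iff_eq_mul.2 (hn.2 _ ⟨t, ht, rfl⟩)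
  subst hr7
  have htrans : ∀ t ∈ T, t ≠ 1 → ∀ x ∈ (N : Set G) \ {1}, ∀ y ∈ (N : Set G) \ {1},
      ∃ k ∈ zpowers (t : G), k * x * k⁻¹ = y := by
    intro t ht ht1
    apply exists_pow_conj_eq hr h7 (congrArg Subtype.val (hTr t ht)) (hinv _)
    by_contra hcon
    push Not at hcon
    apply ht1
    apply Subtype.ext
    apply hf _ t.2
    intro n hn
    by_cases hn1 : n = 1
    · simp [hn1]
    · exact hcon n ⟨hn, hn1⟩
  obtain ⟨q, hq, hqd⟩ := Nat.exists_prime_and_dvd (n := orderOf h) (by simpa using hne)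
  have ho : 0 < orderOf h := orderOf_pos h
  set h' := h ^ (orderOf h / q) with hh'
  have hq' : orderOf h' = q := by
    rw [hh', orderOf_pow_of_dvd (Nat.div_pos (Nat.le_of_dvd ho hqd) hq.pos).ne'
      (Nat.div_dvd_of_dvd hqd), Nat.div_div_self hqd ho.ne']
  have hpw : h' ^ q = 1 := hq' ▸ pow_orderOf_eq_one h'
  have h'H : h' ∈ H := pow_mem hh _
  have h'e : h' * e * h'⁻¹ = e :=
    mul_inv_eq_iff_eq_mul.2 ((Commute.pow_left (mul_inv_eq_iff_eq_mul.1 hhe) _))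
  have h'1 : h' ≠ 1 := fun hc => hq.one_lt.ne' (by rw [← hq', hc, orderOf_one])
  have hq3 : q ≠ 3 := fun hc => h3 (hc ▸ hq' ▸ orderOf_dvd_natCard h')
  have h6 : (((N : Set G) \ {1}) \ {e}).ncard = 6 := by
    rw [Set.ncard_sdiff_singleton_of_mem (show e ∈ (N : Set G) \ {1} from ⟨he, he1⟩), h7]
  have hinv6 : ∀ x ∈ ((N : Set G) \ {1}) \ {e}, h' * x * h'⁻¹ ∈ ((N : Set G) \ {1}) \ {e} := by
    rintro x ⟨hx, hxe⟩
    refine ⟨hinv _ x hx, fun hc => hxe ?_⟩
    rw [Set.mem_singleton_iff, ← h'e] at hc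
    simpa using hc
  obtain ⟨e', he', hfe'⟩ : ∃ x ∈ ((N : Set G) \ {1}) \ {e}, h' * x * h'⁻¹ = x := by
    by_cases hq2 : q = 2
    · subst hq2
      by_contra hcon
      push Not at hcon
      have hsq : ∀ a ∈ N, a * a = 1 := by
        have : Fact (Nat.Prime 2) := Nat.fact_prime_two
        have : IsMulCommutative N := isMulCommutative_iff_forall.2 hc
        intro a ha
        rw [← sq]
        exact (hN.isElementaryAbelian_of_dvd (p := 2) (by rw [h8]; norm_num)).2 a ha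
      have key : ∀ a ∈ ((N : Set G) \ {1}) \ {e}, a * (h' * a * h'⁻¹) = e := by
        intro a ha
        by_contra hne'
        have hm : h' * a * h'⁻¹ ∈ N := (hinv _ a ha.1).1
        apply hcon (a * (h' * a * h'⁻¹)) ⟨⟨mul_mem ha.1.1 hm, fun h1 => hcon a ha ?_⟩, hne'⟩
        · rw [show h' * (a * (h' * a * h'⁻¹)) * h'⁻¹ = h' * a * h'⁻¹ * (h' ^ 2 * a * (h' ^ 2)⁻¹) by
            simp only [sq]; group, hpw, one_mul, inv_one, mul_one, hc _ hm _ ha.1.1]
        · rw [Set.mem_singleton_iff, ← hsq a ha.1.1] at h1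
          exact mul_left_cancel h1
      obtain ⟨a, ha⟩ : (((N : Set G) \ {1}) \ {e}).Nonempty :=
        Set.nonempty_of_ncard_ne_zero (by omega)
      obtain ⟨b, hb, hb'⟩ : ∃ b ∈ ((N : Set G) \ {1}) \ {e}, b ∉ ({a, a * e} : Set G) := by
        by_contra hcc
        push Not at hcc
        have h1 := Set.ncard_le_ncard (show ((N : Set G) \ {1}) \ {e} ⊆ {a, a * e} from hcc)
        have h2 := Set.ncard_insert_le a ({a * e} : Set G)
        rw [Set.ncard_singleton] at h2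
        omega
      simp only [Set.mem_insert_iff, Set.mem_singleton_iff, not_or] at hb'
      have hab : a * b ∈ ((N : Set G) \ {1}) \ {e} := by
        refine ⟨⟨mul_mem ha.1.1 hb.1.1, fun h1 => hb'.1 ?_⟩, fun h1 => hb'.2 ?_⟩
        · rw [Set.mem_singleton_iff, ← hsq a ha.1.1] at h1
          exact mul_left_cancel h1
        · rw [Set.mem_singleton_iff] at h1
          rw [← h1, ← mul_assoc, hsq a ha.1.1, one_mul]
      have k1 := key a ha
      have k2 := key b hb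
      have k3 := key _ hab
      have hm : h' * a * h'⁻¹ ∈ N := (hinv _ a ha.1).1
      rw [show a * b * (h' * (a * b) * h'⁻¹) = a * (b * (h' * a * h'⁻¹)) * (h' * b * h'⁻¹) by group,
        hc _ hb.1.1 _ hm, show a * (h' * a * h'⁻¹ * b) * (h' * b * h'⁻¹) =
          (a * (h' * a * h'⁻¹)) * (b * (h' * b * h'⁻¹)) by group, k1, k2] at k3
      exact he1 (mul_eq_left.1 k3)
    · apply exists_fixed_cyclic_conj hq _ hpw hinv6
      rw [h6]
      intro hd
      rcases (Nat.Prime.dvd_mul hq (m := 2) (n := 3)).1 hd with hd | hd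
      · exact hq2 ((Nat.prime_dvd_prime_iff_eq hq Nat.prime_two).1 hd)
      · exact hq3 ((Nat.prime_dvd_prime_iff_eq hq Nat.prime_three).1 hd)
  obtain ⟨t, ht, ht1⟩ : ∃ t ∈ T, t ≠ 1 := by
    by_contra hcon
    push Not at hcon
    exact hT.ne_bot (eq_bot_iff.2 fun t ht => hcon t ht)
  obtain ⟨s, hs, hse⟩ := htrans t ht ht1 e ⟨he, he1⟩ e' he'.1
  obtain ⟨s, hsT, rfl⟩ : ∃ s' ∈ T, (s' : G) = s := by
    obtain ⟨k, rfl⟩ := hs
    exact ⟨t ^ k, zpow_mem ht k, rfl⟩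
  have hs1 : s ≠ 1 := by
    rintro rfl
    exact he'.2 (by simpa using hse.symm)
  have hcT := isMulCommutative_iff_forall.1 hTc
  have hcomm : h' * s * h'⁻¹ = s := by
    have hm : s⁻¹ * (⟨h', h'H⟩ * s * ⟨h', h'H⟩⁻¹) ∈ T := mul_mem (inv_mem hsT) (hTn.conj_mem s hsT _)
    set r := s⁻¹ * (⟨h', h'H⟩ * s * ⟨h', h'H⟩⁻¹) with hr'
    have hre : (r : G) * e * (r : G)⁻¹ = e := by
      have : h'⁻¹ * e * h' = e := by conv_lhs => rw [← h'e]
                                     group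
      simp only [hr', coe_mul, coe_inv]
      calc _ = (s : G)⁻¹ * (h' * (s * (h'⁻¹ * e * h') * (s : G)⁻¹) * h'⁻¹) * s := by group
        _ = e := by rw [this, hse, hfe', ← hse]; group
    have : (r : G) = 1 := by
      apply hf _ r.2
      intro n hn
      by_cases hn1 : n = 1
      · simp [hn1]
      obtain ⟨k, ⟨j, rfl⟩, hk⟩ := htrans s hsT hs1 e ⟨he, he1⟩ n ⟨hn, hn1⟩
      have hcm : (r : G) * (s : G) ^ j = (s : G) ^ j * r :=
        congrArg Subtype.val (hcT _ hm _ (zpow_mem hsT j))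
      simp only at hk
      calc _ = (r * (s : G) ^ j) * e * (r * (s : G) ^ j)⁻¹ := by rw [← hk]; group
        _ = (s : G) ^ j * (r * e * (r : G)⁻¹) * ((s : G) ^ j)⁻¹ := by rw [hcm]; group
        _ = n := by rw [hre, hk]
    simp only [hr', coe_mul, coe_inv] at this
    exact (inv_mul_eq_one.1 this).symm
  apply h'1
  apply hf _ h'H
  intro n hn
  by_cases hn1 : n = 1
  · simp [hn1]
  obtain ⟨k, ⟨j, rfl⟩, hk⟩ := htrans s hsT hs1 e ⟨he, he1⟩ n ⟨hn, hn1⟩
  have hcm : h' * (s : G) ^ j = (s : G) ^ j * h' :=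
    (Commute.zpow_right (mul_inv_eq_iff_eq_mul.1 hcomm) j)
  simp only at hk
  calc _ = (h' * (s : G) ^ j) * e * (h' * (s : G) ^ j)⁻¹ := by rw [← hk]; group
    _ = (s : G) ^ j * (h' * e * h'⁻¹) * ((s : G) ^ j)⁻¹ := by rw [hcm]; group
    _ = n := by rw [h'e, hk]

theorem AffCol.mono {A : Type*} [CommGroup A] {κ : ℕ} {P Q : (A →* A) → Prop}
    (h : AffCol κ Q) (hPQ : ∀ L, P L → Q L) : AffCol κ P := by
  obtain ⟨c, hc⟩ := h
  exact ⟨c, fun L hL => hc L (hPQ L hL)⟩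

theorem exists_perm_col_faithful [Group.IsSolvable G] {Ω : Type*} [MulAction G Ω]
    [Finite Ω] [Nonempty Ω] (hf : ∀ g : G, (∀ ω : Ω, g • ω = ω) → g = 1) {κ : ℕ}
    (hκ : κ = 5 ∨ (κ = 3 ∧ ¬ 3 ∣ Nat.card G))
    (hq : ∀ N : Subgroup G, N.Normal → N = ⊥ ∨ ∀ ω ω' : Ω, ∃ n ∈ N, n • ω = ω') :
    ∃ c : Ω → ZMod κ, ∀ (g : G) (t : ZMod κ), (∀ ω, c (g • ω) = c ω + t) → t = 0 ∧ g = 1 := by
  obtain ⟨ω0⟩ := ‹Nonempty Ω›
  rcases subsingleton_or_nontrivial G with hs | hn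
  · exact ⟨fun _ => 0, fun g t h => ⟨by simpa using (h ω0).symm, Subsingleton.elim _ _⟩⟩
  obtain ⟨N, hN⟩ := exists_isMinNormal G
  obtain ⟨s, hs, hNc, hNs⟩ := hN.exists_isElementaryAbelian
  have hNn := hN.normal
  have hc := isMulCommutative_iff_forall.1 hNc
  have htr := (hq N hNn).resolve_left hN.ne_bot
  have hreg : ∀ n ∈ N, n • ω0 = ω0 → n = 1 := by
    intro n hn h
    apply hf
    intro ω
    obtain ⟨m, hm, rfl⟩ := htr ω0 ω
    rw [← mul_smul, hc n hn m hm, mul_smul, h]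
  let H := MulAction.stabilizer G ω0
  have hNH : ∀ g : G, ∃ n ∈ N, ∃ h ∈ H, g = n * h := by
    intro g
    obtain ⟨n, hn, h⟩ := htr ω0 (g • ω0)
    exact ⟨n, hn, n⁻¹ * g, by
      rw [MulAction.mem_stabilizer_iff, mul_smul, ← h, inv_smul_smul], by simp⟩
  have hfH : ∀ h ∈ H, (∀ n ∈ N, h * n * h⁻¹ = n) → h = 1 := by
    intro h hh h1
    apply hf
    intro ω
    obtain ⟨m, hm, rfl⟩ := htr ω0 ω
    rw [← mul_smul, mul_inv_eq_iff_eq_mul.1 (h1 m hm), mul_smul, hh]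
  let Adm : (N →* N) → Prop := fun L => ∃ h ∈ H, L = (MulAut.conjNormal h).toMonoidHom
  have hA : ∀ L, Adm L → Injective L := by
    rintro _ ⟨h, -, rfl⟩; exact (MulAut.conjNormal h).injective
  have hpow : ∀ a : N, a ^ s = 1 := fun a => Subtype.ext (hNs a a.2)
  have hnt := hN.nontrivial
  have hcol : AffCol κ Adm := by
    rcases hκ with rfl | ⟨rfl, h3⟩
    · exact (affCol_five hs hpow).mono hA
    have h3N : ¬ 3 ∣ Nat.card N := fun h => h3 (h.trans (card_subgroup_dvd_card N))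
    have : Fact s.Prime := ⟨hs⟩
    obtain ⟨k, hk⟩ := IsPGroup.iff_card.1 (show IsPGroup s N from fun a => ⟨1, by simpa using hpow a⟩)
    rcases hs.eq_two_or_odd' with rfl | hodd
    swap
    · exact (affCol_three_odd (hk ▸ hodd.pow) h3N).mono hA
    have h2 : ∀ a : N, a * a = 1 := fun a => by rw [← sq]; exact hpow a
    obtain ⟨e, he⟩ := exists_ne (1 : N)
    rcases Nat.lt_or_ge 3 k with hk3 | hk3
    · refine (affCol_three_big h2 ?_).mono hA
      rw [hk]; exact Nat.pow_lt_pow_right (a := 2) (m := 3) (by norm_num) hk3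
    interval_cases k
    · have := hN.one_lt_card; omega
    · apply affCol_three_pt h3N hA he
      intro L hL _
      exact (isCol_small (M := N) hk.le).reg L (hA L hL) (fun _ _ => rfl)
    · exfalso
      obtain ⟨x, hx, hfix⟩ := exists_fixed_of_three_conj (K := H) h3 (T := (N : Set G) \ {1})
        (by rw [ncard_diff_one, hk]; rfl) (fun g _ x hx =>
          ⟨hNn.conj_mem x hx.1 g, by simpa using hx.2⟩)
      have h1 := hN.eq_of_le _ (normal_zpowers_of hc hNH hx.1 hfix) (zpowers_le_of_mem hx.1)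
        (by simpa using hx.2)
      have h4 : orderOf x ∣ 2 := orderOf_dvd_of_pow_eq_one (hNs x hx.1)
      rw [← h1, Nat.card_zpowers] at hk
      rw [hk] at h4
      norm_num at h4
    · apply affCol_three_pt h3N hA he
      rintro _ ⟨h, hh, rfl⟩ hL
      have := stab_trivial_eight h3 hN hc hk hNH hfH e.2 (fun hc => he (Subtype.ext hc)) hh
        (congrArg Subtype.val hL)
      subst this
      simp
  obtain ⟨c, hcc⟩ := hcol
  choose φ hφ hφ' using htr ω0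
  have hφn : ∀ n : N, φ ((n : G) • ω0) = n := by
    intro n
    have := hreg ((n : G)⁻¹ * φ ((n : G) • ω0)) (mul_mem (inv_mem n.2) (hφ _))
      (by rw [mul_smul, hφ', inv_smul_smul])
    exact (inv_mul_eq_one.1 this).symm
  refine ⟨fun ω => c ⟨φ ω, hφ ω⟩, fun g t h => ?_⟩
  obtain ⟨n, hn, k, hk, rfl⟩ := hNH g
  obtain ⟨h1, h2, h3⟩ := hcc _ ⟨k, hk, rfl⟩ ⟨n, hn⟩ t (fun a => by
    have := h ((a : G) • ω0)
    have e1 : (n * k) • (a : G) • ω0 =
        ((⟨n, hn⟩ * (MulAut.conjNormal k).toMonoidHom a : N) : G) • ω0 := by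
      have : k⁻¹ • ω0 = ω0 := inv_mem hk
      simp [mul_smul, this]
    simp only [e1, hφn] at this
    exact this)
  refine ⟨h1, ?_⟩
  rw [show n = 1 from congrArg Subtype.val h2, one_mul]
  exact hfH k hk fun m hm => congrArg Subtype.val (h3 ⟨m, hm⟩)

omit [Finite G] in
theorem exists_perm_col [Group.IsSolvable G] {Ω : Type*} [MulAction G Ω]
    [Finite Ω] [Nonempty Ω] {κ : ℕ} (hκ : κ = 5 ∨ (κ = 3 ∧ ¬ 3 ∣ Nat.card G))
    (hq : ∀ N : Subgroup G, N.Normal → (∀ n ∈ N, ∀ ω : Ω, n • ω = ω) ∨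
      ∀ ω ω' : Ω, ∃ n ∈ N, n • ω = ω') :
    ∃ c : Ω → ZMod κ, ∀ (g : G) (t : ZMod κ), (∀ ω, c (g • ω) = c ω + t) →
      t = 0 ∧ ∀ ω : Ω, g • ω = ω := by
  let f := (MulAction.toPermHom G Ω).rangeRestrict
  have hf : Surjective f := MonoidHom.rangeRestrict_surjective _
  have : Group.IsSolvable (MulAction.toPermHom G Ω).range := Group.isSolvable_of_surjective hf
  obtain ⟨c, hc⟩ := exists_perm_col_faithful (G := (MulAction.toPermHom G Ω).range) (Ω := Ω)
    (fun g h => Subtype.ext (Equiv.ext h)) (κ := κ)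
    (hκ.imp_right fun h => ⟨h.1, fun hd => h.2 (hd.trans (card_dvd_of_surjective f hf))⟩)
    (fun N hN => (hq (N.comap f) (hN.comap f)).imp (fun h => by
      rw [eq_bot_iff]
      intro n hn
      obtain ⟨g, rfl⟩ := hf n
      exact Subtype.ext (Equiv.ext (h g hn))) (fun h ω ω' => by
      obtain ⟨n, hn, h⟩ := h ω ω'
      exact ⟨f n, hn, h⟩))
  refine ⟨c, fun g t h => ?_⟩
  obtain ⟨h1, h2⟩ := hc (f g) t h
  exact ⟨h1, fun ω => congrFun (congrArg (fun x => ((x.1 : Equiv.Perm Ω) : Ω → Ω)) h2) ω⟩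

end Base2
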