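import Cfsg.Agent.Lib.Base.Excl

/-! The primitive case of the base size two theorem in odd characteristic. -/

set_option autoImplicit false

namespace Base2

open Function Subgroup

universe u

theorem primStatement {p : ℕ} [hp : Fact p.Prime] (hp2 : p ≠ 2) : PrimStatement.{u} p := by
  intro K G V _ _ _ _ _ _ _ _ _ _ _ ι hs hG
  obtain ⟨E, h⟩ := hs.exists_eData
  have h2 : (2 : K) ≠ 0 := fun h2 => hp2 ((Nat.prime_dvd_prime_iff_eq hp.out Nat.prime_two).1
    ((CharP.cast_eq_zero_iff K p 2).1 h2))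
  have he : 2 ∣ Nat.card Kˣ :=
    orderOf_eq_prime (x := (-1 : Kˣ)) (p := 2) (by simp) (neg_one_unit_ne h2) ▸
      orderOf_dvd_natCard _
  obtain ⟨k, n, hn, hK⟩ := Nat.exists_eq_two_pow_mul_odd (Nat.card_pos (α := Kˣ)).ne'
  have hβ := h.β_pow_of_dvd (m := 2 * n) (k := k + 1) (by
    rw [hK, mul_pow]
    exact mul_dvd_mul (pow_dvd_pow 2 k.le_succ) (dvd_pow_self n k.succ_ne_zero))
  obtain ⟨x, hx, ⟨y0, hb⟩, hty⟩ := h.exists_base hG h2 he
  by_cases hA : Nat.card (stab E x →* Kˣ) ≤ 2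
  · exact h.good_small hG hx.1 hb hA
  by_cases ho : ∀ f : stab E x →* Kˣ, f ^ 2 = 1 → f = 1
  · exact h.good_odd hG hx.1 hb h2 hn hK hβ ho
  push Not at ho hA
  obtain ⟨f, hf2, hf1⟩ := ho
  by_cases ho : ∀ f : stab E x →* Kˣ, f ^ n = 1 → f = 1
  swap
  · push Not at ho
    exact h.good_mixed hG hx.1 hb hn hβ ⟨f, hf1, hf2⟩ (ho.imp fun _ => And.symm)
  have hsq := h.β_sq hn hK hβ hx ho
  obtain ⟨γ, hγ⟩ := IsCyclic.exists_generator (α := Kˣ)
  by_cases h8 : γ ^ 8 = 1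
  swap
  · exact h.good_two_gen hG hx.1 hb h2 he hsq h8
  have ho := orderOf_eq_card_of_forall_mem_zpowers hγ
  have hpK : p ∣ Nat.card Kˣ + 1 := by
    have := Fintype.ofFinite K
    have h1 : 1 < Fintype.card K := Fintype.one_lt_card
    rw [Nat.card_units, Nat.card_eq_fintype_card, Nat.sub_add_cancel h1.le]
    exact (CharP.cast_eq_zero_iff K p _).1 (FiniteField.cast_card_eq_zero K)
  obtain ⟨m, hm, hc⟩ := (Nat.dvd_prime_pow Nat.prime_two (m := 3)).1
    (ho ▸ orderOf_dvd_of_pow_eq_one h8)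
  interval_cases m
  · omega
  · obtain rfl := (Nat.prime_dvd_prime_iff_eq hp.out Nat.prime_three).1 (by rwa [hc] at hpK)
    rcases hty with hL | ⟨-, i, j, q⟩
    · exact h.good_lag_three hG hc hsq hx.1 hL hA
    · exact h.good_minus_three hG h2 (fun u => (show Nat.card Kˣ = 2 from hc) ▸ pow_card_eq_one')
        hx.1 hb q (q.card_ne_four h hG h2 hc hx)
  · obtain rfl := (Nat.prime_dvd_prime_iff_eq hp.out Nat.prime_five).1 (by rwa [hc] at hpK)
    exact h.good_lag_five hG hc hsq hx.1 (hty.resolve_right fun h4 => h4.1 (by omega)) hA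
  · obtain rfl := (Nat.prime_dvd_prime_iff_eq hp.out Nat.prime_three).1
      (hp.out.dvd_of_dvd_pow (n := 2) (by rwa [hc] at hpK))
    obtain ⟨Y, rfl⟩ := h.χ_surjective hx.1 f
    refine h.good_nine hG h2 (CharP.cast_eq_zero K 3) he hsq (γ := γ) ?_ hx.1
      (hty.resolve_right fun h4 => h4.1 (by omega)) hf1
    refine (unit_sq_eq_one (by rw [← pow_mul, h8])).resolve_left fun h4 => ?_
    have := Nat.le_of_dvd four_pos (ho ▸ orderOf_dvd_of_pow_eq_one h4)
    omega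

theorem exists_base_two {p : ℕ} [hp : Fact p.Prime] (hp2 : p ≠ 2) {V : Type u} [AddCommGroup V]
    [Finite V] [Nontrivial V] (hV : ∀ v : V, p • v = 0) (G : Type u) [Group G] [Finite G]
    [Group.IsSolvable G] [DistribMulAction G V] (hG : ¬ p ∣ Nat.card G) :
    ∃ x y : V, ∀ g : G, g • x = x → g • y = y → ∀ v : V, g • v = v := by
  by_cases h3 : p = 3
  · obtain ⟨x, y, h⟩ := good_of_prim (primStatement hp2) (Or.inr ⟨rfl, h3⟩) _ V rfl hV G hG
    exact ⟨x 0, y 0, fun g h1 h2 => (h 0 0 g h1 h2).2⟩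
  · obtain ⟨x, y, h⟩ := good_of_prim (primStatement hp2) (Or.inl ⟨rfl,
      hp.out.five_le_of_ne_two_of_ne_three hp2 h3⟩) _ V rfl hV G hG
    exact ⟨x 0, y 0, fun g h1 h2 => (h 0 0 g h1 h2).2⟩

end Base2
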