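import Cfsg.Agent.Lib.Base.Weight

/-! Base data on the trivial weight space: the scalar case and the quaternion case. -/

set_option autoImplicit false

namespace Base2

open Function Subgroup

variable {K G V : Type*} [Field K] [Group G] [AddCommGroup V] [Module K V] [DistribMulAction G V]
  {ι : Kˣ →* G} {E : Subgroup G}

/-- The action as an opaque function. -/
@[irreducible] def act (g : G) (v : V) : V := g • v

variable (G) in
theorem act_eq (g : G) (v : V) : g • v = act g v := by rw [act]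

theorem smul_eq_of_pow [Finite G] {X : Type*} [MulAction G X] {p : ℕ} [hp : Fact p.Prime]
    (hG : ¬ p ∣ Nat.card G) {g : G} {v : X} (h : g ^ p • v = v) : g • v = v := by
  have : g ∈ zpowers (g ^ p) := mem_zpowers_pow_of_coprime g
    ((Nat.Prime.coprime_iff_not_dvd hp.out).2 fun hd => hG (hd.trans (orderOf_dvd_natCard g)))
  exact (zpowers_le_of_mem (show g ^ p ∈ MulAction.stabilizer G v from h)) this

theorem fix_of_shift [Finite G] {p : ℕ} [hp : Fact p.Prime] [CharP K p] (hG : ¬ p ∣ Nat.card G)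
    {g : G} {v z : V} (hz : g • z = z) (h : g • v = v + z) : g • v = v := by
  have h1 : ∀ k : ℕ, g ^ k • v = v + k • z := by
    intro k
    induction k with
    | zero => simp
    | succ k ih => rw [pow_succ', mul_smul, ih, smul_add, h, smul_comm g k, hz, succ_nsmul']; abel
  apply smul_eq_of_pow hG
  rw [h1, ← Nat.cast_smul_eq_nsmul K, CharP.cast_eq_zero, zero_smul, add_zero]

variable (V) in
/-- The quaternion relations. -/
structure QRel (i j k : E) : Prop where
  ii : ∀ v : V, (i : G) • (i : G) • v = -v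
  jj : ∀ v : V, (j : G) • (j : G) • v = -v
  ij : ∀ v : V, (i : G) • (j : G) • v = (k : G) • v
  ji : ∀ v : V, (j : G) • (i : G) • v = -((k : G) • v)

namespace QRel

variable {i j k : E} (q : QRel V i j k)
include q

theorem jk (v : V) : (j : G) • (k : G) • v = (i : G) • v := by
  rw [← neg_neg ((k : G) • v), ← q.ji, smul_neg, q.jj, neg_neg]

theorem kj (v : V) : (k : G) • (j : G) • v = -((i : G) • v) := by
  rw [← q.ij, q.jj, smul_neg]

theorem kk (v : V) : (k : G) • (k : G) • v = -v := by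
  rw [← q.ij, q.jk, q.ii]

theorem ik (v : V) : (i : G) • (k : G) • v = -((j : G) • v) := by
  rw [← q.ij, q.ii]

theorem ki (v : V) : (k : G) • (i : G) • v = (j : G) • v := by
  rw [← q.ij, q.ji, smul_neg, q.ik, neg_neg]

theorem rot : QRel V j k i := ⟨q.jj, q.kk, q.jk, q.kj⟩

theorem not_eig (h : EData V ι E) {x : V} (hx : x ≠ 0) (h2 : (2 : K) ≠ 0) {a b c : K}
    (hu : a • (i : G) • x + b • (j : G) • x + c • (k : G) • x = x) (ha : a ^ 2 ≠ -1) (l : K) :
    (i : G) • x ≠ l • x := by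
  intro hl
  have e1 := congrArg (fun v => (i : G) • v) hu
  simp only [smul_add, h.linE i.2, q.ii, q.ij, q.ik] at e1
  have e2 := q.ji x
  rw [hl, h.linE j.2] at e2
  have e3 := q.ii x
  rw [hl, h.linE i.2, hl, smul_smul] at e3
  have e4 : l * l = -1 := smul_left_injective K hx (e3.trans (neg_one_smul K x).symm)
  rw [hl] at hu e1
  have e5 : (2 * (a + l)) • x = 0 := by
    linear_combination (norm := ((try simp only [act_eq G]); module)) (-l) • hu - e1 + (b + c * l) • e2 + e4 • (a • x) -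
      e4 • (c • (j : G) • x)
  have e6 := (mul_eq_zero.1 ((smul_eq_zero.1 e5).resolve_right hx)).resolve_left h2
  apply ha
  linear_combination e4 + (a - l) * e6

end QRel

namespace EData

variable (h : EData V ι E)

theorem good_of_col [Finite G] {p : ℕ} [Fact p.Prime] [CharP K p] (hG : ¬ p ∣ Nat.card G) {x : V}
    (hx : x ≠ 0) {y0 : ZMod p → V} (hb : h.IsBase p x y0) (t : (stab E x →* Kˣ) → E)
    (ht : ∀ a, h.χ x (t a) = a) (col : (stab E x →* Kˣ) → Fin 4) (hcol : IsCol Kˣ col)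
    (vec : Fin 4 → V) (hW : ∀ i, vec i ∈ h.W x) (h0 : vec 0 = x) (h3 : ∀ i, i ≠ 3 → vec i ≠ 0)
    (h12 : ∀ n : E, h.χ x n = 1 → (n : G) • vec 1 = vec 1 →
      (∃ u : Kˣ, (n : G) • vec 2 = (u : K) • vec 2) → ∃ u : Kˣ, (n : G) • x = (u : K) • x)
    (P : E → Prop) (hP : ∀ a b g, P ((t b)⁻¹ * h.cE g (t a)))
    (sep : ∀ a b n, P n → h.χ x n = 1 → (n : G) • vec (col a) = vec (col b) → col a = col b) :
    Good (ZMod p) G V := by
  obtain ⟨y, hy⟩ := h.gl1 hG hb t ht (fun a => vec (col a)) fun a => hW _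
  refine ⟨fun _ => x, y, fun i j g h1 h2 => ?_⟩
  obtain ⟨rfl, hlin, hfix, L, hL, hLχ, hg⟩ := hy i j g h1 h2
  have hid := hcol.reg L hL fun a ha => by
    symm
    apply sep a (L a) _ (hP a (L a) g) (by rw [map_mul, map_inv, hLχ, ht, ht, inv_mul_cancel])
    rw [coe_mul, coe_inv, mul_smul, inv_smul_eq_iff, ← hg a ha, ← h.cE_smul g,
      h.fix_W hlin hfix (hW _)]
  have := h.gl2 hx h1 hlin hfix (fun e => by rw [hLχ, hid]) t ht (fun a => vec (col a))
    (fun a => hW _) (fun a ha => by simpa only [hid] using hg a ha) col hcol.gen hcol.det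
    (fun a ha => by simp only [ha, h0])
    (fun a a' ha ha' n hn h1 h2 => by
      simp only [ha, ha'] at h1 h2
      exact h12 n hn h1 h2) (fun a ha => h3 _ ha)
  exact ⟨rfl, by simp [this]⟩

include h in
theorem semilin (g : G) (c : K) : ∃ c' : K, ∀ v : V, g • c • v = c' • g • v := by
  by_cases hc : c = 0
  · exact ⟨0, by simp [hc]⟩
  obtain ⟨u, hu⟩ := h.normal.conj_mem _ ⟨Units.mk0 c hc, rfl⟩ g
  refine ⟨u, fun v => ?_⟩
  rw [← h.smul, hu, mul_smul, mul_smul, inv_smul_smul, h.smul]; rfl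

include h in
theorem gal [Finite G] {p : ℕ} [Fact p.Prime] [CharP K p] (hG : ¬ p ∣ Nat.card G) {x : V}
    (hx : x ≠ 0) {γ : Kˣ} (hγ : ∀ u, u ∈ zpowers γ) {g : G} (hg : g • x = x) {s t : ZMod p}
    (hst : g • ((γ : K) + s.val) • x = ((γ : K) + t.val) • x) :
    s = t ∧ ∀ u, g * ι u = ι u * g := by
  have hn : ∀ n : ℕ, g • (n : K) • x = (n : K) • x := fun n => by
    rw [Nat.cast_smul_eq_nsmul, smul_comm, hg]
  have h1 : g • (γ : K) • x = (γ : K) • x + ((t.val : K) • x - (s.val : K) • x) := by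
    rw [add_smul, add_smul, smul_add, hn] at hst
    rw [eq_sub_of_add_eq hst]; abel
  have h2 := fix_of_shift (K := K) hG (by rw [smul_sub, hn, hn]) h1
  rw [h2, left_eq_add, sub_eq_zero] at h1
  have h3 := smul_left_injective K hx h1
  constructor
  · apply ZMod.val_injective
    exact ((CharP.natCast_injOn_Iio K p) (ZMod.val_lt _) (ZMod.val_lt _) h3).symm
  · obtain ⟨u, hu⟩ := h.normal.conj_mem _ ⟨γ, rfl⟩ g
    have h4 : u = γ := h.eq_of_smul hx (by
      rw [hu, mul_smul, mul_smul, inv_smul_eq_iff.2 hg.symm, h.smul, h2])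
    subst h4
    intro v
    obtain ⟨n, rfl⟩ := hγ v
    rw [map_zpow]
    exact Commute.zpow_right (mul_inv_eq_iff_eq_mul.1 hu.symm) n

theorem exists_base_zero [Finite G] [Finite K] {p : ℕ} [Fact p.Prime] [CharP K p]
    (hG : ¬ p ∣ Nat.card G) {x : V} (hx : x ≠ 0)
    (hN : ∀ n : E, h.χ x n = 1 → ∃ u : Kˣ, (n : G) • x = (u : K) • x) :
    ∃ y0, h.IsBase p x y0 := by
  obtain ⟨γ, hγ⟩ := IsCyclic.exists_generator (α := Kˣ)
  refine ⟨fun s => ((γ : K) + s.val) • x, fun _ => Submodule.smul_mem _ _ (h.self_mem_W x),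
    fun i j g hg hy => ?_⟩
  obtain ⟨h1, h2⟩ := h.gal hG hx hγ hg hy
  refine ⟨h1, h2, fun n hn => ?_⟩
  obtain ⟨u, hu⟩ := hN n hn
  rw [hu, h.lin h2, hg]

/-- A quaternion triple. -/
structure Quat (x : V) (i j k : E) : Prop extends QRel V i j k where
  hi : h.χ x i = 1
  hj : h.χ x j = 1

namespace Quat

variable {h} {x : V} {i j k : E} (q : h.Quat x i j k)
include q

theorem hk : h.χ x k = 1 := by
  have : k = i * j := by
    rw [← mul_inv_eq_one]
    apply Subtype.ext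
    apply h.faith
    intro v
    rw [coe_mul, mul_smul, ← q.ij, ← mul_smul, ← coe_mul, coe_inv, smul_inv_smul]
  rw [this, map_mul, q.hi, q.hj]; ext; simp

theorem rot : h.Quat x j k i := ⟨q.toQRel.rot, q.hj, q.hk⟩

theorem not_eig (hx : x ≠ 0) (h2 : (2 : K) ≠ 0) {a b c : K}
    (hu : a • (i : G) • x + b • (j : G) • x + c • (k : G) • x = x) (ha : a ^ 2 ≠ -1) (l : K) :
    (i : G) • x ≠ l • x := q.toQRel.not_eig h hx h2 hu ha l

theorem span {a b c : K}
    (hu : a • (i : G) • x + b • (j : G) • x + c • (k : G) • x = x) (ha : a ^ 2 ≠ -1)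
    (hs : a ^ 2 + b ^ 2 + c ^ 2 = -1) :
    (∃ r s : K, (j : G) • x = r • x + s • (i : G) • x) ∧
      ∃ r s : K, (k : G) • x = r • x + s • (i : G) • x := by
  have e1 := congrArg (fun v => (i : G) • v) hu
  simp only [smul_add, h.linE i.2, q.ii, q.ij, q.ik] at e1
  have hd : b ^ 2 + c ^ 2 ≠ 0 := fun h0 => ha (by linear_combination hs - h0)
  constructor
  · refine ⟨(b ^ 2 + c ^ 2)⁻¹ * (b - c * a), (b ^ 2 + c ^ 2)⁻¹ * (-b * a - c), ?_⟩
    rw [mul_smul, mul_smul, ← smul_add, eq_inv_smul_iff₀ hd]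
    linear_combination (norm := ((try simp only [act_eq G]); module)) b • hu - c • e1
  · refine ⟨(b ^ 2 + c ^ 2)⁻¹ * (c + b * a), (b ^ 2 + c ^ 2)⁻¹ * (-c * a + b), ?_⟩
    rw [mul_smul, mul_smul, ← smul_add, eq_inv_smul_iff₀ hd]
    linear_combination (norm := ((try simp only [act_eq G]); module)) c • hu + b • e1

theorem sq_of_rel (hx : x ≠ 0) {ε ν : K} (hε : ε * ε = 1)
    (hr : ε • (j : G) • x = (i : G) • x + ν • x) : ν * ν = -2 := by
  have e1 := congrArg (fun v => (i : G) • v) hr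
  have e2 := congrArg (fun v => (j : G) • v) hr
  simp only [smul_add, h.linE i.2, h.linE j.2, q.ii, q.ij, q.jj, q.ji] at e1 e2
  have e3 : (ν * ν + 2) • x = 0 := by
    linear_combination (norm := ((try simp only [act_eq G]); module)) e1 - ε • e2 - ν • hr - hε • x
  exact eq_neg_of_add_eq_zero_left ((smul_eq_zero.1 e3).resolve_right hx)

theorem swap : h.Quat x j i k⁻¹ := by
  have hk : ∀ v : V, ((k⁻¹ : E) : G) • v = -((k : G) • v) := fun v => by
    rw [coe_inv, inv_smul_eq_iff, smul_neg, q.kk, neg_neg]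
  exact ⟨⟨q.jj, q.ii, fun v => by rw [hk, q.ji], fun v => by rw [hk, q.ij, neg_neg]⟩, q.hj, q.hi⟩

theorem not_both (hx : x ≠ 0) (h3 : (3 : K) ≠ 0) (hi : ∀ l : K, (i : G) • x ≠ l • x)
    {ε ν ε' ν' : K} (hε : ε * ε = 1) (hε' : ε' * ε' = 1)
    (hr : ε • (j : G) • x = (i : G) • x + ν • x) (hr' : ε' • (k : G) • x = (i : G) • x + ν' • x) :
    False := by
  have s1 := q.sq_of_rel hx hε hr
  have e1 := congrArg (fun v => (i : G) • v) hr
  simp only [smul_add, h.linE i.2, q.ii, q.ij] at e1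
  have e2 : (ε * ε' - ν) • (i : G) • x = (-1 - ε * ε' * ν') • x := by
    linear_combination (norm := ((try simp only [act_eq G]); module)) e1 - (ε * ε') • hr' + hε' • (ε • (k : G) • x)
  by_cases h0 : ε * ε' - ν = 0
  · apply h3
    have : ν = ε * ε' := by linear_combination -h0
    subst this
    linear_combination s1 - (ε' * ε') * hε - hε'
  · exact hi ((ε * ε' - ν)⁻¹ * (-1 - ε * ε' * ν')) (by rw [mul_smul, eq_inv_smul_iff₀ h0, e2])

end Quat

/-- The relation between two axes. -/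
def Rel (x : V) (K : Type*) [Field K] [Module K V] (i j : G) : Prop :=
  ∃ ε ν : K, ε * ε = 1 ∧ ε • j • x = i • x + ν • x

omit h in
theorem Rel.symm {x : V} {i j : G} (hr : Rel x K i j) : Rel x K j i := by
  obtain ⟨ε, ν, hε, hr⟩ := hr
  exact ⟨ε, -ε * ν, hε, by linear_combination (norm := ((try simp only [act_eq G]); module)) (-ε) • hr + hε • (j • x)⟩

theorem conj_axis {x : V} (hx : x ≠ 0) {i n : E} (hii : ∀ v : V, (i : G) • (i : G) • v = -v)
    (hn : h.χ x n = 1) (hnn : ∀ v : V, (n : G) • (n : G) • v = -v)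
    {g : G} (hg : g • x = x) {u : Kˣ} (hu : g • (i : G) • x = (u : K) • (n : G) • x) :
    (u : K) * u = 1 := by
  have e1 : ((n⁻¹ * h.cE g i : E) : G) • x = (u : K) • x := by
    rw [coe_mul, coe_inv, mul_smul, inv_smul_eq_iff, h.linE n.2, ← hu, ← h.cE_smul g, hg]
  have e2 := h.eig_W hx e1 (h.smul_mem_W x hn)
  rw [coe_mul, coe_inv, mul_smul, inv_smul_eq_iff, h.linE n.2, hnn] at e2
  have e3 := congrArg (fun v => (h.cE g i : G) • v) hu
  simp only [h.cE_smul, hii, smul_neg, hg, h.linE (h.cE g i).2, e2, neg_inj] at e3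
  rw [smul_smul] at e3
  exact smul_left_injective K hx (e3.symm.trans (one_smul K x).symm)

theorem base_of_axis [Finite G] [Finite K] {p : ℕ} [Fact p.Prime] [CharP K p]
    (hG : ¬ p ∣ Nat.card G) {x : V} (hx : x ≠ 0) {i : E} (hi : h.χ x i = 1)
    (hN : ∀ n : E, h.χ x n = 1 → ∃ r s : K, (n : G) • x = r • x + s • (i : G) • x)
    (hU : ∀ (g : G) (ν : K), g • x = x → g • (i : G) • x = (i : G) • x + ν • x →
      g • (i : G) • x = (i : G) • x) : ∃ y0, h.IsBase p x y0 := by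
  obtain ⟨γ, hγ⟩ := IsCyclic.exists_generator (α := Kˣ)
  refine ⟨fun s => ((γ : K) + s.val) • x + (i : G) • x,
    fun _ => add_mem (Submodule.smul_mem _ _ (h.self_mem_W x)) (h.smul_mem_W x hi),
    fun s t g hg hy => ?_⟩
  simp only [smul_add] at hy
  obtain ⟨c, hc⟩ := h.semilin g ((γ : K) + s.val)
  have h1 := hU g (((γ : K) + t.val) - c) hg (by
    rw [hc, hg] at hy
    linear_combination (norm := ((try simp only [act_eq G]); module)) hy)
  rw [h1, add_left_inj] at hy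
  obtain ⟨h2, h3⟩ := h.gal hG hx hγ hg hy
  refine ⟨h2, h3, fun n hn => ?_⟩
  obtain ⟨r, s, hu⟩ := hN n hn
  rw [hu, smul_add, h.lin h3, h.lin h3, hg, h1]

theorem base_of_quat_aux [Finite G] [Finite K] {p : ℕ} [Fact p.Prime] [CharP K p]
    (hG : ¬ p ∣ Nat.card G) (h2 : (2 : K) ≠ 0) {x : V} (hx : x ≠ 0) {i j k : E}
    (q : h.Quat x i j k) {a b c : K}
    (hu : a • (i : G) • x + b • (j : G) • x + c • (k : G) • x = x) (ha : a ^ 2 ≠ -1)
    (hs : a ^ 2 + b ^ 2 + c ^ 2 = -1)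
    (hN : ∀ n : E, h.χ x n = 1 → ∃ u : Kˣ, (n : G) • x = (u : K) • x ∨
      (n : G) • x = (u : K) • (i : G) • x ∨ (n : G) • x = (u : K) • (j : G) • x ∨
      (n : G) • x = (u : K) • (k : G) • x)
    (h3 : (3 : K) = 0 ∨ (¬ Rel x K (i : G) j ∧ ¬ Rel x K (i : G) k)) : ∃ y0, h.IsBase p x y0 := by
  have hne := q.not_eig hx h2 hu ha
  obtain ⟨⟨r1, s1, e1⟩, r2, s2, e2⟩ := q.span hu ha hs
  apply h.base_of_axis hG hx q.hi
  · intro n hn
    obtain ⟨u, hu | hu | hu | hu⟩ := hN n hn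
    · exact ⟨u, 0, by simp [hu]⟩
    · exact ⟨0, u, by simp [hu]⟩
    · exact ⟨u * r1, u * s1, by rw [hu, e1, smul_add, smul_smul u.1, smul_smul u.1]⟩
    · exact ⟨u * r2, u * s2, by rw [hu, e2, smul_add, smul_smul u.1, smul_smul u.1]⟩
  intro g ν hg hν
  have hsh : ν * ν = -2 → (3 : K) = 0 → g • (i : G) • x = (i : G) • x := by
    intro h1 h3
    apply fix_of_shift (K := K) hG _ hν
    have : (ν - 1) * (ν + 1) = 0 := by linear_combination h1 - h3
    rcases mul_eq_zero.1 this with h4 | h4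
    · rw [sub_eq_zero.1 h4, one_smul, hg]
    · rw [eq_neg_of_add_eq_zero_left h4, neg_one_smul, smul_neg, hg]
  obtain ⟨u, hu'⟩ := hN _ (h.χ_cE_eq_one hg q.hi)
  rw [show (h.cE g i : G) • x = g • (i : G) • x by rw [← h.cE_smul g, hg]] at hu'
  rcases hu' with hu' | hu' | hu' | hu'
  · exact absurd (by linear_combination (norm := ((try simp only [act_eq G]); module)) hu' - hν) (hne (u - ν))
  · have := h.conj_axis hx q.ii q.hi q.ii hg hu'
    rcases mul_self_eq_one_iff.1 this with h4 | h4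
    · rw [hu', h4, one_smul]
    · exfalso
      apply hne (-(2⁻¹ * ν))
      rw [neg_smul, mul_smul, ← smul_neg, eq_inv_smul_iff₀ h2]
      rw [h4] at hu'
      linear_combination (norm := ((try simp only [act_eq G]); module)) hu' - hν
  · have := h.conj_axis hx q.ii q.hj q.jj hg hu'
    rcases h3 with h3 | h3
    · exact hsh (q.sq_of_rel hx this (hu'.symm.trans hν)) h3
    · exact absurd ⟨u, ν, this, hu'.symm.trans hν⟩ h3.1
  · have := h.conj_axis hx q.ii q.hk q.kk hg hu'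
    rcases h3 with h3 | h3
    · refine hsh (q.rot.rot.swap.sq_of_rel hx this (hu'.symm.trans hν)) h3
    · exact absurd ⟨u, ν, this, hu'.symm.trans hν⟩ h3.2

theorem exists_base_quat [Finite G] [Finite K] {p : ℕ} [Fact p.Prime] [CharP K p]
    (hG : ¬ p ∣ Nat.card G) (h2 : (2 : K) ≠ 0) {x : V} (hx : x ≠ 0) {i j k : E}
    (q : h.Quat x i j k) {a b c : K}
    (hu : a • (i : G) • x + b • (j : G) • x + c • (k : G) • x = x) (ha : a ^ 2 ≠ -1)
    (hb : b ^ 2 ≠ -1) (hc : c ^ 2 ≠ -1) (hs : a ^ 2 + b ^ 2 + c ^ 2 = -1)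
    (hN : ∀ n : E, h.χ x n = 1 → ∃ u : Kˣ, (n : G) • x = (u : K) • x ∨
      (n : G) • x = (u : K) • (i : G) • x ∨ (n : G) • x = (u : K) • (j : G) • x ∨
      (n : G) • x = (u : K) • (k : G) • x) : ∃ y0, h.IsBase p x y0 := by
  by_cases h3 : (3 : K) = 0
  · exact h.base_of_quat_aux hG h2 hx q hu ha hs hN (Or.inl h3)
  have hu1 : b • (j : G) • x + c • (k : G) • x + a • (i : G) • x = x := by
    linear_combination (norm := ((try simp only [act_eq G]); module)) hu
  have hu2 : c • (k : G) • x + a • (i : G) • x + b • (j : G) • x = x := by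
    linear_combination (norm := ((try simp only [act_eq G]); module)) hu
  have n0 : ¬ (Rel x K (i : G) j ∧ Rel x K (i : G) k) := by
    rintro ⟨⟨_, _, a1, a2⟩, _, _, a3, a4⟩
    exact q.not_both hx h3 (q.not_eig hx h2 hu ha) a1 a3 a2 a4
  have n1 : ¬ (Rel x K (j : G) k ∧ Rel x K (j : G) i) := by
    rintro ⟨⟨_, _, a1, a2⟩, _, _, a3, a4⟩
    exact q.rot.not_both hx h3 (q.rot.not_eig hx h2 hu1 hb) a1 a3 a2 a4
  have n2 : ¬ (Rel x K (k : G) i ∧ Rel x K (k : G) j) := by
    rintro ⟨⟨_, _, a1, a2⟩, _, _, a3, a4⟩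
    exact q.rot.rot.not_both hx h3 (q.rot.rot.not_eig hx h2 hu2 hc) a1 a3 a2 a4
  by_cases r1 : Rel x K (i : G) j
  · refine h.base_of_quat_aux hG h2 hx q.rot.rot hu2 hc (by linear_combination hs)
      (fun n hn => (hN n hn).imp fun u hu => by tauto)
      (Or.inr ⟨fun r => n0 ⟨r1, r.symm⟩, fun r => n1 ⟨r.symm, r1.symm⟩⟩)
  by_cases r2 : Rel x K (i : G) k
  · refine h.base_of_quat_aux hG h2 hx q.rot hu1 hb (by linear_combination hs)
      (fun n hn => (hN n hn).imp fun u hu => by tauto)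
      (Or.inr ⟨fun r => n2 ⟨r2.symm, r.symm⟩, fun r => r1 r.symm⟩)
  exact h.base_of_quat_aux hG h2 hx q hu ha hs hN (Or.inr ⟨r1, r2⟩)

end EData

end Base2
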