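import Cfsg.Agent.Lib.Base.Glue
import Cfsg.Agent.Lib.Grp.Card

/-! Reduction of the base size two theorem to the primitive situation. -/

set_option autoImplicit false
set_option linter.style.haveILetI false

namespace Base2

open Function

universe u

/-- The scalars form a maximal abelian normal subgroup of the faithful group `G`. -/
structure Setup {K G : Type*} (V : Type*) [Field K] [Group G] [AddCommGroup V] [Module K V]
    [DistribMulAction G V] (ι : Kˣ →* G) : Prop where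
  smul : ∀ (u : Kˣ) (v : V), ι u • v = (u : K) • v
  faith : ∀ g : G, (∀ v : V, g • v = v) → g = 1
  normal : ι.range.Normal
  max : ∀ A : Subgroup G, A.Normal → (∀ a ∈ A, ∀ b ∈ A, a * b = b * a) → ι.range ≤ A →
    A ≤ ι.range

/-- The statement in the primitive situation. -/
def PrimStatement (p : ℕ) : Prop :=
  ∀ (K G V : Type u) [Field K] [Finite K] [CharP K p] [Group G] [Finite G] [Group.IsSolvable G]
    [AddCommGroup V] [Finite V] [Nontrivial V] [Module K V] [DistribMulAction G V] (ι : Kˣ →* G),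
    Setup V ι → ¬ p ∣ Nat.card G → Good (ZMod p) G V

section field

variable {G V : Type*} [Group G] [AddCommGroup V] [DistribMulAction G V]

theorem idem_trivial [Finite V] (hprim : ∀ Ω : Finset (Module.End ℤ V), IsSys G Ω → Ω.card < 2)
    (K : Subring (Module.End ℤ V)) (hc : ∀ a ∈ K, ∀ b ∈ K, a * b = b * a)
    (hK : ∀ (g : G), ∀ a ∈ K, cjE g a ∈ K) {e : Module.End ℤ V} (he : e ∈ K) (hee : e * e = e) :
    e = 0 ∨ e = 1 := by
  classical
  have : Finite (Module.End ℤ V) := DFunLike.finite _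
  have := Fintype.ofFinite (Module.End ℤ V)
  let P : Module.End ℤ V → Prop := fun a => a ∈ K ∧ a * a = a ∧ a ≠ 0 ∧
    ∀ b ∈ K, b * b = b → a * b = 0 ∨ a * b = a
  let Ω := Finset.univ.filter P
  have hΩ : ∀ a, a ∈ Ω ↔ P a := by simp [Ω]
  have hex : ∀ f ∈ K, f * f = f → f ≠ 0 → ∃ a ∈ Ω, a * f = a := by
    intro f hf hff hf0
    obtain ⟨a, ⟨ha, haa, ha0, haf⟩, hmin⟩ := exists_minimalFor_of_wellFoundedLT
      (fun a : Module.End ℤ V => a ∈ K ∧ a * a = a ∧ a ≠ 0 ∧ a * f = a)
      (fun a => LinearMap.range a) ⟨f, hf, hff, hf0, hff⟩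
    refine ⟨a, (hΩ a).2 ⟨ha, haa, ha0, fun b hb hbb => ?_⟩, haf⟩
    by_cases h0 : a * b = 0
    · exact Or.inl h0
    right
    have h1 : a * b * (a * b) = a * b := by
      rw [mul_assoc, ← mul_assoc b, hc b hb a ha, mul_assoc, hbb, ← mul_assoc, haa]
    have h2 : a * b * f = a * b := by
      rw [mul_assoc, hc b hb f hf, ← mul_assoc, haf]
    have h3 := hmin ⟨mul_mem ha hb, h1, h0, h2⟩ (LinearMap.range_comp_le_range b a)
    ext v
    obtain ⟨w, hw⟩ := h3 ⟨v, rfl⟩
    rw [hc a ha b hb, Module.End.mul_apply, ← hw, hc a ha b hb, ← Module.End.mul_apply,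
      ← mul_assoc, hbb]
  have horth : ∀ a ∈ Ω, ∀ b ∈ Ω, a ≠ b → a * b = 0 := by
    intro a ha b hb hab
    obtain ⟨a1, a2, -, a4⟩ := (hΩ a).1 ha
    obtain ⟨b1, b2, -, b4⟩ := (hΩ b).1 hb
    rcases a4 b b1 b2 with h | h
    · exact h
    rcases b4 a a1 a2 with h' | h'
    · rw [hc a a1 b b1, h']
    · exact absurd (h.symm.trans ((hc a a1 b b1).trans h')) hab
  have hmul : ∀ a ∈ Ω, a * ∑ b ∈ Ω, b = a := by
    intro a ha
    rw [Finset.mul_sum, Finset.sum_eq_single a]
    · exact ((hΩ a).1 ha).2.1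
    · intro b hb hba; exact horth a ha b hb hba.symm
    · intro h; exact absurd ha h
  have hcj : ∀ (g : G) (a b : Module.End ℤ V), cjE g (a * b) = cjE g a * cjE g b := by
    intro g a b; ext v; simp [cjE_apply]
  have hc0 : ∀ g : G, cjE g (0 : Module.End ℤ V) = 0 := by intro g; simp [cjE]
  have hsys : IsSys G Ω := by
    refine ⟨fun a ha => ((hΩ a).1 ha).2.2.1, fun a ha => ((hΩ a).1 ha).2.1, horth, ?_, ?_⟩
    · by_contra hne
      have hs : (∑ b ∈ Ω, b) * (∑ b ∈ Ω, b) = ∑ b ∈ Ω, b := by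
        conv_lhs => rw [Finset.sum_mul]
        exact Finset.sum_congr rfl hmul
      obtain ⟨a, ha, haf⟩ := hex (1 - ∑ b ∈ Ω, b)
        (sub_mem (one_mem _) (sum_mem fun b hb => ((hΩ b).1 hb).1))
        (by rw [sub_mul, mul_sub, mul_sub, hs]; simp) (fun h => hne (sub_eq_zero.1 h).symm)
      rw [mul_sub, hmul a ha, mul_one, sub_self] at haf
      exact ((hΩ a).1 ha).2.2.1 haf.symm
    · intro g a ha
      obtain ⟨a1, a2, a3, a4⟩ := (hΩ a).1 ha
      refine (hΩ _).2 ⟨hK g a a1, by rw [← hcj, a2],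
        fun h => a3 (cjE_injective g (h.trans (hc0 g).symm)), fun b hb hbb => ?_⟩
      have hb' : b = cjE g (cjE g⁻¹ b) := by simp [← cjE_mul, cjE_one]
      rw [hb', ← hcj]
      rcases a4 _ (hK g⁻¹ b hb) (by rw [← hcj, hbb]) with h | h
      · left; rw [h, hc0]
      · right; rw [h]
  by_contra hcon
  push Not at hcon
  obtain ⟨a, ha, haf⟩ := hex e he hee hcon.1
  obtain ⟨b, hb, hbf⟩ := hex (1 - e) (sub_mem (one_mem _) he)
    (by rw [sub_mul, mul_sub, mul_sub, hee]; simp) (fun h => hcon.2 (sub_eq_zero.1 h).symm)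
  have hab : a ≠ b := by
    rintro rfl
    rw [mul_sub, haf, mul_one, sub_self] at hbf
    exact ((hΩ a).1 ha).2.2.1 hbf.symm
  have := hprim Ω hsys
  have h2 : 1 < Ω.card := Finset.one_lt_card.2 ⟨a, ha, b, hb, hab⟩
  omega

end field

set_option maxHeartbeats 1000000 in
theorem good_of_primitive {p : ℕ} [hp : Fact p.Prime] (hP : PrimStatement.{u} p) {V : Type u}
    [AddCommGroup V] [Finite V] [Nontrivial V] (hV : ∀ v : V, p • v = 0)
    (H : Subgroup (Module.End ℤ V)ˣ) (hs : Group.IsSolvable H) (hH : ¬ p ∣ Nat.card H)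
    (hmax : ∀ H' : Subgroup (Module.End ℤ V)ˣ, H ≤ H' → Group.IsSolvable H' →
      ¬ p ∣ Nat.card H' → H' ≤ H)
    (hprim : ∀ Ω : Finset (Module.End ℤ V), IsSys H Ω → Ω.card < 2) : Good (ZMod p) H V := by
  classical
  have : Finite (Module.End ℤ V) := DFunLike.finite _
  have hchar : CharP (Module.End ℤ V) p := by
    apply (CharP.charP_iff_prime_eq_zero hp.out).2
    ext v
    simp [hV]
  obtain ⟨U, -, hU⟩ := Finite.exists_le_maximal
    (p := fun A : Subgroup H => A.Normal ∧ ∀ a ∈ A, ∀ b ∈ A, a * b = b * a) (a := ⊥)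
    ⟨inferInstance, by simp⟩
  let K : Subring (Module.End ℤ V) :=
    Subring.closure ((fun u : H => ((u : (Module.End ℤ V)ˣ) : Module.End ℤ V)) '' U)
  have hcm : IsMulCommutative K := Subring.isMulCommutative_closure (by
    rintro _ ⟨a, ha, rfl⟩ _ ⟨b, hb, rfl⟩
    exact congrArg (fun u : H => ((u : (Module.End ℤ V)ˣ) : Module.End ℤ V)) (hU.1.2 a ha b hb))
  have hc : ∀ a ∈ K, ∀ b ∈ K, a * b = b * a := fun a ha b hb =>
    congrArg Subtype.val (hcm.is_comm.comm ⟨a, ha⟩ ⟨b, hb⟩)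
  have hcjE : ∀ (g : H) (a : Module.End ℤ V), cjE g a = g.1.1 * a * g.1⁻¹.1 := fun g a => rfl
  have hK : ∀ (g : H), ∀ a ∈ K, cjE g a ∈ K := by
    intro g a ha
    rw [hcjE]
    induction ha using Subring.closure_induction with
    | mem x hx =>
      obtain ⟨u, hu, rfl⟩ := hx
      exact Subring.subset_closure ⟨_, hU.1.1.conj_mem u hu g, rfl⟩
    | zero => simp
    | one => simp
    | add x y _ _ hx hy => rw [mul_add, add_mul]; exact add_mem hx hy
    | neg x _ hx => rw [mul_neg, neg_mul]; exact neg_mem hx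
    | mul x y _ _ hx hy =>
      have := mul_mem hx hy
      simpa [mul_assoc] using this
  obtain ⟨N, hN0, hN⟩ : ∃ N, 0 < N ∧ ∀ u : H, u ^ p ^ N = u := by
    have hcop : p.Coprime (Nat.card H) := (Nat.Prime.coprime_iff_not_dvd hp.out).2 hH
    refine ⟨(Nat.card H).totient, Nat.totient_pos.2 Nat.card_pos, fun u => ?_⟩
    have h1 := Nat.ModEq.pow_totient hcop
    rw [← pow_mod_natCard, h1, pow_mod_natCard, pow_one]
  have hfrob : ∀ a ∈ K, a ^ p ^ N = a := by
    intro a ha
    induction ha using Subring.closure_induction with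
    | mem x hx =>
      obtain ⟨u, hu, rfl⟩ := hx
      exact congrArg (fun u : H => ((u : (Module.End ℤ V)ˣ) : Module.End ℤ V)) (hN u)
    | zero => exact zero_pow (pow_pos hp.out.pos N).ne'
    | one => simp
    | add x y hx' hy' hx hy => rw [add_pow_char_pow_of_commute _ _ (hc x hx' y hy'), hx, hy]
    | neg x _ hx =>
      have := add_pow_char_pow_of_commute (p := p) (n := N) (x := -x) (y := x)
        (Commute.refl x).neg_left
      rw [neg_add_cancel, zero_pow (pow_pos hp.out.pos N).ne', hx] at this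
      exact eq_neg_of_add_eq_zero_left this.symm
    | mul x y hx' hy' hx hy => rw [Commute.mul_pow (hc x hx' y hy'), hx, hy]
  have h2 : 2 ≤ p ^ N := Nat.one_lt_pow hN0.ne' hp.out.one_lt
  obtain ⟨m, hm⟩ := Nat.exists_eq_add_of_le h2
  have hfield : IsField K := by
    refine ⟨⟨0, 1, zero_ne_one⟩, hcm.is_comm.comm, fun {a} ha => ?_⟩
    have h1 : (a : Module.End ℤ V) ^ (m + 1) * a = a := by
      rw [← pow_succ, show m + 1 + 1 = 2 + m by ring, ← hm, hfrob a a.2]
    have h3 : (a : Module.End ℤ V) ^ (m + 1) * a ^ (m + 1) = a ^ (m + 1) := by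
      conv_lhs => rw [pow_succ' _ m, ← mul_assoc, ← pow_succ', h1]
      rw [pow_succ']
    rcases idem_trivial hprim K hc hK (pow_mem a.2 (m + 1)) h3 with h | h
    · rw [h, zero_mul] at h1
      exact absurd (Subtype.ext h1.symm) ha
    · exact ⟨a ^ m, Subtype.ext (by simpa [pow_succ'] using h)⟩
  let U' : Subgroup (Module.End ℤ V)ˣ := (Units.map K.subtype.toMonoidHom).range
  have hU' : ∀ u : (Module.End ℤ V)ˣ, u ∈ U' ↔ (u : Module.End ℤ V) ∈ K := by
    intro u
    refine ⟨by rintro ⟨v, rfl⟩; exact v.1.2, fun hu => ?_⟩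
    have hne : (⟨u, hu⟩ : K) ≠ 0 := fun h => u.ne_zero (congrArg Subtype.val h)
    obtain ⟨b, hb⟩ := hfield.mul_inv_cancel hne
    exact ⟨⟨⟨u, hu⟩, b, hb, (hfield.mul_comm _ _).trans hb⟩, Units.ext rfl⟩
  have hnorm : H ≤ Subgroup.normalizer (U' : Set (Module.End ℤ V)ˣ) := by
    intro g hg
    apply Subgroup.mem_normalizer_fintype
    intro u hu
    exact (hU' _).2 (hK ⟨g, hg⟩ _ ((hU' u).1 hu))
  have hU'c : IsMulCommutative U' := GT.isMulCommutative_iff_forall.2 fun a ha b hb =>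
    Units.ext (hc _ ((hU' a).1 ha) _ ((hU' b).1 hb))
  have hU's : Group.IsSolvable U' := GT.isSolvable_of_isMulCommutative
  have hU'p : ¬ p ∣ Nat.card U' := by
    intro hd
    obtain ⟨x, hx⟩ := exists_prime_orderOf_dvd_card' p hd
    have h1 : x ^ p ^ N = x := Subtype.ext (Units.ext (hfrob _ ((hU' _).1 x.2)))
    obtain ⟨N', rfl⟩ := Nat.exists_eq_add_of_lt hN0
    rw [pow_succ', pow_mul, ← hx, pow_orderOf_eq_one, one_pow] at h1
    rw [← h1, orderOf_one] at hx
    exact hp.out.one_lt.ne hx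
  have hle : U' ≤ H := le_sup_right.trans (hmax (H ⊔ U') le_sup_left
    (GT.isSolvable_sup_of_le_normalizer hnorm) (fun hd => by
      rcases (Nat.Prime.dvd_mul hp.out).1 (hd.trans (GT.card_sup_dvd_of_le_normalizer hnorm))
        with h | h
      · exact hH h
      · exact hU'p h))
  letI : Field K := hfield.toField
  let ι : Kˣ →* H := (Units.map K.subtype.toMonoidHom).codRestrict H fun u => hle ⟨u, rfl⟩
  have hι : ∀ g : H, g ∈ ι.range ↔ g.1.1 ∈ K := by
    intro g
    rw [← hU']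
    exact ⟨fun ⟨u, hu⟩ => ⟨u, congrArg Subtype.val hu⟩, fun ⟨u, hu⟩ => ⟨u, Subtype.ext hu⟩⟩
  have hn : ι.range.Normal := ⟨fun u hu g => (hι _).2 (hK g _ ((hι _).1 hu))⟩
  have hUle : U ≤ ι.range := fun u hu => (hι _).2 (Subring.subset_closure ⟨u, hu, rfl⟩)
  have : CharP K p := by
    apply (CharP.charP_iff_prime_eq_zero hp.out).2
    apply Subtype.ext
    exact (map_natCast K.subtype p).trans (CharP.cast_eq_zero _ p)
  refine hP K H V ι ⟨fun _ _ => rfl, fun g hg => ?_, hn, fun A hA hAc hle => ?_⟩ hH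
  · exact Subtype.ext (Units.ext (LinearMap.ext hg))
  · exact (hU.2 ⟨hA, hAc⟩ (hUle.trans hle)).trans hUle

/-- the action of the stabiliser of an idempotent on its range -/
@[reducible] def rangeAction {G V : Type*} [Group G] [AddCommGroup V] [DistribMulAction G V]
    (e : Module.End ℤ V) (S : Subgroup G) (hS : ∀ g ∈ S, cjE g e = e) :
    DistribMulAction S (LinearMap.range e) where
  smul g v := ⟨g • v.1, by
    obtain ⟨w, hw⟩ := v.2
    exact ⟨g.1 • w, by conv_lhs => rw [← hS g g.2, cjE_smul, hw]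
                       rfl⟩⟩
  one_smul v := Subtype.ext (one_smul S v.1)
  mul_smul g h v := Subtype.ext (mul_smul g h v.1)
  smul_zero g := Subtype.ext (smul_zero g)
  smul_add g v w := Subtype.ext (smul_add g v.1 w.1)

theorem good_of_prim {p : ℕ} [hp : Fact p.Prime] (hP : PrimStatement.{u} p) {κ : ℕ}
    (hκ : (κ = 5 ∧ 5 ≤ p) ∨ (κ = 3 ∧ p = 3)) (n : ℕ) :
    ∀ (V : Type u) [AddCommGroup V] [Finite V] [Nontrivial V], Nat.card V = n →
      (∀ v : V, p • v = 0) → ∀ (G : Type u) [Group G] [Finite G] [Group.IsSolvable G]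
      [DistribMulAction G V], ¬ p ∣ Nat.card G → Good (ZMod κ) G V := by
  induction n using Nat.strong_induction_on with
  | _ n ih =>
  intro V _ _ _ hn hV G _ _ _ _ hG
  classical
  have : Finite (Module.End ℤ V) := DFunLike.finite _
  let f : G →* (Module.End ℤ V)ˣ := (DistribMulAction.toModuleEnd ℤ V).toHomUnits
  have hf : Surjective f.rangeRestrict := MonoidHom.rangeRestrict_surjective _
  obtain ⟨H, hfH, hH⟩ := Finite.exists_le_maximal
    (p := fun H : Subgroup (Module.End ℤ V)ˣ => Group.IsSolvable H ∧ ¬ p ∣ Nat.card H)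
    (a := f.range) ⟨Group.isSolvable_of_surjective hf,
      fun hd => hG (hd.trans (Subgroup.card_dvd_of_surjective _ hf))⟩
  suffices h : Good (ZMod κ) H V from h.of_hom (fun g => ⟨f g, hfH ⟨g, rfl⟩⟩) fun _ _ => rfl
  have hs := hH.1.1
  by_cases hprim : ∀ Ω : Finset (Module.End ℤ V), IsSys H Ω → Ω.card < 2
  · have h := good_of_primitive hP hV H hs hH.1.2 (fun H' h1 h2 h3 => hH.2 ⟨h2, h3⟩ h1) hprim
    have : NeZero κ := ⟨by omega⟩
    obtain ⟨j⟩ : Nonempty (ZMod κ ↪ ZMod p) := by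
      apply Function.Embedding.nonempty_of_card_le
      rw [ZMod.card, ZMod.card]; omega
    exact h.of_injective j.injective
  push Not at hprim
  obtain ⟨Ω, ⟨hΩ, h2⟩, hmin⟩ := exists_minimalFor_of_wellFoundedLT
    (fun Ω : Finset (Module.End ℤ V) => IsSys H Ω ∧ 2 ≤ Ω.card) Finset.card hprim
  letI := hΩ.action
  have : Nonempty Ω := Finset.nonempty_coe_sort.2 (Finset.card_pos.1 (by omega))
  obtain ⟨c, hc⟩ := exists_perm_col (G := H) (Ω := Ω) (κ := κ)
    (hκ.imp (fun h => h.1) fun h : κ = 3 ∧ p = 3 => ⟨h.1, h.2 ▸ hH.1.2⟩) (fun N hN => by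
      refine (hΩ.quasi (fun Ω' h1 h3 => ?_) N hN).imp
        (fun h n hn e => Subtype.ext (h n hn e e.2)) (fun h e e' => ?_)
      · exact (le_total _ _).elim id fun h => hmin ⟨h1, h3⟩ h
      · obtain ⟨n, hn, h⟩ := h e e.2 e' e'.2
        exact ⟨n, hn, Subtype.ext h⟩)
  apply hΩ.good (fun e => if h : e ∈ Ω then c ⟨e, h⟩ else 0)
  · intro g t h
    obtain ⟨h1, h3⟩ := hc g t (fun e => by
      have := h e e.2
      rw [dif_pos e.2, dif_pos (hΩ.inv g e e.2)] at this
      exact this)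
    exact ⟨h1, fun e he => congrArg Subtype.val (h3 ⟨e, he⟩)⟩
  · intro e he
    let S := MulAction.stabilizer H (⟨e, he⟩ : Ω)
    letI := rangeAction e S fun g hg => congrArg Subtype.val hg
    have hnt : Nontrivial (LinearMap.range e) := by
      rw [Submodule.nontrivial_iff_ne_bot]
      exact fun h => hΩ.ne e he (LinearMap.range_eq_bot.1 h)
    have hlt : Nat.card (LinearMap.range e) < n := by
      rw [← hn]
      obtain ⟨e', he', hne⟩ := Finset.exists_mem_ne h2 e
      obtain ⟨v, hv⟩ : ∃ v, e' v ≠ 0 := by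
        by_contra hcon
        push Not at hcon
        exact hΩ.ne e' he' (LinearMap.ext hcon)
      apply Finite.card_subtype_lt (x := v)
      rintro ⟨w, rfl⟩
      apply hv
      rw [← Module.End.mul_apply, hΩ.orth e' he' e he hne, LinearMap.zero_apply]
    obtain ⟨x, y, hxy⟩ := ih _ hlt (LinearMap.range e) rfl (fun v => Subtype.ext (hV v.1)) S
      (fun hd => hH.1.2 (hd.trans (Subgroup.card_subgroup_dvd_card S)))
    have hfix : ∀ v : LinearMap.range e, e v = v := by
      rintro ⟨_, w, rfl⟩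
      rw [← Module.End.mul_apply, hΩ.idem e he]
    refine ⟨fun i => x i, fun i => y i, fun i => hfix _, fun i => hfix _, fun i j g hg h1 h3 => ?_⟩
    obtain ⟨h4, h5⟩ := hxy i j ⟨g, Subtype.ext hg⟩ (Subtype.ext h1) (Subtype.ext h3)
    exact ⟨h4, fun v => congrArg Subtype.val (h5 ⟨e v, v, rfl⟩)⟩

end Base2
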