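import Cfsg.Agent.Lib.Base.Cases

/-! The Lagrangian type over the fields with three, five and nine elements. -/

set_option autoImplicit false

namespace Base2

open Function Subgroup

variable {K G V : Type*} [Field K] [Group G] [AddCommGroup V] [Module K V] [DistribMulAction G V]
  {ι : Kˣ →* G} {E : Subgroup G}

namespace EData

variable (h : EData V ι E)

theorem stab_sq (hsq : ∀ a b, h.β a b ^ 2 = 1) {x : V} (hx : x ≠ 0) {Z : E} (hZ : Z ∈ stab E x) :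
    Z ^ 2 = 1 := by
  obtain ⟨u, hu⟩ := h.exists_pow_eq (hsq Z)
  exact Subtype.ext (h.eq_one_of_fix ⟨u, by rw [hu]; rfl⟩ hx (pow_mem hZ 2))

theorem exists_invol [Finite G] [Finite K] (h2 : (2 : K) ≠ 0) (he : 2 ∣ Nat.card Kˣ)
    (hsq : ∀ a b, h.β a b ^ 2 = 1) {x : V} (hx : x ≠ 0) {Z : E} (hZ : Z ∈ stab E x) {Y : E}
    (hZY : h.β Z Y = -1) : ∃ X, X ^ 2 = 1 ∧ ∀ d ∈ stab E x, h.β d X = h.β d Y := by
  obtain ⟨w, hw⟩ := h.exists_four h2 he hsq Y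
  obtain ⟨u, hu⟩ := h.exists_pow_eq (hsq (Y * h.ιE w))
  rcases unit_sq_eq_one (u := u) (h.ιE_inj (by rw [map_pow, ← hu, ← pow_mul, hw, map_one]))
    with rfl | rfl
  · exact ⟨_, by rw [hu, map_one], by simp⟩
  · refine ⟨Y * h.ιE w * Z, ?_, fun d hd => ?_⟩
    · rw [h.mul_powE, hu, h.stab_sq hsq hx hZ, mul_one, ← map_mul]; simp [hZY]
    · simp [h.χ_eq_one_iff.1 (h.χ_of_mem hx hZ) d hd]

theorem exists_neg (hsq : ∀ a b, h.β a b ^ 2 = 1) {x : V} {Y : E} (hY : h.χ x Y ≠ 1) :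
    ∃ Z ∈ stab E x, h.β Z Y = -1 := by
  by_contra hc
  push Not at hc
  exact hY (h.χ_eq_one_iff.2 fun d hd => (unit_sq_eq_one (hsq d Y)).resolve_right (hc d hd))

theorem good_nine [Finite G] [Finite K] {p : ℕ} [Fact p.Prime] [CharP K p]
    (hG : ¬ p ∣ Nat.card G) (h2 : (2 : K) ≠ 0) (h3 : (3 : K) = 0) (he : 2 ∣ Nat.card Kˣ)
    (hsq : ∀ a b, h.β a b ^ 2 = 1) {γ : Kˣ} (hγ : γ ^ 4 = -1) {x : V} (hx : x ≠ 0)
    (hL : ∀ m, h.χ x m = 1 → m ∈ h.S x) {Y : E} (hY : h.χ x Y ≠ 1) : Good (ZMod p) G V := by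
  obtain ⟨Z, hZ, hZY⟩ := h.exists_neg hsq hY
  obtain ⟨X, hX, hXY⟩ := h.exists_invol h2 he hsq hx hZ hZY
  have hZX : h.β Z X = -1 := (hXY Z hZ).trans hZY
  have hZ2 := h.stab_sq hsq hx hZ
  obtain ⟨i, hi⟩ : ∃ i, i = h.ιE (γ ^ 2) * X := ⟨_, rfl⟩
  obtain ⟨j, hj⟩ : ∃ j, j = h.ιE (γ ^ 2) * Z := ⟨_, rfl⟩
  have hβi : ∀ m, h.β m i = h.β m X := fun m => by simp [hi]
  have hβj : ∀ m, h.β m j = h.β m Z := fun m => by simp [hj]
  have hii : i ^ 2 = h.ιE (-1) := by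
    rw [hi, (h.ιE_comm _ _).mul_pow, hX, ← map_pow, ← pow_mul, hγ, mul_one]
  have hjj : j ^ 2 = h.ιE (-1) := by
    rw [hj, (h.ιE_comm _ _).mul_pow, hZ2, ← map_pow, ← pow_mul, hγ, mul_one]
  have hij : h.β i j = -1 := by rw [hβj, h.β_swap, hβi, hZX]; simp
  have q := h.qrel_of hii hjj hij
  obtain ⟨y, hy⟩ : ∃ y, y = x + ((i : G) • x + (j : G) • x) := ⟨_, rfl⟩
  have hu : (1 : K) • (i : G) • y + (1 : K) • (j : G) • y + (0 : K) • ((i * j : E) : G) • y = y := by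
    simp only [hy, smul_add, q.ii, q.jj, q.ij, q.ji]
    linear_combination (norm := ((try simp only [act_eq G]); module)) -h3 • x
  have hact : ∀ (m : E) (u : K), (m : G) • x = u • x → (m : G) • y =
      u • (x + ((h.β m X : K) • (i : G) • x + (h.β m Z : K) • (j : G) • x)) := by
    intro m u hm
    rw [hy, smul_add, smul_add, h.β_smul m i, h.β_smul m j, hm, h.linE i.2, h.linE j.2, hβi, hβj]
    simp only [act_eq G]; module
  have hy0 : y ≠ 0 := by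
    intro h0
    have e1 := hact Z 1 (by rw [one_smul]; exact hZ)
    rw [h0, hZX, h.β_self, smul_zero] at e1
    rw [hy] at h0
    have e2 : (2 : K) • (i : G) • x = 0 := by
      simp only [Units.val_neg, Units.val_one] at e1
      linear_combination (norm := ((try simp only [act_eq G]); module)) h0 + e1
    exact hx ((smul_eq_zero_iff_eq _).1 ((smul_eq_zero.1 e2).resolve_left h2))
  have hDZ : ∀ d ∈ stab E x, h.β d Z = 1 := h.χ_eq_one_iff.1 (h.χ_of_mem hx hZ)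
  have hD0 : ∀ d ∈ stab E x, h.β d X = 1 → d ∈ stab E y := fun d hd hdX => by
    change (d : G) • y = y
    rw [hact d 1 (by rw [one_smul]; exact hd), hdX, hDZ d hd, hy]; simp
  have mem : ∀ m, (∀ d ∈ stab E x, h.β d X = 1 → h.β d m = 1) → h.β m i = 1 → h.β m j = 1 →
      m ∈ h.S y := by
    intro m hm h1 h4
    rw [hβi] at h1
    rw [hβj] at h4
    obtain ⟨u, hu⟩ := hL m (h.χ_eq_one_iff.2 fun d hd => by
      rcases unit_sq_eq_one (hsq d X) with h5 | h5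
      · exact hm d hd h5
      · simpa [h.β_swap m Z, h4] using hm (d * Z) (mul_mem hd hZ) (by simp [h5, hZX]))
    exact ⟨u, by rw [hact m u hu, h1, h4, hy]; simp⟩
  have h1 : (1 : K) ^ 2 ≠ -1 := fun h1 => h2 (by linear_combination h1)
  have ni := q.not_eig h hy0 h2 hu h1
  have nj := q.rot.not_eig h hy0 h2 (a := 1) (b := 0) (c := 1) (by
    linear_combination (norm := ((try simp only [act_eq G]); module)) hu) h1
  have nk := q.rot.rot.not_eig h hy0 h2 (a := 0) (b := 1) (c := 1) (by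
    linear_combination (norm := ((try simp only [act_eq G]); module)) hu) (by simp)
  have hχ : ∀ d ∈ stab E y, h.β d i = 1 ∧ h.β d j = 1 := by
    intro d hd
    obtain ⟨c, hc, h4, h5⟩ := h.adjust hij (hsq d i) (hsq d j)
    obtain ⟨u, hc'⟩ := (inv_mem_iff (H := h.S y)).1 ((mul_mem_cancel_right (h.stab_le_S y hd)).1
      (mem _ (fun d' hd' hdX => by
        rw [map_mul, map_inv, h.χ_eq_one_iff.1 (h.χ_of_mem hy0 hd) d' (hD0 d' hd' hdX)]
        rcases hc with rfl | rfl | rfl | rfl <;> simp [hβi, hβj, hdX, hDZ d' hd']) h4 h5))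
    rcases hc with rfl | rfl | rfl | rfl
    · simpa using And.intro h4 h5
    · exact absurd hc' (ni _)
    · exact absurd hc' (nj _)
    · exact absurd hc' (nk _)
  have q' : h.Minus y i j := ⟨h.χ_eq_one_iff.2 fun d hd => (hχ d hd).1,
    h.χ_eq_one_iff.2 fun d hd => (hχ d hd).2, hii, hjj, hij, fun m hm =>
      mem m fun d hd hdX => h.χ_eq_one_iff.1 hm d (hD0 d hd hdX)⟩
  obtain ⟨y0, hb⟩ := h.exists_base_quat hG h2 hy0 (h.quat_of q'.hi q'.hj hii hjj hij) hu h1 h1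
    (by simp) (by linear_combination h3) (q'.cases h)
  have nZ : ∀ l : K, (Z : G) • y ≠ l • y := fun l hl => nj ((γ ^ 2 : Kˣ) * l) (by
    rw [hj, coe_mul, mul_smul, hl, ιE_smul, smul_smul])
  have key : ∀ (n : E) (c : K), c ≠ 0 → (n : G) • c • y ≠ y + (Z : G) • y := by
    intro n c hc h4
    have h5 := h.β_smul Z n (c • y)
    rw [h4, smul_add, ← mul_smul, ← coe_mul, ← pow_two, hZ2, OneMemClass.coe_one, one_smul,
      add_comm, ← h4, ← h.linE n.2, smul_left_cancel_iff, h.linE Z.2, smul_comm] at h5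
    apply nZ (h.β Z n)⁻¹
    rw [eq_inv_smul_iff₀ (h.β Z n).ne_zero, ← smul_right_injective V hc h5]
  refine h.good_two hG hy0 hb h2 he hsq (γ := γ) (hγ ▸ neg_one_unit_ne h2) (z := y + (Z : G) • y)
    (add_mem (h.self_mem_W y) (h.smul_mem_W y (h.χ_eq_one_iff.2 fun d hd =>
      (hβj d).symm.trans (hχ d hd).2)))
    (fun h0 => nZ (-1) (by rw [neg_one_smul, eq_neg_iff_add_eq_zero, add_comm, h0]))
    fun n _ => ⟨by simpa using key n 1 one_ne_zero, key n γ γ.ne_zero⟩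

theorem exists_model [Finite G] [Finite K] (h2 : (2 : K) ≠ 0) (he : 2 ∣ Nat.card Kˣ)
    (hsq : ∀ a b, h.β a b ^ 2 = 1) {x : V} (hx : x ≠ 0)
    (hA : 2 < Nat.card (stab E x →* Kˣ)) : ∃ X1 X2 Z1 Z2 : E, X1 * X1 = 1 ∧ X2 * X2 = 1 ∧
      Z1 ∈ stab E x ∧ Z2 ∈ stab E x ∧ h.β Z1 X1 = -1 ∧ h.β Z1 X2 = 1 ∧ h.β Z2 X1 = 1 ∧
      h.β Z2 X2 = -1 ∧ h.β X1 X2 = 1 := by
  obtain ⟨Y1, Y2, Z1, hZ1, b11, b12, hY⟩ : ∃ Y1 Y2 : E, ∃ Z1 ∈ stab E x, h.β Z1 Y1 = -1 ∧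
      h.β Z1 Y2 = 1 ∧ h.χ x Y2 ≠ 1 := by
    have := finite_hom (stab E x) K
    have := Fintype.ofFinite (stab E x →* Kˣ)
    rw [Nat.card_eq_fintype_card, Fintype.two_lt_card_iff] at hA
    obtain ⟨a, b, c, hab, hac, hbc⟩ := hA
    obtain ⟨a, rfl⟩ := h.χ_surjective hx a
    obtain ⟨b, rfl⟩ := h.χ_surjective hx b
    obtain ⟨c, rfl⟩ := h.χ_surjective hx c
    have key : ∀ a b, h.χ x a ≠ h.χ x b → h.χ x (a⁻¹ * b) ≠ 1 := fun a b hab hc => hab (by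
      rw [map_mul, map_inv] at hc; exact inv_mul_eq_one.1 hc)
    obtain ⟨Z, hZ, h1⟩ := h.exists_neg hsq (key a b hab)
    rcases unit_sq_eq_one (hsq Z (a⁻¹ * c)) with h3 | h3
    · exact ⟨_, _, Z, hZ, h1, h3, key a c hac⟩
    · refine ⟨_, _, Z, hZ, h1, ?_, key b c hbc⟩
      rw [show b⁻¹ * c = (a⁻¹ * b)⁻¹ * (a⁻¹ * c) by group, map_mul, map_inv, h1, h3, inv_mul_cancel]
  obtain ⟨Z2, hZ2, b21, b22⟩ : ∃ Z2 ∈ stab E x, h.β Z2 Y1 = 1 ∧ h.β Z2 Y2 = -1 := by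
    obtain ⟨Z, hZ, h1⟩ := h.exists_neg hsq hY
    rcases unit_sq_eq_one (hsq Z Y1) with h3 | h3
    · exact ⟨Z, hZ, h3, h1⟩
    · exact ⟨Z * Z1, mul_mem hZ hZ1, by simp [h3, b11], by simp [h1, b12]⟩
  obtain ⟨X1, hX1, e1⟩ := h.exists_invol h2 he hsq hx hZ1 b11
  obtain ⟨X2, hX2, e2⟩ := h.exists_invol h2 he hsq hx hZ2 b22
  rw [← e1 _ hZ1] at b11
  rw [← e1 _ hZ2] at b21
  rw [← e2 _ hZ1] at b12
  rw [← e2 _ hZ2] at b22
  rcases unit_sq_eq_one (hsq X1 X2) with h3 | h3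
  · exact ⟨X1, X2, Z1, Z2, by rwa [← pow_two], by rwa [← pow_two], hZ1, hZ2, b11, b12, b21, b22, h3⟩
  · refine ⟨X1, X2 * Z1, Z1, Z2, by rwa [← pow_two], ?_, hZ1, hZ2, b11, by simp [b12, h.β_self],
      b21, by simp [b22, h.χ_eq_one_iff.1 (h.χ_of_mem hx hZ1) _ hZ2],
      by simp [h3, h.β_swap Z1 X1, b11]⟩
    rw [← pow_two, h.mul_powE, hX2, h.stab_sq hsq hx hZ1, b12]; simp

theorem good_lag_five [Finite G] [Finite K] [CharP K 5] (hG : ¬ 5 ∣ Nat.card G)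
    (hK : Nat.card Kˣ = 4) (hsq : ∀ a b, h.β a b ^ 2 = 1) {x : V} (hx : x ≠ 0)
    (hL : ∀ m, h.χ x m = 1 → m ∈ h.S x) (hA : 2 < Nat.card (stab E x →* Kˣ)) :
    Good (ZMod 5) G V := by
  have h5 : (5 : K) = 0 := CharP.cast_eq_zero K 5
  have h2 : (2 : K) ≠ 0 := fun h2 => one_ne_zero (by linear_combination h5 - 2 * h2 : (1 : K) = 0)
  obtain ⟨X1, X2, Z1, Z2, a1, a2, a3, a4, a5, a6, a7, a8, a9⟩ :=
    h.exists_model h2 (by omega) hsq hx hA
  have := Fintype.ofFinite K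
  let φ := ZMod.castHom (dvd_refl 5) K
  have hφ : Bijective φ := ZMod.castHom_bijective K (by
    rw [Nat.card_units, Nat.card_eq_fintype_card] at hK; omega)
  exact h.good_five hG (f := φ) ⟨hx, h2, hL, hsq, a1, a2, a3, a4, a5, a6, a7, a8, a9, map_add φ,
    map_mul φ, map_neg φ, map_zero φ, map_one φ, hφ, fun c => by
      obtain ⟨a, rfl⟩ := hφ.2 c
      exact ⟨a.val, ZMod.cast_eq_val a⟩, by
      have : φ (3 : Fin 5) = 3 := map_ofNat φ 3
      rw [this]; linear_combination h5, colFacts_five⟩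

theorem good_lag_three [Finite G] [Finite K] [CharP K 3] (hG : ¬ 3 ∣ Nat.card G)
    (hK : Nat.card Kˣ = 2) (hsq : ∀ a b, h.β a b ^ 2 = 1) {x : V} (hx : x ≠ 0)
    (hL : ∀ m, h.χ x m = 1 → m ∈ h.S x) (hA : 2 < Nat.card (stab E x →* Kˣ)) :
    Good (ZMod 3) G V := by
  have h3 : (3 : K) = 0 := CharP.cast_eq_zero K 3
  have h2 : (2 : K) ≠ 0 := fun h2 => one_ne_zero (by linear_combination h3 - h2 : (1 : K) = 0)
  obtain ⟨X1, X2, Z1, Z2, a1, a2, a3, a4, a5, a6, a7, a8, a9⟩ :=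
    h.exists_model h2 (by omega) hsq hx hA
  have := Fintype.ofFinite K
  let φ := ZMod.castHom (dvd_refl 3) K
  have hφ : Bijective φ := ZMod.castHom_bijective K (by
    rw [Nat.card_units, Nat.card_eq_fintype_card] at hK; omega)
  exact h.good_three hG (f := φ) ⟨hx, h2, hL, hsq, a1, a2, a3, a4, a5, a6, a7, a8, a9, map_add φ,
    map_mul φ, map_neg φ, map_zero φ, map_one φ, hφ, fun c => by
      obtain ⟨a, rfl⟩ := hφ.2 c
      exact ⟨a.val, ZMod.cast_eq_val a⟩, by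
      have : φ (2 : Fin 3) = 2 := map_ofNat φ 2
      rw [this]; linear_combination h3, colFacts_three⟩

end EData

end Base2
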