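import Cfsg.Agent.Lib.Base.Reduce

/-! The normal subgroup of symplectic type in the primitive situation. -/

set_option autoImplicit false

namespace Base2

open Function Subgroup
open scoped commutatorElement

section dual

variable {K : Type*} [Field K]

theorem card_hom_le (X : Type*) [Group X] [Finite X] (K : Type*) [Field K] :
    Nat.card (X →* Kˣ) ≤ Nat.card X := by
  have := Fintype.ofFinite X
  have h1 := (linearIndependent_monoidHom X K).comp (fun f : X →* Kˣ => (Units.coeHom K).comp f)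
    (fun f g h => by ext x; exact DFunLike.congr_fun h x)
  have h2 := h1.finite
  have := Fintype.ofFinite (X →* Kˣ)
  have h3 := h1.fintype_card_le_finrank
  rwa [Module.finrank_fintype_fun_eq_card, ← Nat.card_eq_fintype_card,
    ← Nat.card_eq_fintype_card] at h3

theorem finite_hom (X : Type*) [Group X] [Finite X] (K : Type*) [Field K] :
    Finite (X →* Kˣ) :=
  ((linearIndependent_monoidHom X K).comp (fun f : X →* Kˣ => (Units.coeHom K).comp f)
    (fun f g h => by ext x; exact DFunLike.congr_fun h x)).finite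

theorem exists_rep {X Y : Type*} [Group X] [Group Y] [Finite Y] (β : X →* (Y →* Kˣ))
    (φ : Y →* Kˣ) (h : ∀ y, (∀ x, β x y = 1) → φ y = 1) : ∃ x, β x = φ := by
  have := finite_hom Y K
  let ev : Y →* (β.range →* Kˣ) := β.range.subtype.flip
  let Φ : Subgroup (Y →* Kˣ) :=
    { carrier := {ψ | ∀ y ∈ ev.ker, ψ y = 1}
      one_mem' := fun _ _ => rfl
      mul_mem' := fun ha hb y hy => by simp [ha y hy, hb y hy]
      inv_mem' := fun ha y hy => by simp [ha y hy] }
  have h1 : β.range ≤ Φ := fun r hr y hy => DFunLike.congr_fun hy ⟨r, hr⟩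
  have h2 : Nat.card Φ ≤ Nat.card ((Y ⧸ ev.ker) →* Kˣ) := by
    have := finite_hom (Y ⧸ ev.ker) K
    apply Nat.card_le_card_of_injective (fun ψ : Φ => QuotientGroup.lift ev.ker ψ.1 ψ.2)
    intro a b hab
    ext y
    exact congrArg Units.val (DFunLike.congr_fun hab (y : Y ⧸ ev.ker))
  have h3 : Nat.card (Y ⧸ ev.ker) ≤ Nat.card (β.range →* Kˣ) := by
    have := finite_hom β.range K
    exact Nat.card_le_card_of_injective _ (QuotientGroup.kerLift_injective ev)
  have h4 := card_hom_le (Y ⧸ ev.ker) K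
  have h5 := card_hom_le β.range K
  have h6 := eq_of_le_of_card_ge h1 (by omega)
  have : φ ∈ Φ := fun y hy => h y fun x => DFunLike.congr_fun hy ⟨β x, x, rfl⟩
  rw [← h6] at this
  exact this

end dual

theorem mul_pow_of_central {G : Type*} [Group G] {a b c : G} (h : b * a = c * (a * b))
    (ha : Commute c a) (hb : Commute c b) (n : ℕ) :
    (a * b) ^ n = c ^ n.choose 2 * (a ^ n * b ^ n) := by
  have h1 : ∀ n : ℕ, b ^ n * a = c ^ n * (a * b ^ n) := by
    intro n
    induction n with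
    | zero => simp
    | succ n ih =>
      rw [pow_succ', mul_assoc, ih, ← mul_assoc, ← (hb.pow_left n).eq, mul_assoc, ← mul_assoc b a, h,
        pow_succ c]
      simp only [mul_assoc]
  induction n with
  | zero => simp
  | succ n ih =>
    rw [pow_succ, ih, Nat.choose_succ_succ' n 1, Nat.choose_one_right, add_comm n, pow_add]
    calc c ^ n.choose 2 * (a ^ n * b ^ n) * (a * b)
        = c ^ n.choose 2 * (a ^ n * (b ^ n * a) * b) := by simp only [mul_assoc]
      _ = c ^ n.choose 2 * (a ^ n * c ^ n * (a * b ^ n * b)) := by rw [h1]; simp only [mul_assoc]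
      _ = _ := by rw [← (ha.pow_pow n n).eq, pow_succ a, pow_succ b]; simp only [mul_assoc]

variable {K G V : Type*} [Field K] [Group G] [AddCommGroup V] [Module K V] [DistribMulAction G V]
  {ι : Kˣ →* G}

/-- The normal subgroup `E` of symplectic type. -/
structure EData (V : Type*) [AddCommGroup V] [Module K V] [DistribMulAction G V] (ι : Kˣ →* G)
    (E : Subgroup G) : Prop extends Setup V ι where
  nt : Nontrivial V
  normalE : E.Normal
  le : ∀ u, ι u ∈ E
  cent : ∀ e ∈ E, ∀ u, e * ι u = ι u * e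
  comm : ∀ a ∈ E, ∀ b ∈ E, ∃ u, a * b = ι u * (b * a)
  cc : ∀ g, (∀ u, g * ι u = ι u * g) → (∀ e ∈ E, g * e = e * g) → g ∈ ι.range

theorem Setup.exists_eData [Finite G] [Group.IsSolvable G] [Nontrivial V] (h : Setup V ι) :
    ∃ E, EData V ι E := by
  have hn := h.normal
  obtain ⟨E, hUE, ⟨hE1, hE2, hE3⟩, hmax⟩ := Finite.exists_le_maximal
    (p := fun E : Subgroup G => E.Normal ∧ E ≤ centralizer (ι.range : Set G) ∧ ⁅E, E⁆ ≤ ι.range)
    (a := ι.range) ⟨hn, by
      rintro _ ⟨u, rfl⟩ _ ⟨v, rfl⟩; rw [← map_mul, ← map_mul, mul_comm], by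
      exact commutator_le_left _ _⟩
  refine ⟨E, h, inferInstance, hE1, fun u => hUE ⟨u, rfl⟩, fun e he u => (hE2 he _ ⟨u, rfl⟩).symm,
    fun a ha b hb => ?_, fun g h1 h2 => ?_⟩
  · obtain ⟨u, hu⟩ := hE3 (commutator_mem_commutator ha hb)
    exact ⟨u, by rw [hu, commutatorElement_def]; group⟩
  · by_contra hg
    let M : Subgroup G := centralizer (ι.range : Set G) ⊓ centralizer (E : Set G)
    have hM : M.Normal := inferInstance
    have hlt : ι.range < M := by
      refine lt_of_le_of_ne (fun x hx => ⟨hE2 (hUE hx), fun e he => (hE2 he x hx).symm⟩) fun hc => hg ?_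
      rw [hc]
      exact ⟨by rintro _ ⟨u, rfl⟩; exact (h1 u).symm, fun e he => (h2 e he).symm⟩
    obtain ⟨N, hN, hNM⟩ := GT.exists_isChief_le hn hM hlt
    have hNn := hN.normal_right
    have hNc := hN.commutator_le_of_isSolvable
    have hle : E ⊔ N ≤ E := hmax ⟨inferInstance, sup_le hE2 (hNM.trans inf_le_left), by
      rw [commutator_le]
      intro x hx y hy
      rw [← SetLike.mem_coe, mul_normal] at hx hy
      obtain ⟨e, he, n, hn', rfl⟩ := hx
      obtain ⟨e', he', n', hn'', rfl⟩ := hy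
      have a1 : Commute e n := (hNM hn').2 e he
      have a2 : Commute e n' := (hNM hn'').2 e he
      have a3 : Commute e' n := (hNM hn').2 e' he'
      have a4 : Commute e' n' := (hNM hn'').2 e' he'
      have a5 : Commute ⁅n, n'⁆ e := ((hNM (commutator_le_left N N
        (commutator_mem_commutator hn' hn''))).2 e he).symm
      have a6 : Commute ⁅n, n'⁆ e' := ((hNM (commutator_le_left N N
        (commutator_mem_commutator hn' hn''))).2 e' he').symm
      have : ⁅e * n, e' * n'⁆ = ⁅n, n'⁆ * ⁅e, e'⁆ := by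
        calc ⁅e * n, e' * n'⁆ = e * (n * e') * (n' * n⁻¹) * (e⁻¹ * n'⁻¹) * e'⁻¹ := by
              rw [commutatorElement_def]; group
          _ = e * e' * ⁅n, n'⁆ * e⁻¹ * e'⁻¹ := by
              rw [← a3.eq, a2.inv_inv.eq, commutatorElement_def]; group
          _ = _ := by rw [← (a5.mul_right a6).eq, commutatorElement_def e]; group
      simp only [this]
      exact mul_mem (hNc (commutator_mem_commutator hn' hn''))
        (hE3 (commutator_mem_commutator he he'))⟩ le_sup_left
    have hNE : N ≤ E := le_sup_right.trans hle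
    exact hN.lt.not_ge (h.max N hNn (fun a ha b hb => (hNM hb).2 a (hNE ha)) hN.le)

namespace EData

variable {E : Subgroup G} (h : EData V ι E)
include h

theorem ι_inj : Injective ι := by
  rw [injective_iff_map_eq_one]
  intro u hu
  have := h.nt
  obtain ⟨v, hv⟩ := exists_ne (0 : V)
  have h1 := h.smul u v
  rw [hu, one_smul] at h1
  have h2 : ((u : K) - 1) • v = 0 := by rw [sub_smul, ← h1, one_smul, sub_self]
  exact Units.ext (sub_eq_zero.1 ((smul_eq_zero.1 h2).resolve_right hv))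

theorem lin {g : G} (hg : ∀ u, g * ι u = ι u * g) (c : K) (v : V) : g • c • v = c • g • v := by
  by_cases hc : c = 0
  · simp [hc]
  · rw [show c = (Units.mk0 c hc : Kˣ) from rfl, ← h.smul, ← h.smul, ← mul_smul, hg, mul_smul]

theorem linE {g : G} (hg : g ∈ E) (c : K) (v : V) : g • c • v = c • g • v :=
  h.lin (h.cent g hg) c v

theorem eq_of_smul {u u' : Kˣ} {v : V} (hv : v ≠ 0) (huv : ι u • v = ι u' • v) : u = u' := by
  rw [h.smul, h.smul] at huv
  exact Units.ext (smul_left_injective K hv huv)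

theorem eq_one_of_fix {g : G} (hg : g ∈ ι.range) {v : V} (hv : v ≠ 0) (hgv : g • v = v) :
    g = 1 := by
  obtain ⟨u, rfl⟩ := hg
  rw [h.eq_of_smul (u := u) (u' := 1) hv (by simpa using hgv), map_one]

/-- the commutator pairing -/
noncomputable def cm (a b : E) : Kˣ := (h.comm a a.2 b b.2).choose

theorem cm_spec (a b : E) : (a : G) * b = ι (h.cm a b) * (b * a) :=
  (h.comm a a.2 b b.2).choose_spec

theorem cm_eq {a b : E} {u : Kˣ} (hu : (a : G) * b = ι u * (b * a)) : h.cm a b = u :=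
  h.ι_inj (mul_right_cancel ((h.cm_spec a b).symm.trans hu))

theorem cm_eq_one_iff {a b : E} : h.cm a b = 1 ↔ (a : G) * b = b * a :=
  ⟨fun h1 => by simpa [h1] using h.cm_spec a b, fun h1 => h.cm_eq (by simpa using h1)⟩

theorem cm_mul_left (a a' b : E) : h.cm (a * a') b = h.cm a b * h.cm a' b := by
  apply h.cm_eq
  rw [coe_mul, mul_assoc, h.cm_spec a' b, ← mul_assoc, h.cent _ a.2, mul_assoc, ← mul_assoc (a : G),
    h.cm_spec a b, mul_comm (h.cm a b), map_mul]
  simp only [mul_assoc]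

theorem cm_mul_right (a b b' : E) : h.cm a (b * b') = h.cm a b * h.cm a b' := by
  apply h.cm_eq
  rw [coe_mul, ← mul_assoc, h.cm_spec a b, mul_assoc, mul_assoc, h.cm_spec a b', map_mul,
    ← mul_assoc (b : G), h.cent _ b.2]
  simp only [mul_assoc]

/-- the commutator pairing as a bihomomorphism -/
noncomputable def β : E →* E →* Kˣ :=
  MonoidHom.mk' (fun a => MonoidHom.mk' (h.cm a) (h.cm_mul_right a))
    fun a a' => MonoidHom.ext fun b => h.cm_mul_left a a' b

theorem β_spec (a b : E) : (a : G) * b = ι (h.β a b) * (b * a) := h.cm_spec a b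

theorem β_eq {a b : E} {u : Kˣ} (hu : (a : G) * b = ι u * (b * a)) : h.β a b = u := h.cm_eq hu

theorem β_eq_one_iff {a b : E} : h.β a b = 1 ↔ (a : G) * b = b * a := h.cm_eq_one_iff

theorem β_self (a : E) : h.β a a = 1 := h.β_eq_one_iff.2 rfl

theorem β_swap (a b : E) : h.β b a = (h.β a b)⁻¹ := by
  apply h.β_eq
  rw [h.β_spec a b, map_inv, inv_mul_cancel_left]

theorem β_smul (a b : E) (v : V) : (a : G) • (b : G) • v = (h.β a b : K) • (b : G) • (a : G) • v := by
  rw [← mul_smul, h.β_spec, mul_smul, h.smul, mul_smul]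

theorem mem_range_of_central {a : G} (ha : a ∈ E) (hc : ∀ e ∈ E, a * e = e * a) : a ∈ ι.range :=
  h.cc a (h.cent a ha) hc

theorem β_of_mem_range {a : E} (ha : (a : G) ∈ ι.range) (b : E) : h.β a b = 1 := by
  obtain ⟨u, hu⟩ := ha
  rw [h.β_eq_one_iff, ← hu, h.cent _ b.2]

theorem iso {S : Set G} (hS : ∀ a ∈ S, a ∈ E)
    (hinv : ∀ g : G, ∀ a ∈ S, ∃ a' ∈ S, ∃ u, g * a * g⁻¹ = a' * ι u)
    (hc : ∀ a ∈ S, ∀ b ∈ S, a * b = b * a) : ∀ a ∈ S, a ∈ ι.range := by
  have hn : (closure (S ∪ ι.range)).Normal := by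
    refine ⟨fun x hx g => ?_⟩
    have : closure (S ∪ ι.range) ≤ (closure (S ∪ ι.range)).comap (MulAut.conj g).toMonoidHom := by
      rw [Subgroup.closure_le]
      rintro a (ha | ha)
      · obtain ⟨a', ha', u, hu⟩ := hinv g a ha
        change g * a * g⁻¹ ∈ Subgroup.closure _
        rw [hu]
        exact mul_mem (Subgroup.subset_closure (Or.inl ha'))
          (Subgroup.subset_closure (Or.inr ⟨u, rfl⟩))
      · exact Subgroup.subset_closure (Or.inr (h.normal.conj_mem a ha g))
    exact this hx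
  have hcomm : IsMulCommutative (closure (S ∪ ι.range)) := isMulCommutative_closure (by
    rintro a (ha | ⟨u, rfl⟩) b (hb | ⟨v, rfl⟩)
    · exact hc a ha b hb
    · exact h.cent a (hS a ha) v
    · exact (h.cent b (hS b hb) u).symm
    · rw [← map_mul, ← map_mul, mul_comm])
  intro a ha
  exact h.max _ hn (GT.isMulCommutative_iff_forall.1 hcomm)
    (fun x hx => Subgroup.subset_closure (Or.inr hx)) (Subgroup.subset_closure (Or.inl ha))

theorem mem_range_of_conj {a : G} (ha : a ∈ E) (hc : ∀ g : G, ∃ u, g * a * g⁻¹ = a * ι u) :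
    a ∈ ι.range :=
  h.iso (S := {a}) (by simpa using ha) (by
    rintro g _ rfl; exact ⟨_, rfl, hc g⟩) (by rintro _ rfl _ rfl; rfl) a rfl

theorem mul_pow (a b : E) (n : ℕ) :
    ((a : G) * b) ^ n = ι (h.β b a ^ n.choose 2) * (a ^ n * b ^ n) := by
  rw [map_pow]
  exact mul_pow_of_central (h.β_spec b a) (h.cent _ a.2 _).symm (h.cent _ b.2 _).symm n

theorem pow_mem_range_iff (a : E) (n : ℕ) : (a : G) ^ n ∈ ι.range ↔ ∀ b, h.β a b ^ n = 1 := by
  constructor
  · intro ha b
    have := h.β_of_mem_range (a := a ^ n) ha b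
    simpa using this
  · intro hb
    apply h.mem_range_of_central (pow_mem a.2 n)
    intro e he
    exact (h.β_eq_one_iff (a := a ^ n) (b := ⟨e, he⟩)).1 (by simpa using hb ⟨e, he⟩)

theorem pow_mem_range_of_sq {m : ℕ} (hm : ∀ a ∈ E, a ^ (m * m) ∈ ι.range) :
    ∀ a ∈ E, a ^ m ∈ ι.range := by
  intro a ha
  apply h.iso (S := {x | ∃ a ∈ E, a ^ m = x}) _ _ _ _ ⟨a, ha, rfl⟩
  · rintro _ ⟨a, ha, rfl⟩; exact pow_mem ha m
  · rintro g _ ⟨a, ha, rfl⟩
    exact ⟨_, ⟨_, h.normalE.conj_mem a ha g, rfl⟩, 1, by simp⟩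
  · rintro _ ⟨a, ha, rfl⟩ _ ⟨b, hb, rfl⟩
    apply (h.β_eq_one_iff (a := ⟨a, ha⟩ ^ m) (b := ⟨b, hb⟩ ^ m)).1
    have := (h.pow_mem_range_iff ⟨a, ha⟩ _).1 (hm a ha) ⟨b, hb⟩
    rw [map_pow, map_pow, MonoidHom.pow_apply, ← pow_mul, this]

theorem pow_eq_one_of [Finite G] {m : ℕ} (hm : ∀ u : Kˣ, u ^ m = 1)
    (hc : ∀ a b, h.β a b ^ m.choose 2 = 1) : ∀ a ∈ E, a ^ m = 1 := by
  have h1 : ∀ a : E, (a : G) ^ m ∈ ι.range := fun a => (h.pow_mem_range_iff a m).2 fun _ => hm _
  choose φ hφ using h1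
  let Φ : E →* Kˣ := MonoidHom.mk' φ fun a b => h.ι_inj (by
    rw [map_mul, hφ, hφ, hφ, coe_mul, h.mul_pow, hc, map_one, one_mul])
  obtain ⟨b, hb⟩ := exists_rep h.β Φ (fun y hy => by
    obtain ⟨u, hu⟩ := h.mem_range_of_central y.2
      (fun e he => ((h.β_eq_one_iff (a := ⟨e, he⟩)).1 (hy _)).symm)
    apply h.ι_inj
    change ι (φ y) = _
    rw [hφ, ← hu, ← map_pow, hm])
  have hb' : ∀ f ∈ E, (b : G) * f = f ^ m * (f * b) := by
    intro f hf
    rw [h.β_spec b ⟨f, hf⟩, hb]
    congr 1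
    exact hφ _
  have hbU : (b : G) ∈ ι.range := by
    apply h.mem_range_of_conj b.2
    intro g
    obtain ⟨u, hu⟩ := h.mem_range_of_central
      (mul_mem (inv_mem b.2) (h.normalE.conj_mem _ b.2 g)) (fun f hf => by
        have a1 := hb' _ (h.normalE.conj_mem _ hf g⁻¹)
        have a2 := hb' f hf
        rw [conj_pow] at a1
        have a3 : g * b * g⁻¹ * f = f ^ m * (f * (g * b * g⁻¹)) := by
          calc g * b * g⁻¹ * f = g * (b * (g⁻¹ * f * g⁻¹⁻¹)) * g⁻¹ := by group
            _ = _ := by rw [a1]; group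
        have a4 : (b : G)⁻¹ * (f ^ m * f) = f * (b : G)⁻¹ := by
          rw [inv_mul_eq_iff_eq_mul, ← mul_assoc, a2]; group
        rw [mul_assoc, a3, ← mul_assoc (f ^ m), ← mul_assoc, a4, mul_assoc])
    exact ⟨u, by rw [hu]; group⟩
  intro a ha
  rw [← hφ ⟨a, ha⟩, show φ ⟨a, ha⟩ = Φ ⟨a, ha⟩ from rfl, ← hb, h.β_of_mem_range hbU, map_one]

end EData

end Base2
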