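import Cfsg.Agent.Lib.Base.Small
import Cfsg.Agent.Lib.Base.ColThree

/-! The quaternion type over the field with three elements. -/

set_option autoImplicit false

namespace Base2

open Function Subgroup

variable {K G V : Type*} [Field K] [Group G] [AddCommGroup V] [Module K V] [DistribMulAction G V]
  {ι : Kˣ →* G} {E : Subgroup G}

namespace EData

variable (h : EData V ι E)

/-- the commutators with two fixed elements -/
noncomputable def π2 (i j : E) : E →* Kˣ × Kˣ := (h.β.flip i).prod (h.β.flip j)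

theorem π2_apply (i j e : E) : h.π2 i j e = (h.β e i, h.β e j) := rfl

theorem Minus.π2_eq {x : V} {i j : E} (q : h.Minus x i j) {a b : E}
    (hab : (a : G) • x = (b : G) • x) : h.π2 i j a = h.π2 i j b := by
  have h1 : b⁻¹ * a ∈ stab E x := by
    change ((b : G)⁻¹ * a) • x = x
    rw [mul_smul, hab, inv_smul_smul]
  have h2 : h.π2 i j (b⁻¹ * a) = 1 :=
    Prod.ext (h.χ_eq_one_iff.1 q.hi _ h1) (h.χ_eq_one_iff.1 q.hj _ h1)
  rw [map_mul, map_inv, inv_mul_eq_one] at h2
  exact h2.symm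

theorem good_minus_three [Finite G] {p : ℕ} [Fact p.Prime] [CharP K p] (hG : ¬ p ∣ Nat.card G)
    (h2 : (2 : K) ≠ 0) (hK : ∀ u : Kˣ, u ^ 2 = 1) {x : V} (hx : x ≠ 0) {y0 : ZMod p → V}
    (hb : h.IsBase p x y0) {i j : E} (q : h.Minus x i j) (hA : Nat.card (stab E x →* Kˣ) ≠ 4) :
    Good (ZMod p) G V := by
  classical
  have := finite_hom (stab E x) K
  have hn := neg_one_unit_ne h2
  have hji : h.β j i = -1 := by rw [h.β_swap, q.ij]; simp
  obtain ⟨col, ν, hc, hν, gen, det, reg⟩ := exists_col_three (A := stab E x →* Kˣ) Kˣ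
    (fun a => by ext d; exact congrArg Units.val ((pow_two _).symm.trans (hK _))) hA
    (C := Kˣ × Kˣ) (fun c => by rw [← pow_two]; exact Prod.ext (hK _) (hK _))
    (α := h.π2 i j i) (γ := h.π2 i j j) (by simp [π2_apply, q.ij, hn])
    (by simp [π2_apply, hji, hn]) (by simp [π2_apply, hji, h.β_self, hn.symm])
  have hex : ∀ a, ∃ t, h.χ x t = a ∧ h.π2 i j t = ν a := by
    intro a
    obtain ⟨e, he⟩ := h.χ_surjective hx a
    obtain ⟨c, hc, h1, h3⟩ := h.adjust q.ij (hK (h.β e i)) (hK (h.β e j))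
    have hc1 : h.χ x c = 1 := by
      rcases hc with rfl | rfl | rfl | rfl
      exacts [map_one _, q.hi, q.hj, h.χ_mul q.hi q.hj]
    obtain ⟨c', h4, h5⟩ : ∃ c', h.χ x c' = 1 ∧ h.π2 i j c' = ν a := by
      rcases hν a with h4 | h4 | h4 | h4
      exacts [⟨1, map_one _, by rw [h4, map_one]⟩, ⟨i, q.hi, h4.symm⟩, ⟨j, q.hj, h4.symm⟩,
        ⟨i * j, h.χ_mul q.hi q.hj, by rw [h4, map_mul]⟩]
    refine ⟨c' * c⁻¹ * e, ?_, ?_⟩
    · rw [map_mul, h.χ_mul h4 (h.χ_inv hc1), he]; exact one_mul a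
    · rw [mul_assoc, map_mul, h5, show h.π2 i j (c⁻¹ * e) = 1 from Prod.ext h1 h3, mul_one]
  choose t ht hπ using hex
  have hw : ∀ a, (if col a = 0 then x else 0) ∈ h.W x := fun a => by
    split_ifs
    exacts [h.self_mem_W x, zero_mem _]
  obtain ⟨y, hy⟩ := h.gl1 hG hb t ht _ hw
  refine ⟨fun _ => x, y, fun s s' g h1 h3 => ?_⟩
  obtain ⟨rfl, hlin, hfix, L, hL, hLχ, hg⟩ := hy s s' g h1 h3
  have hcE : ∀ e : E, (h.cE g e : G) • x = g • (e : G) • x := fun e => by rw [← h.cE_smul g, h1]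
  let H : E →* Kˣ × Kˣ := (h.π2 i j)⁻¹ * (h.π2 i j).comp (h.cE g)
  let H' := (h.χ x).liftOfSurjective (h.χ_surjective hx) ⟨H, fun n hn => by
    change (h.π2 i j n)⁻¹ * h.π2 i j (h.cE g n) = 1
    rw [q.π2_eq h ((hcE n).trans (hfix n hn)), inv_mul_cancel]⟩
  have hH : ∀ e, H' (h.χ x e) = (h.π2 i j e)⁻¹ * h.π2 i j (h.cE g e) := fun e =>
    MonoidHom.liftOfRightInverse_comp_apply _ _ _ _ e
  have hcol : ∀ a, a ≠ 1 → col (L a) = col a := by
    intro a ha
    have := hg a ha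
    rcases hc a with h4 | h4 <;> rcases hc (L a) with h5 | h5 <;>
      simp [h4, h5, smul_eq_zero_iff_eq, hx, eq_comm (a := (0 : V))] at this ⊢
  have hid := reg L H' hL hcol fun a ha h0 => by
    have := hg a ha
    rw [hcol a ha, if_pos h0, ← hcE] at this
    conv_rhs => rw [← hπ, ← ht a, hH, ht]
    rw [← hπ, ← q.π2_eq h this, mul_inv_cancel_left]
  have := h.gl2 hx h1 hlin hfix (fun e => by rw [hLχ, hid]) t ht _ hw
    (fun a ha => by simpa only [hid] using hg a ha) col (fun S hS _ => gen S hS) det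
    (fun a ha => if_pos ha) (fun a a' ha => by rcases hc a with h4 | h4 <;> simp [h4] at ha)
    (fun a ha => by rw [if_pos ((hc a).resolve_right ha)]; exact hx)
  exact ⟨rfl, by simp [this]⟩

end EData

end Base2
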