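import Mathlib

/-! Finite checks in the four-dimensional representation of the two-qubit Pauli group. -/

set_option autoImplicit false
set_option maxRecDepth 100000
set_option synthInstance.maxSize 4000
set_option synthInstance.maxHeartbeats 400000

namespace Base2

/-- coordinate vectors -/
abbrev V4 (R : Type) := R × R × R × R

/-- Pauli elements -/
abbrev Pl (R : Type) := R × Bool × Bool × Bool × Bool

variable {R : Type} [Mul R] [Add R] [Neg R] [Zero R] [One R]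

/-- first shift -/
def pX1 (v : V4 R) : V4 R := (v.2.2.1, v.2.2.2, v.1, v.2.1)
/-- second shift -/
def pX2 (v : V4 R) : V4 R := (v.2.1, v.1, v.2.2.2, v.2.2.1)
/-- first sign -/
def pZ1 (v : V4 R) : V4 R := (v.1, v.2.1, -v.2.2.1, -v.2.2.2)
/-- second sign -/
def pZ2 (v : V4 R) : V4 R := (v.1, -v.2.1, v.2.2.1, -v.2.2.2)
/-- scalar multiplication -/
def sm4 (s : R) (v : V4 R) : V4 R := (s * v.1, s * v.2.1, s * v.2.2.1, s * v.2.2.2)
/-- addition -/
def ad4 (v w : V4 R) : V4 R := (v.1 + w.1, v.2.1 + w.2.1, v.2.2.1 + w.2.2.1, v.2.2.2 + w.2.2.2)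
/-- optional application -/
def opt {α : Type*} (b : Bool) (f : α → α) (v : α) : α := cond b (f v) v

/-- action of a Pauli element -/
def pact (P : Pl R) (v : V4 R) : V4 R :=
  sm4 P.1 (opt P.2.1 pX1 (opt P.2.2.1 pX2 (opt P.2.2.2.1 pZ1 (opt P.2.2.2.2 pZ2 v))))

/-- the regular vector -/
def x4 : V4 R := (0, 1, 1, 1)

/-- the linear map determined by the images of the first shift and sign -/
def lin4 (h : R) (a b : Pl R) (v : V4 R) : V4 R :=
  ad4 (ad4 (sm4 (h * (-v.1 + v.2.1 + v.2.2.1)) x4)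
    (sm4 (h * (v.1 + -v.2.2.1 + v.2.2.2)) (pact a x4)))
    (ad4 (sm4 (h * (-v.1 + v.2.1 + -v.2.2.1)) (pact b x4))
    (sm4 (h * (-v.1 + -v.2.2.1 + v.2.2.2)) (pact a (pact b x4))))

/-- standard basis -/
def bas4 : List (V4 R) := [(1, 0, 0, 0), (0, 1, 0, 0), (0, 0, 1, 0), (0, 0, 0, 1)]

/-- first relations -/
def Rel1 (a b : Pl R) : Prop :=
  pact b (pact b x4) = x4 ∧ pact a (pact a x4) = x4 ∧
    pact a (pact b x4) = sm4 (-1) (pact b (pact a x4))

/-- second relations -/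
def Rel2 (h : R) (a b : Pl R) : Prop :=
  (∃ c : Pl R, ∀ e ∈ bas4, lin4 h a b (pX2 e) = pact c (lin4 h a b e)) ∧
    ∃ c : Pl R, ∀ e ∈ bas4, lin4 h a b (pZ2 e) = pact c (lin4 h a b e)

instance rel1Dec [DecidableEq R] (a b : Pl R) : Decidable (Rel1 a b) := by
  unfold Rel1; infer_instance

instance rel2Dec [DecidableEq R] [Fintype R] (h : R) (a b : Pl R) : Decidable (Rel2 h a b) := by
  unfold Rel2; infer_instance

/-- the colours -/
def vec4 : Fin 4 → V4 R := ![x4, (0, 0, 0, 1), (1, 1, 1, 1), (0, 0, 0, 0)]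

/-- facts on the colours -/
def ColFacts (R : Type) [Mul R] [Neg R] [Zero R] [One R] : Prop :=
  (∀ P : Pl R, pact P x4 = x4 → ∀ e ∈ bas4, pact P e = e) ∧
  (∀ P : Pl R, P.1 ≠ 0 → ∀ i j, pact P (vec4 i) = vec4 j → i = j) ∧
  (∀ P : Pl R, pact P (vec4 1) = vec4 1 → ∀ u, u ≠ 0 → pact P (vec4 2) = sm4 u (vec4 2) →
    pact P x4 = x4) ∧ ∀ i, i ≠ 3 → (vec4 i : V4 R) ≠ (0, 0, 0, 0)

theorem colFacts_three : ColFacts (Fin 3) := by
  unfold ColFacts; decide +kernel

theorem colFacts_five : ColFacts (Fin 5) := by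
  unfold ColFacts; decide +kernel

/-- evaluation of the argument before continuing -/
def force5 {α : Type} (x : Fin 5) (k : Fin 5 → α) : α :=
  if x = 0 then k 0 else if x = 1 then k 1 else if x = 2 then k 2 else if x = 3 then k 3 else
    if x = 4 then k 4 else k x

theorem force5_eq {α : Type} (x : Fin 5) (k : Fin 5 → α) : force5 x k = k x := by
  unfold force5; split_ifs <;> simp [*]

/-- iteration with evaluated arguments -/
def it5 (f : V4 (Fin 5) → V4 (Fin 5)) : ℕ → V4 (Fin 5) → V4 (Fin 5)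
  | 0, v => v
  | n + 1, v => force5 (f v).1 fun a => force5 (f v).2.1 fun b => force5 (f v).2.2.1 fun c =>
      force5 (f v).2.2.2 fun d => it5 f n (a, b, c, d)

theorem it5_eq (f : V4 (Fin 5) → V4 (Fin 5)) (n : ℕ) : ∀ v, it5 f n v = f^[n] v := by
  induction n with
  | zero => intro s; rfl
  | succ n ih => intro s; simp only [it5, force5_eq, ih, Function.iterate_succ_apply]

/-- Boolean equality test -/
def eq4 {n : ℕ} (v w : V4 (Fin n)) : Bool := match v, w with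
  | (a, b, c, d), (a', b', c', d') => a == a' && b == b' && c == c' && d == d'

theorem eq4_iff {n : ℕ} {v w : V4 (Fin n)} : eq4 v w ↔ v = w := by
  obtain ⟨a, b, c, d⟩ := v
  obtain ⟨a', b', c', d'⟩ := w
  simp [eq4, and_assoc]

theorem check_five' : ∀ a : Pl (Fin 5), pact a (pact a x4) = x4 → ∀ b, Rel1 a b →
    (lin4 3 a b (1, 0, 1, 3)).1 = 1 → ∀ μ : Fin 5,
    lin4 3 a b (1, 0, 1, 3) = ad4 (1, 0, 1, 3) (sm4 μ x4) → Rel2 3 a b →
    bas4.all (fun e => eq4 (it5 (lin4 3 a b) 5 e) e) := by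
  decide +kernel

theorem check_five (a b : Pl (Fin 5)) (h : Rel1 a b) (μ : Fin 5)
    (h1 : lin4 3 a b (1, 0, 1, 3) = ad4 (1, 0, 1, 3) (sm4 μ x4)) (h2 : Rel2 3 a b) :
    ∀ e ∈ bas4, (lin4 3 a b)^[5] e = e := by
  intro e he
  rw [← it5_eq]
  exact eq4_iff.1 (List.all_eq_true.1
    (check_five' a h.2.1 b h (by rw [h1]; simp [ad4, sm4, x4]) μ h1 h2) e he)

/-- the singular vectors -/
def sv3 (i : Fin 9) : V4 (Fin 3) :=
  match i with
  | 0 => (0, 2, 1, 2) | 1 => (0, 1, 2, 2) | 2 => (0, 2, 2, 1) | 3 => (1, 0, 1, 1)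
  | 4 => (1, 0, 2, 2) | 5 => (1, 1, 0, 1) | 6 => (1, 2, 0, 2) | 7 => (1, 1, 1, 0)
  | 8 => (1, 2, 2, 0)

/-- the second base vectors -/
def sy3 (i : Fin 9) : V4 (Fin 3) :=
  match i with
  | 0 => (1, 0, 0, 1) | 1 => (1, 0, 0, 1) | 2 => (1, 0, 1, 0) | 3 => (0, 0, 0, 1)
  | 4 => (0, 0, 0, 1) | 5 => (0, 0, 0, 1) | 6 => (0, 0, 0, 1) | 7 => (0, 0, 1, 0)
  | 8 => (0, 0, 1, 0)

/-- equality up to sign -/
def pm (v w : V4 (Fin 3)) : Bool := eq4 v w || eq4 v (sm4 (-1) w)

theorem pm_iff {v w : V4 (Fin 3)} : pm v w ↔ v = w ∨ v = sm4 (-1) w := by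
  simp [pm, eq4_iff]

/-- the permutation induced on the singular vectors -/
def nxtO (a b : Pl (Fin 3)) (s : Fin 9) : Option (Fin 9) :=
  (List.finRange 9).find? fun s' => pm (lin4 2 a b (sv3 s)) (sv3 s')

/-- iteration with evaluated arguments -/
def itO {α : Type} (F : α → Option α) : ℕ → α → α
  | 0, s => s
  | n + 1, s => match F s with
    | none => itO F n s
    | some s' => itO F n s'

theorem itO_eq {α : Type} (F : α → Option α) (n : ℕ) :
    ∀ s, itO F n s = (fun s => (F s).getD s)^[n] s := by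
  induction n with
  | zero => intro s; rfl
  | succ n ih =>
    intro s
    rw [Function.iterate_succ_apply, ← ih, itO]
    split <;> simp [*]

theorem check_three : ∀ a b : Pl (Fin 3), Rel1 a b → Rel2 2 a b →
    ∀ s : Fin 9, pm (lin4 2 a b (sv3 s)) (sv3 ((nxtO a b s).getD s)) ∧
      itO (nxtO a b) 12 s = s ∧
      (pm (lin4 2 a b (sv3 s)) (sv3 s) → ∀ μ : Fin 3,
        eq4 (lin4 2 a b (sy3 s)) (ad4 (sy3 s) (sm4 μ x4)) →
          bas4.all fun e => eq4 (lin4 2 a b e) e) := by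
  decide +kernel

theorem sv3_inj : ∀ s s' : Fin 9, pm (sv3 s) (sv3 s') → s = s' := by
  decide +kernel

end Base2
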