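import Cfsg.Agent.Lib.Base.Quat
import Cfsg.Agent.Lib.Base.TwoCheck

/-! The base data over the fields with three and five elements. -/

set_option autoImplicit false
set_option linter.unusedSectionVars false

namespace Base2

open Function Subgroup
open scoped Pointwise

variable {K G V : Type*} [Field K] [Group G] [AddCommGroup V] [Module K V] [DistribMulAction G V]
  {ι : Kˣ →* G} {E : Subgroup G}

theorem unit_sq_eq_one {u : Kˣ} (hu : u ^ 2 = 1) : u = 1 ∨ u = -1 := by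
  have : (u : K) ^ 2 = 1 := by rw [← Units.val_pow_eq_pow_val, hu, Units.val_one]
  exact (sq_eq_one_iff.1 this).imp (fun h => Units.ext h) fun h => Units.ext h

namespace EData

variable (h : EData V ι E)

theorem reduce_pair (hsq : ∀ a b, h.β a b ^ 2 = 1) {D : Subgroup E} {X Z : E} (hZ : Z ∈ D)
    (hZX : h.β Z X = -1) {n : E} (hn : ∀ d ∈ D, h.β d X = 1 → h.β d n = 1) :
    ∃ (s : Bool) (m : E), n = cond s X 1 * m ∧ ∀ d ∈ D, h.β d m = 1 := by
  have key : ∀ d ∈ D, h.β d X = -1 → h.β d n = h.β Z n := by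
    intro d hd h1
    have := hn (d * Z⁻¹) (mul_mem hd (inv_mem hZ)) (by simp [h1, hZX])
    simpa [mul_inv_eq_one] using this
  rcases unit_sq_eq_one (hsq Z n) with h1 | h1
  · refine ⟨false, n, by simp, fun d hd => ?_⟩
    rcases unit_sq_eq_one (hsq d X) with h2 | h2
    · exact hn d hd h2
    · rw [key d hd h2, h1]
  · refine ⟨true, X⁻¹ * n, by simp, fun d hd => ?_⟩
    rcases unit_sq_eq_one (hsq d X) with h2 | h2
    · simp [h2, hn d hd h2]
    · simp [h2, key d hd h2, h1]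

/-- Two hyperbolic pairs for a Lagrangian stabiliser. -/
structure Model (z : V) (X1 X2 Z1 Z2 : E) {R : Type} [Mul R] [Add R] [Neg R] [Zero R] [One R]
    (f : R → K) (hh : R) : Prop where
  ne : z ≠ 0
  two : (2 : K) ≠ 0
  lag : ∀ n : E, h.χ z n = 1 → ∃ u : Kˣ, (n : G) • z = (u : K) • z
  sq : ∀ a b, h.β a b ^ 2 = 1
  x1 : X1 * X1 = 1
  x2 : X2 * X2 = 1
  z1 : Z1 ∈ stab E z
  z2 : Z2 ∈ stab E z
  b11 : h.β Z1 X1 = -1
  b12 : h.β Z1 X2 = 1
  b21 : h.β Z2 X1 = 1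
  b22 : h.β Z2 X2 = -1
  bx : h.β X1 X2 = 1
  f_add : ∀ a b, f (a + b) = f a + f b
  f_mul : ∀ a b, f (a * b) = f a * f b
  f_neg : ∀ a, f (-a) = -f a
  f_zero : f 0 = 0
  f_one : f 1 = 1
  f_bij : Bijective f
  nat : ∀ c : K, ∃ n : ℕ, c = n
  half : 2 * f hh = 1
  col : ColFacts R

/-- the coordinate map -/
def psi4 {R : Type} (f : R → K) (z : V) (X1 X2 : G) (v : V4 R) : V :=
  f v.1 • z + f v.2.1 • X2 • z + f v.2.2.1 • X1 • z + f v.2.2.2 • X1 • X2 • z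

namespace Model

variable {h} {z : V} {X1 X2 Z1 Z2 : E} {R : Type} [Mul R] [Add R] [Neg R] [Zero R] [One R]
  {f : R → K} {hh : R} (m : h.Model z X1 X2 Z1 Z2 f hh)
include m

local notation "ψ" => psi4 f z (X1 : G) (X2 : G)

theorem ψ_ad (v w : V4 R) : ψ (ad4 v w) = ψ v + ψ w := by
  simp only [psi4, ad4, m.f_add, act_eq G]; module

theorem ψ_sm (s : R) (v : V4 R) : ψ (sm4 s v) = f s • ψ v := by
  simp only [psi4, sm4, m.f_mul, act_eq G]; module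

theorem x1x1 (v : V) : (X1 : G) • (X1 : G) • v = v := by
  rw [← mul_smul, ← coe_mul, m.x1]; simp

theorem x2x2 (v : V) : (X2 : G) • (X2 : G) • v = v := by
  rw [← mul_smul, ← coe_mul, m.x2]; simp

theorem x2x1 (v : V) : (X2 : G) • (X1 : G) • v = (X1 : G) • (X2 : G) • v := by
  rw [h.β_smul X1, m.bx]; simp

theorem ψ_X1 (v : V4 R) : (X1 : G) • ψ v = ψ (pX1 v) := by
  simp only [psi4, pX1, smul_add, h.linE X1.2, m.x1x1]; abel

theorem ψ_X2 (v : V4 R) : (X2 : G) • ψ v = ψ (pX2 v) := by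
  simp only [psi4, pX2, smul_add, h.linE X2.2, m.x2x2, m.x2x1]; abel

theorem ψ_eig {n : E} {u : K} (hn : (n : G) • z = u • z) (v : V4 R) :
    (n : G) • ψ v = u • (f v.1 • z + (h.β n X2 : K) • f v.2.1 • (X2 : G) • z +
      (h.β n X1 : K) • f v.2.2.1 • (X1 : G) • z +
      ((h.β n X1 : K) * h.β n X2) • f v.2.2.2 • (X1 : G) • (X2 : G) • z) := by
  simp only [psi4, smul_add, h.linE n.2, h.β_smul n X1, h.β_smul n X2, hn, h.linE X1.2,
    h.linE X2.2]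
  simp only [act_eq G]; module

theorem ψ_diag {n : E} {s : R} (hn : (n : G) • z = f s • z) : ∃ r1 r2 : Bool, ∀ v : V4 R,
    (n : G) • ψ v = f s • ψ (opt r1 pZ1 (opt r2 pZ2 v)) := by
  rcases unit_sq_eq_one (m.sq n X1) with h1 | h1 <;> rcases unit_sq_eq_one (m.sq n X2) with h2 | h2
  · exact ⟨false, false, fun v => by rw [m.ψ_eig hn, h1, h2]; simp [opt, psi4]⟩
  · exact ⟨false, true, fun v => by rw [m.ψ_eig hn, h1, h2]; simp [opt, psi4, pZ2, m.f_neg]⟩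
  · exact ⟨true, false, fun v => by rw [m.ψ_eig hn, h1, h2]; simp [opt, psi4, pZ1, m.f_neg]⟩
  · exact ⟨true, true, fun v => by rw [m.ψ_eig hn, h1, h2]; simp [opt, psi4, pZ1, pZ2, m.f_neg]⟩

theorem ψ_Z1 (v : V4 R) : (Z1 : G) • ψ v = ψ (pZ1 v) := by
  rw [m.ψ_eig (u := 1) (by rw [one_smul]; exact m.z1), m.b11, m.b12]; simp [psi4, pZ1, m.f_neg]

theorem ψ_Z2 (v : V4 R) : (Z2 : G) • ψ v = ψ (pZ2 v) := by
  rw [m.ψ_eig (u := 1) (by rw [one_smul]; exact m.z2), m.b21, m.b22]; simp [psi4, pZ2, m.f_neg]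

theorem ψ_inj : Injective ψ := by
  have key : ∀ v w : V4 R, ψ v = ψ w → v.1 = w.1 := by
    intro v w hvw
    have e1 := congrArg (fun y => (Z1 : G) • y) hvw
    have e2 := congrArg (fun y => (Z2 : G) • y) hvw
    have e3 := congrArg (fun y => (Z2 : G) • y) e1
    simp only [m.ψ_Z1, m.ψ_Z2] at e1 e2 e3
    simp only [psi4, pZ1, pZ2, m.f_neg] at hvw e1 e2 e3
    have e4 : (2 * 2 * (f v.1 - f w.1)) • z = 0 := by
      linear_combination (norm := ((try simp only [act_eq G]); module)) hvw + e1 + e2 + e3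
    have := (smul_eq_zero.1 e4).resolve_right m.ne
    simp only [mul_eq_zero, m.two, or_self, false_or, sub_eq_zero] at this
    exact m.f_bij.1 this
  intro v w hvw
  have e1 := congrArg (fun y => (X1 : G) • y) hvw
  have e2 := congrArg (fun y => (X2 : G) • y) hvw
  have e3 := congrArg (fun y => (X2 : G) • y) e1
  simp only [m.ψ_X1, m.ψ_X2] at e1 e2 e3
  exact Prod.ext (key _ _ hvw) (Prod.ext (key _ _ e2) (Prod.ext (key _ _ e1) (key _ _ e3)))

theorem ψ_zero : ψ (0, 0, 0, 0) = 0 := by simp [psi4, m.f_zero]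

theorem ψ_ext {g : G} (hg : ∀ (c : K) (v : V), g • c • v = c • g • v)
    (hb : ∀ e ∈ bas4, g • ψ e = ψ e) (v : V4 R) : g • ψ v = ψ v := by
  have e0 := hb (1, 0, 0, 0) (by simp [bas4])
  have e1 := hb (0, 1, 0, 0) (by simp [bas4])
  have e2 := hb (0, 0, 1, 0) (by simp [bas4])
  have e3 := hb (0, 0, 0, 1) (by simp [bas4])
  simp only [psi4, m.f_zero, m.f_one, zero_smul, one_smul, add_zero, zero_add] at e0 e1 e2 e3
  simp only [psi4, smul_add, hg, e0, e1, e2, e3]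

theorem decomp {n : E} (hn : h.χ (ψ x4) n = 1) :
    ∃ P : Pl R, P.1 ≠ 0 ∧ ∀ v, (n : G) • ψ v = ψ (pact P v) := by
  obtain ⟨s1, n1, rfl, h1⟩ := h.reduce_pair m.sq (D := stab E z ⊓ (h.β.flip X2).ker)
    (X := X1) (Z := Z1) ⟨m.z1, m.b12⟩ m.b11 (n := n) (fun d hd h1 => by
      have : d ∈ stab E (ψ x4) := by
        change (d : G) • ψ x4 = ψ x4
        rw [m.ψ_eig (u := 1) (by rw [one_smul]; exact hd.1), h1, show h.β d X2 = 1 from hd.2]
        simp [psi4]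
      exact DFunLike.congr_fun hn ⟨d, this⟩)
  obtain ⟨s2, n2, rfl, h2⟩ := h.reduce_pair m.sq (D := stab E z) m.z2 m.b22 (n := n1)
    (fun d hd h2 => h1 d ⟨hd, h2⟩)
  obtain ⟨u, hu⟩ := m.lag n2 (MonoidHom.ext fun d => h2 d d.2)
  obtain ⟨s, hs⟩ := m.f_bij.2 u
  obtain ⟨r1, r2, hr⟩ := m.ψ_diag (hs ▸ hu : (n2 : G) • z = f s • z)
  refine ⟨(s, s1, s2, r1, r2), fun h0 => u.ne_zero ?_, fun v => ?_⟩
  · rw [← hs, show s = 0 from h0, m.f_zero]
  · rw [pact, m.ψ_sm, coe_mul, coe_mul, mul_smul, mul_smul, hr, h.linE (cond s2 X2 1).2,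
      h.linE (cond s1 X1 1).2]
    cases s1 <;> cases s2 <;> simp [opt, m.ψ_X1, m.ψ_X2]

theorem x_ne : ψ x4 ≠ 0 := fun h0 => m.col.2.2.2 0 (by decide) (m.ψ_inj (h0.trans m.ψ_zero.symm))

theorem stab_fix {d : E} (hd : d ∈ stab E (ψ x4)) (v : V4 R) : (d : G) • ψ v = ψ v := by
  obtain ⟨P, -, hP⟩ := m.decomp (h.χ_of_mem m.x_ne hd)
  have := m.col.1 P (m.ψ_inj ((hP _).symm.trans hd))
  exact m.ψ_ext (h.linE d.2) (fun e he => by rw [hP, this e he]) v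

theorem χ_eq_one {n : E} {w : V4 R} (hn : (n : G) • ψ x4 = ψ w) : h.χ (ψ x4) n = 1 := by
  ext d
  have h1 := h.β_smul d n (ψ x4)
  rw [show ((d : E) : G) • ψ x4 = ψ x4 from d.2, hn, m.stab_fix d.2] at h1
  have h2 : ψ w ≠ 0 := by
    rw [← hn]; exact fun h0 => m.x_ne ((smul_eq_zero_iff_eq _).1 h0)
  exact (smul_left_injective K h2 ((one_smul K _).trans h1)).symm

theorem expand (v : V4 R) : ψ v =
    f (hh * (-v.1 + v.2.1 + v.2.2.1)) • ψ x4 + f (hh * (v.1 + -v.2.2.1 + v.2.2.2)) • (X1 : G) • ψ x4 +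
    (f (hh * (-v.1 + v.2.1 + -v.2.2.1)) • (Z1 : G) • ψ x4 +
      f (hh * (-v.1 + -v.2.2.1 + v.2.2.2)) • (X1 : G) • (Z1 : G) • ψ x4) := by
  simp only [m.ψ_Z1, m.ψ_X1]
  simp only [psi4, pX1, pZ1, x4, m.f_add, m.f_mul, m.f_neg, m.f_zero, m.f_one]
  linear_combination (norm := ((try simp only [act_eq G]); module))
    -m.half • (f v.1 • z + f v.2.1 • (X2 : G) • z + f v.2.2.1 • (X1 : G) • z +
      f v.2.2.2 • (X1 : G) • (X2 : G) • z)

theorem mem_W (v : V4 R) : ψ v ∈ h.W (ψ x4) := by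
  have a1 := m.χ_eq_one (m.ψ_X1 x4)
  have a2 := m.χ_eq_one (m.ψ_Z1 x4)
  have a3 := h.smul_mem_W (ψ x4) (n := X1 * Z1) (by rw [map_mul, a1, a2]; ext; simp)
  rw [coe_mul, mul_smul] at a3
  rw [m.expand v]
  exact add_mem (add_mem (Submodule.smul_mem _ _ (h.self_mem_W _))
    (Submodule.smul_mem _ _ (h.smul_mem_W _ a1)))
    (add_mem (Submodule.smul_mem _ _ (h.smul_mem_W _ a2)) (Submodule.smul_mem _ _ a3))

theorem lin (g : G) (c : K) (v : V) : g • c • v = c • g • v := by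
  obtain ⟨n, rfl⟩ := m.nat c
  rw [Nat.cast_smul_eq_nsmul, Nat.cast_smul_eq_nsmul, smul_comm]

theorem comm (g : G) (u : Kˣ) : g * ι u = ι u * g := by
  rw [← mul_inv_eq_iff_eq_mul, ← mul_inv_eq_one]
  apply h.faith
  intro v
  rw [mul_smul, mul_smul, mul_smul, h.smul, m.lin, smul_inv_smul, ← h.smul, smul_inv_smul]

theorem exists_lin4 {g : G} (hg : g • ψ x4 = ψ x4) :
    ∃ a b : Pl R, Rel1 a b ∧ Rel2 hh a b ∧ ∀ v, g • ψ v = ψ (lin4 hh a b v) := by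
  have key : ∀ (n : E) (w : V4 R), (n : G) • ψ x4 = ψ w →
      ∃ P : Pl R, ∀ v v', g • v = ψ v' → g • (n : G) • v = ψ (pact P v') := by
    intro n w hn
    obtain ⟨P, -, hP⟩ := m.decomp (h.χ_cE_eq_one hg (m.χ_eq_one hn))
    exact ⟨P, fun v v' hv => by rw [← h.cE_smul, hv, hP]⟩
  obtain ⟨a, ha⟩ := key X1 _ (m.ψ_X1 _)
  obtain ⟨b, hb⟩ := key Z1 _ (m.ψ_Z1 _)
  obtain ⟨c, hc⟩ := key X2 _ (m.ψ_X2 _)
  obtain ⟨d, hd⟩ := key Z2 _ (m.ψ_Z2 _)
  have hl : ∀ v, g • ψ v = ψ (lin4 hh a b v) := by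
    intro v
    rw [m.expand v]
    simp only [smul_add, m.lin g, hg, ha _ _ hg, hb _ _ hg, ha _ _ (hb _ _ hg), lin4, m.ψ_ad,
      m.ψ_sm]
  refine ⟨a, b, ⟨m.ψ_inj ?_, m.ψ_inj ?_, m.ψ_inj ?_⟩,
    ⟨⟨c, fun e _ => m.ψ_inj ?_⟩, d, fun e _ => m.ψ_inj ?_⟩, hl⟩
  · rw [← hb _ _ (hb _ _ hg), m.ψ_Z1, m.ψ_Z1, ← hg]
    simp [psi4, pZ1, m.f_neg]
  · rw [← ha _ _ (ha _ _ hg), m.x1x1, hg]
  · rw [m.ψ_sm, ← ha _ _ (hb _ _ hg), ← hb _ _ (ha _ _ hg), h.β_smul Z1, m.b11, m.lin, m.f_neg,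
      m.f_one]
    simp
  · rw [← hl, ← hc _ _ (hl e), m.ψ_X2]
  · rw [← hl, ← hd _ _ (hl e), m.ψ_Z2]

theorem isBase {p : ℕ} [NeZero p] [CharP K p] (y : V4 R)
    (hy : ∀ (g : G) (μ : R), g • ψ x4 = ψ x4 → g • ψ y = ψ (ad4 y (sm4 μ x4)) →
      ∀ e ∈ bas4, g • ψ e = ψ e) :
    h.IsBase p (ψ x4) fun t => ψ y + (t.val : K) • ψ x4 := by
  refine ⟨fun t => add_mem (m.mem_W y) (Submodule.smul_mem _ _ (h.self_mem_W _)),
    fun s t g hg hst => ?_⟩
  simp only [smul_add, m.lin g, hg] at hst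
  obtain ⟨μ, hμ⟩ := m.f_bij.2 ((t.val : K) - s.val)
  have h1 := m.ψ_ext (m.lin g) (hy g μ hg (by
    rw [m.ψ_ad, m.ψ_sm, hμ]
    linear_combination (norm := ((try simp only [act_eq G]); module)) hst))
  rw [h1, add_right_inj] at hst
  refine ⟨?_, m.comm g, fun n hn => ?_⟩
  · apply ZMod.val_injective
    exact (CharP.natCast_injOn_Iio K p) (ZMod.val_lt _) (ZMod.val_lt _)
      (smul_left_injective K m.x_ne hst)
  · obtain ⟨P, -, hP⟩ := m.decomp hn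
    rw [hP, h1]

theorem good [Finite G] {p : ℕ} [Fact p.Prime] [CharP K p] (hG : ¬ p ∣ Nat.card G)
    {y0 : ZMod p → V} (hb : h.IsBase p (ψ x4) y0) : Good (ZMod p) G V := by
  have := finite_hom (stab E (ψ x4)) K
  choose t ht using h.χ_surjective m.x_ne
  obtain ⟨col, hcol, -⟩ := exists_isCol_two (A := stab E (ψ x4) →* Kˣ) Kˣ (fun a => by
    ext d
    rw [← ht a, MonoidHom.mul_apply, χ_apply, ← pow_two, m.sq]; rfl)
  refine h.good_of_col hG m.x_ne hb t ht col hcol (fun i => ψ (vec4 i)) (fun i => m.mem_W _) rfl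
    (fun i hi h0 => m.col.2.2.2 i hi (m.ψ_inj (h0.trans m.ψ_zero.symm))) ?_ (fun _ => True)
    (fun _ _ _ => trivial) ?_
  · rintro n hn h1 ⟨u, h2⟩
    obtain ⟨P, -, hP⟩ := m.decomp hn
    obtain ⟨s, hs⟩ := m.f_bij.2 u
    refine ⟨1, ?_⟩
    rw [hP, m.col.2.2.1 P (m.ψ_inj ((hP _).symm.trans h1)) s
      (fun h0 => u.ne_zero (by rw [← hs, h0, m.f_zero]))
      (m.ψ_inj ((hP _).symm.trans (by rw [h2, m.ψ_sm, hs])))]
    simp
  · intro a b n _ hn h1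
    obtain ⟨P, hP0, hP⟩ := m.decomp hn
    exact m.col.2.1 P hP0 _ _ (m.ψ_inj ((hP _).symm.trans h1))

end Model

theorem good_five [Finite G] [CharP K 5] (hG : ¬ 5 ∣ Nat.card G) {z : V} {X1 X2 Z1 Z2 : E}
    {f : Fin 5 → K} (m : h.Model z X1 X2 Z1 Z2 f 3) : Good (ZMod 5) G V := by
  refine m.good hG (m.isBase (1, 0, 1, 3) fun g μ hg hy e he => ?_)
  obtain ⟨a, b, h1, h2, hl⟩ := m.exists_lin4 hg
  have h3 := check_five a b h1 μ (m.ψ_inj ((hl _).symm.trans hy)) h2 e he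
  apply smul_eq_of_pow hG
  have : ∀ (n : ℕ) v, g ^ n • psi4 f z (X1 : G) X2 v = psi4 f z (X1 : G) X2 ((lin4 3 a b)^[n] v) := by
    intro n
    induction n with
    | zero => simp
    | succ n ih => intro v; rw [pow_succ, mul_smul, hl, ih, iterate_succ_apply]
  rw [this, h3]

theorem good_three [Finite G] [CharP K 3] (hG : ¬ 3 ∣ Nat.card G) {z : V} {X1 X2 Z1 Z2 : E}
    {f : Fin 3 → K} (m : h.Model z X1 X2 Z1 Z2 f 2) : Good (ZMod 3) G V := by
  set ψ : V4 (Fin 3) → V := psi4 f z (X1 : G) X2 with hψ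
  have hneg : ∀ v, ψ (sm4 (-1) v) = -ψ v := fun v => by
    rw [hψ, m.ψ_sm, m.f_neg, m.f_one, neg_one_smul]
  let S : Fin 9 → Set V := fun i => {ψ (sv3 i), -ψ (sv3 i)}
  have hS : Injective S := by
    intro i j hij
    have : ψ (sv3 i) ∈ S j := hij ▸ Or.inl rfl
    apply sv3_inj
    rw [pm_iff]
    exact this.imp (fun h1 => m.ψ_inj h1) fun h1 => m.ψ_inj (h1.trans (hneg _).symm)
  have hmove : ∀ (g : G) (a b : Pl (Fin 3)), (∀ v, g • ψ v = ψ (lin4 2 a b v)) → ∀ i j,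
      (pm (lin4 2 a b (sv3 i)) (sv3 j) ↔ g • S i = S j) := by
    intro g a b hl i j
    simp only [S, Set.smul_set_insert, Set.smul_set_singleton, smul_neg, hl, pm_iff]
    constructor
    · rintro (h1 | h1)
      · rw [h1]
      · rw [h1, hneg, neg_neg, Set.pair_comm]
    · intro h1
      have : ψ (lin4 2 a b (sv3 i)) ∈ ({ψ (sv3 j), -ψ (sv3 j)} : Set V) := h1 ▸ Or.inl rfl
      exact this.imp (fun h1 => m.ψ_inj h1) fun h1 => m.ψ_inj (h1.trans (hneg _).symm)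
  obtain ⟨_, ⟨i, rfl⟩, hi⟩ := exists_fixed_of_pow (H := MulAction.stabilizer G (ψ x4))
    (X := Set V) Nat.prime_two (T := Set.range S) (by
      rw [Set.ncard_range_of_injective hS]; simp) (by
      rintro g _ ⟨i, rfl⟩
      obtain ⟨a, b, h1, h2, hl⟩ := m.exists_lin4 g.2
      exact ⟨_, ((hmove g a b hl i _).1 (check_three a b h1 h2 i).1).symm⟩) (by
      intro g
      refine ⟨2, ?_⟩
      rintro _ ⟨i, rfl⟩
      obtain ⟨a, b, h1, h2, hl⟩ := m.exists_lin4 g.2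
      have : ∀ (n : ℕ) i, (g : G) ^ n • S i = S ((fun s => (nxtO a b s).getD s)^[n] i) := by
        intro n
        induction n with
        | zero => simp
        | succ n ih =>
          intro i
          rw [pow_succ, mul_smul, (hmove g a b hl i _).1 (check_three a b h1 h2 i).1, ih,
            iterate_succ_apply]
      have h3 := this 12 i
      rw [← itO_eq, (check_three a b h1 h2 i).2.1, show 12 = 2 ^ 2 * 3 from rfl, pow_mul] at h3
      exact smul_eq_of_pow hG h3)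
  refine m.good hG (m.isBase (sy3 i) fun g μ hg hy e he => ?_)
  obtain ⟨a, b, h1, h2, hl⟩ := m.exists_lin4 hg
  have h3 := (check_three a b h1 h2 i).2.2 ((hmove g a b hl i i).2 (hi ⟨g, hg⟩)) μ
    (eq4_iff.2 (m.ψ_inj ((hl _).symm.trans hy)))
  rw [hl, eq4_iff.1 (List.all_eq_true.1 h3 e he)]

end EData

end Base2
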