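import Cfsg.Agent.Lib.Base.Sympl

/-! Weight spaces for the stabiliser of a vector in the subgroup of symplectic type. -/

set_option autoImplicit false

namespace Base2

open Function Subgroup

variable {K G V : Type*} [Field K] [Group G] [AddCommGroup V] [Module K V] [DistribMulAction G V]
  {ι : Kˣ →* G} {E : Subgroup G}

/-- the stabiliser of `x` in `E` -/
abbrev stab (E : Subgroup G) (x : V) : Subgroup E := MulAction.stabilizer E x

namespace EData

variable (h : EData V ι E)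

/-- the character of the stabiliser afforded by `e • x` -/
noncomputable def χ (x : V) : E →* (stab E x →* Kˣ) :=
  (h.β.comp (stab E x).subtype).flip

theorem χ_apply (x : V) (e : E) (d : stab E x) : h.χ x e d = h.β d e := rfl

/-- the span of the vectors `n • x` with `n` centralising the stabiliser -/
def W (x : V) : Submodule K V := Submodule.span K {v | ∃ n : E, h.χ x n = 1 ∧ (n : G) • x = v}

/-- conjugation on `E` -/
def cE (g : G) : E →* E := haveI := h.normalE; (MulAut.conjNormal g).toMonoidHom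

theorem coe_cE (g : G) (e : E) : (h.cE g e : G) = g * e * g⁻¹ := rfl

theorem cE_smul (g : G) (e : E) (v : V) : (h.cE g e : G) • g • v = g • (e : G) • v := by
  rw [coe_cE, ← mul_smul, inv_mul_cancel_right, mul_smul]

theorem cE_inv (g : G) (e : E) : h.cE g (h.cE g⁻¹ e) = e := Subtype.ext (by simp [coe_cE, mul_assoc])

theorem cE_inv' (g : G) (e : E) : h.cE g⁻¹ (h.cE g e) = e := Subtype.ext (by simp [coe_cE, mul_assoc])

theorem cE_mem_stab {x : V} {g : G} (hg : g • x = x) {d : E} (hd : d ∈ stab E x) :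
    h.cE g d ∈ stab E x := by
  change (h.cE g d : G) • x = x
  conv_lhs => rw [← hg, cE_smul, show (d : G) • x = x from hd, hg]

theorem β_cE {g : G} (hg : ∀ u, g * ι u = ι u * g) (a b : E) :
    h.β (h.cE g a) (h.cE g b) = h.β a b := by
  apply h.β_eq
  simp only [coe_cE]
  calc g * a * g⁻¹ * (g * b * g⁻¹) = g * (a * b) * g⁻¹ := by group
    _ = _ := by rw [h.β_spec, ← mul_assoc g, hg]; group

theorem β_cE_eq_one (g : G) {a b : E} (hab : h.β a b = 1) :
    h.β (h.cE g a) (h.cE g b) = 1 := by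
  rw [h.β_eq_one_iff] at hab ⊢
  simp only [coe_cE]
  calc g * a * g⁻¹ * (g * b * g⁻¹) = g * (a * b) * g⁻¹ := by group
    _ = _ := by rw [hab]; group

theorem χ_cE_eq_one {x : V} {g : G} (hg : g • x = x) {n : E} (hn : h.χ x n = 1) :
    h.χ x (h.cE g n) = 1 := by
  ext d
  have := h.β_cE_eq_one g (a := h.cE g⁻¹ d) (b := n)
    (DFunLike.congr_fun hn ⟨_, h.cE_mem_stab (inv_smul_eq_iff.2 hg.symm) d.2⟩)
  rw [cE_inv] at this
  rw [χ_apply, this]; rfl

theorem χ_of_mem {x : V} (hx : x ≠ 0) {d : E} (hd : d ∈ stab E x) : h.χ x d = 1 := by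
  ext d'
  have h1 := h.β_smul d' d x
  rw [show (d : G) • x = x from hd, show ((d' : E) : G) • x = x from d'.2,
    show (d : G) • x = x from hd] at h1
  have := smul_left_injective K hx ((one_smul K x).trans h1)
  exact this.symm

theorem χ_ι (x : V) (u : Kˣ) : h.χ x ⟨ι u, h.le u⟩ = 1 := by
  ext d
  rw [χ_apply, h.β_swap, h.β_of_mem_range ⟨u, rfl⟩]; rfl

theorem χ_of_eig {x : V} (hx : x ≠ 0) {n : E} {u : Kˣ} (hn : (n : G) • x = (u : K) • x) :
    (⟨ι u⁻¹, h.le _⟩ * n : E) ∈ stab E x ∧ h.χ x n = 1 := by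
  have h1 : (⟨ι u⁻¹, h.le _⟩ * n : E) ∈ stab E x := by
    change (ι u⁻¹ * n) • x = x
    rw [mul_smul, hn, h.smul, smul_smul]; simp
  refine ⟨h1, ?_⟩
  have := h.χ_of_mem hx h1
  rw [map_mul, χ_ι] at this
  exact (one_mul _).symm.trans this

theorem χ_surjective [Finite G] {x : V} (hx : x ≠ 0) : Surjective (h.χ x) := by
  intro a
  apply exists_rep
  intro d hd
  have : ((d : E) : G) = 1 := h.eq_one_of_fix
    (h.mem_range_of_central d.1.2 fun e he => (h.β_eq_one_iff (b := ⟨e, he⟩)).1 (hd _)) hx d.2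
  rw [show d = 1 from Subtype.ext (Subtype.ext this), map_one]

theorem smul_mem_W (x : V) {n : E} (hn : h.χ x n = 1) : (n : G) • x ∈ h.W x :=
  Submodule.subset_span ⟨n, hn, rfl⟩

theorem self_mem_W (x : V) : x ∈ h.W x := by simpa using h.smul_mem_W x (map_one _)

theorem fix_W {x : V} {g : G} (hg : ∀ u, g * ι u = ι u * g)
    (hfix : ∀ n : E, h.χ x n = 1 → g • (n : G) • x = (n : G) • x) {w : V} (hw : w ∈ h.W x) :
    g • w = w := by
  induction hw using Submodule.span_induction with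
  | mem v hv => obtain ⟨n, hn, rfl⟩ := hv; exact hfix n hn
  | zero => simp
  | add a b _ _ ha hb => rw [smul_add, ha, hb]
  | smul c a _ ha => rw [h.lin hg, ha]

theorem stab_fix_W {x : V} {d : E} (hd : d ∈ stab E x) {w : V} (hw : w ∈ h.W x) :
    (d : G) • w = w := by
  apply h.fix_W (h.cent _ d.2) _ hw
  intro n hn
  rw [h.β_smul, show h.β d n = 1 from DFunLike.congr_fun hn ⟨d, hd⟩, show (d : G) • x = x from hd]
  simp

theorem eig_W {x : V} (hx : x ≠ 0) {n : E} {u : Kˣ} (hn : (n : G) • x = (u : K) • x) {w : V}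
    (hw : w ∈ h.W x) : (n : G) • w = (u : K) • w := by
  have := h.stab_fix_W (h.χ_of_eig hx hn).1 hw
  change (ι u⁻¹ * n) • w = w at this
  rw [mul_smul, map_inv, inv_smul_eq_iff, h.smul] at this
  exact this

theorem β_eig {x : V} (hx : x ≠ 0) {n : E} {u : Kˣ} (hn : (n : G) • x = (u : K) • x) {m : E}
    (hm : h.χ x m = 1) : h.β n m = 1 := by
  have := DFunLike.congr_fun hm ⟨_, (h.χ_of_eig hx hn).1⟩
  rwa [χ_apply, map_mul, MonoidHom.mul_apply, h.β_of_mem_range ⟨u⁻¹, rfl⟩, one_mul] at this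

theorem weight {x : V} (t : E) {w : V} (hw : w ∈ h.W x) (d : stab E x) :
    ((d : E) : G) • (t : G) • w = (h.χ x t d : K) • (t : G) • w := by
  rw [h.β_smul, h.stab_fix_W d.2 hw, χ_apply]

theorem proj [Finite G] {x : V} [Fintype (stab E x)] (a : stab E x →* Kˣ) (t : E) {w : V}
    (hw : w ∈ h.W x) [Decidable (h.χ x t = a)] :
    ∑ d : stab E x, ((a d)⁻¹ : Kˣ) • ((d : E) : G) • (t : G) • w =
      if h.χ x t = a then (Nat.card (stab E x) : K) • (t : G) • w else 0 := by
  classical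
  simp only [h.weight t hw, Units.smul_def, smul_smul]
  rw [← Finset.sum_smul]
  have := sum_hom_units ((Units.coeHom K).comp (a⁻¹ * h.χ x t))
  simp only [MonoidHom.comp_apply, MonoidHom.mul_apply, MonoidHom.inv_apply, Units.coeHom_apply,
    Units.val_mul] at this
  rw [this]
  have h1 : (Units.coeHom K).comp (a⁻¹ * h.χ x t) = 1 ↔ h.χ x t = a := by
    constructor
    · intro h1
      have : a⁻¹ * h.χ x t = 1 := by ext d; exact DFunLike.congr_fun h1 d
      exact (inv_mul_eq_one.1 this).symm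
    · intro h1; rw [h1]; ext d; simp
  simp only [h1]
  split_ifs
  · rw [Nat.card_eq_fintype_card]
  · simp

omit [Module K V] in
theorem card_ne_zero [Finite G] {p : ℕ} [Fact p.Prime] [CharP K p] (hG : ¬ p ∣ Nat.card G) (x : V) :
    (Nat.card (stab E x) : K) ≠ 0 := by
  rw [Ne, CharP.cast_eq_zero_iff K p]
  exact fun hd => hG ((hd.trans (card_subgroup_dvd_card _)).trans (card_subgroup_dvd_card E))

/-- The data on the trivial weight space. -/
def IsBase (p : ℕ) (x : V) (y0 : ZMod p → V) : Prop :=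
  (∀ i, y0 i ∈ h.W x) ∧ ∀ i j (g : G), g • x = x → g • y0 i = y0 j →
    i = j ∧ (∀ u, g * ι u = ι u * g) ∧ ∀ n : E, h.χ x n = 1 → g • (n : G) • x = (n : G) • x

theorem gl1 [Finite G] {p : ℕ} [Fact p.Prime] [CharP K p] (hG : ¬ p ∣ Nat.card G) {x : V}
    {y0 : ZMod p → V} (hb : h.IsBase p x y0) (t : (stab E x →* Kˣ) → E)
    (ht : ∀ a, h.χ x (t a) = a) (w : (stab E x →* Kˣ) → V) (hw : ∀ a, w a ∈ h.W x) :
    ∃ y : ZMod p → V, ∀ i j (g : G), g • x = x → g • y i = y j →
      i = j ∧ (∀ u, g * ι u = ι u * g) ∧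
      (∀ n : E, h.χ x n = 1 → g • (n : G) • x = (n : G) • x) ∧
      ∃ L : (stab E x →* Kˣ) →* (stab E x →* Kˣ), Injective L ∧
        (∀ e, h.χ x (h.cE g e) = L (h.χ x e)) ∧
        ∀ a, a ≠ 1 → g • (t a : G) • w a = (t (L a) : G) • w (L a) := by
  classical
  have := finite_hom (stab E x) K
  have := Fintype.ofFinite (stab E x →* Kˣ)
  have := Fintype.ofFinite (stab E x)
  have hc := card_ne_zero (K := K) (E := E) hG x
  refine ⟨fun i => y0 i + ∑ a ∈ Finset.univ.erase 1, (t a : G) • w a, fun i j g hx hy => ?_⟩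
  have hx' : g⁻¹ • x = x := inv_smul_eq_iff.2 hx.symm
  let c : stab E x →* stab E x :=
    ((h.cE g⁻¹).comp (stab E x).subtype).codRestrict _ fun d => h.cE_mem_stab hx' d.2
  have hcinj : Injective c := fun a b hab => by
    have := congrArg (h.cE g) (congrArg Subtype.val hab)
    exact Subtype.ext ((h.cE_inv g _).symm.trans (this.trans (h.cE_inv g _)))
  have hcb : Bijective c := Finite.injective_iff_bijective.1 hcinj
  have hdg : ∀ (d : stab E x) (v : V), ((d : E) : G) • g • v = g • ((c d : E) : G) • v := by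
    intro d v
    rw [← h.cE_smul]
    exact congrArg (fun e : E => (e : G) • g • v) (h.cE_inv g _).symm
  have hP : ∀ (a : stab E x →* Kˣ) i, ∑ d : stab E x, ((a d)⁻¹ : Kˣ) • ((d : E) : G) •
      (y0 i + ∑ a ∈ Finset.univ.erase 1, (t a : G) • w a) =
      (Nat.card (stab E x) : K) • if a = 1 then y0 i else (t a : G) • w a := by
    intro a i
    simp only [smul_add, Finset.smul_sum, Finset.sum_add_distrib]
    rw [Finset.sum_comm]
    have e1 := h.proj a 1 (hb.1 i)
    simp only [OneMemClass.coe_one, one_smul, map_one] at e1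
    simp only [e1, h.proj a _ (hw _), ht, Finset.sum_ite_eq', Finset.mem_erase, Finset.mem_univ,
      and_true]
    by_cases ha : a = 1
    · simp [ha]
    · simp [ha, Ne.symm ha]
  have h0 : g • y0 i = y0 j := by
    have e1 := hP 1 i
    have e2 := hP 1 j
    simp only [MonoidHom.one_apply, inv_one, one_smul, if_true] at e1 e2
    simp only at hy
    rw [← hy] at e2
    simp only [hdg, ← Finset.smul_sum] at e2
    rw [Fintype.sum_bijective c hcb _ (fun d : stab E x => ((d : E) : G) •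
      (y0 i + ∑ a ∈ Finset.univ.erase 1, (t a : G) • w a)) fun _ => rfl, e1,
      Nat.cast_smul_eq_nsmul, smul_comm, ← Nat.cast_smul_eq_nsmul K] at e2
    exact smul_right_injective V hc e2
  obtain ⟨rfl, hlin, hfix⟩ := hb.2 i j g hx h0
  let L : (stab E x →* Kˣ) →* (stab E x →* Kˣ) := MonoidHom.mk' (fun a => a.comp c) fun _ _ => rfl
  have hL : Injective L := fun a b hab => (MonoidHom.cancel_right hcb.2).1 hab
  refine ⟨rfl, hlin, hfix, L, hL, fun e => ?_, fun a ha => ?_⟩
  · ext d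
    change (h.β d (h.cE g e) : K) = h.β (h.cE g⁻¹ d) e
    rw [← h.β_cE hlin (h.cE g⁻¹ d), cE_inv]
  · have e1 := hP a i
    have e2 := hP (L a) i
    rw [if_neg ha] at e1
    rw [if_neg (map_ne_one' hL ha)] at e2
    simp only at hy
    conv_lhs at e2 => rw [← hy]
    simp only [hdg, Units.smul_def, ← h.lin hlin, ← Finset.smul_sum] at e2
    rw [Fintype.sum_bijective c hcb (fun d : stab E x => (((L a d)⁻¹ : Kˣ) : K) • ((c d : E) : G) •
      (y0 i + ∑ a ∈ Finset.univ.erase 1, (t a : G) • w a))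
      (fun d : stab E x => (((a d)⁻¹ : Kˣ) : K) • ((d : E) : G) •
      (y0 i + ∑ a ∈ Finset.univ.erase 1, (t a : G) • w a)) fun _ => rfl] at e2
    simp only [Units.smul_def] at e1
    rw [e1, h.lin hlin] at e2
    exact smul_right_injective V hc e2

theorem gl2 {x : V} (hx : x ≠ 0) {g : G} (hgx : g • x = x) (hlin : ∀ u, g * ι u = ι u * g)
    (hfix : ∀ n : E, h.χ x n = 1 → g • (n : G) • x = (n : G) • x)
    (hL : ∀ e, h.χ x (h.cE g e) = h.χ x e) (t : (stab E x →* Kˣ) → E)
    (ht : ∀ a, h.χ x (t a) = a) (w : (stab E x →* Kˣ) → V) (hw : ∀ a, w a ∈ h.W x)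
    (hg : ∀ a, a ≠ 1 → g • (t a : G) • w a = (t a : G) • w a) (col : (stab E x →* Kˣ) → Fin 4)
    (gen : ∀ S : Subgroup (stab E x →* Kˣ), (∀ a, a ≠ 1 → col a = 0 → a ∈ S) →
      (∀ a a', a ≠ 1 → a' ≠ 1 → col a = 1 → col a' = 2 → a * a'⁻¹ ∈ S → a ∈ S) → S = ⊤)
    (det : ∀ c : (stab E x →* Kˣ) → Kˣ, Cubic c → (∀ a, a ≠ 1 → col a ≠ 3 → c a = 1) →
      ∀ a, c a = 1)
    (h0 : ∀ a, col a = 0 → w a = x)
    (h12 : ∀ a a', col a = 1 → col a' = 2 → ∀ n : E, h.χ x n = 1 → (n : G) • w a = w a →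
      (∃ u : Kˣ, (n : G) • w a' = (u : K) • w a') → ∃ u : Kˣ, (n : G) • x = (u : K) • x)
    (h3 : ∀ a, col a ≠ 3 → w a ≠ 0) : g = 1 := by
  obtain ⟨n, hn⟩ : ∃ n : E → E, ∀ e, n e = e⁻¹ * h.cE g e := ⟨_, fun _ => rfl⟩
  have hn1 : ∀ e, h.χ x (n e) = 1 := fun e => by rw [hn, map_mul, map_inv, hL, inv_mul_cancel]
  have hnw : ∀ (e : E), ∀ v ∈ h.W x, (n e : G) • v = (e : G)⁻¹ • g • (e : G) • v := by
    intro e v hv
    simp only [hn, coe_mul, coe_inv, mul_smul]
    rw [← h.cE_smul g e, h.fix_W hlin hfix hv]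
  have hnm : ∀ e e' : E, (n (e * e') : G) = ι (h.β (n e) e') * (n e * n e') := by
    intro e e'
    have := h.β_spec (n e) e'
    calc (n (e * e') : G) = (e' : G)⁻¹ * (n e * e') * n e' := by
          simp only [hn, coe_mul, coe_inv, map_mul]; group
      _ = _ := by rw [this, ← mul_assoc, h.cent _ (inv_mem e'.2)]; group
  have hn0 : ∀ e, h.χ x e = 1 → (n e : G) • x = x := fun e he => by
    rw [hnw e x (h.self_mem_W x), hfix e he, inv_smul_smul]
  have hnt : ∀ a, a ≠ 1 → (n (t a) : G) • w a = w a := fun a ha => by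
    rw [hnw _ _ (hw a), hg a ha, inv_smul_smul]
  let T : Subgroup E := 
    { carrier := {e | ∃ u : Kˣ, (n e : G) • x = (u : K) • x}
      one_mem' := ⟨1, by simp [hn]⟩
      mul_mem' := by
        rintro a b ⟨u, hu⟩ ⟨v, hv⟩
        exact ⟨h.β (n a) b * (v * u), by
          rw [hnm, mul_smul, mul_smul, hv, h.linE (n a).2, hu, h.smul]; simp [smul_smul]⟩
      inv_mem' := by
        rintro a ⟨u, hu⟩
        have := hnm a⁻¹ a
        rw [inv_mul_cancel, show n 1 = 1 by simp [hn]] at this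
        have h1 := congrArg (· • x) this
        simp only [OneMemClass.coe_one, one_smul, mul_smul, hu, h.linE (n a⁻¹).2, h.smul] at h1
        refine ⟨(h.β (n a⁻¹) a * u)⁻¹, ?_⟩
        conv_rhs => rw [h1]
        rw [smul_smul, smul_smul, ← Units.val_mul, ← Units.val_mul, mul_assoc, inv_mul_cancel,
          Units.val_one, one_smul] }
  have hker : (h.χ x).ker ≤ T := fun e he => ⟨1, by simpa using hn0 e he⟩
  have hmem : ∀ e, h.χ x e ∈ T.map (h.χ x) → e ∈ T := fun e he => by
    rw [← comap_map_eq_self hker]; exact he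
  have hT := gen (T.map (h.χ x))
    (fun a ha hc => ⟨t a, ⟨1, by simpa [h0 a hc] using hnt a ha⟩, ht a⟩)
    (fun a a' ha ha' hc hc' hS => by
      obtain ⟨u, hu⟩ := hmem (t a * (t a')⁻¹) (by simpa [ht] using hS)
      refine ⟨t a, h12 a a' hc hc' _ (hn1 _) (hnt a ha) ⟨h.β (n (t a * (t a')⁻¹)) (t a') * u, ?_⟩,
        ht a⟩
      have := hnm (t a * (t a')⁻¹) (t a')
      rw [inv_mul_cancel_right] at this
      rw [this, mul_smul, mul_smul, hnt a' ha', h.eig_W hx hu (hw a'), h.smul, smul_smul]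
      simp)
  have hall : ∀ e, ∃ u : Kˣ, (n e : G) • x = (u : K) • x := fun e => hmem e (hT ▸ mem_top _)
  choose c hc using hall
  have hcu : ∀ e (u : Kˣ), (n e : G) • x = (u : K) • x → c e = u := fun e u hu =>
    Units.ext (smul_left_injective K hx ((hc e).symm.trans hu))
  have hcm : ∀ a b, c (a * b) = h.β (n a) b * (c a * c b) := fun a b => hcu _ _ (by
    rw [hnm, mul_smul, mul_smul, hc, h.linE (n a).2, hc, h.smul]
    simp [smul_smul, mul_comm])
  have hβ : ∀ a b f, h.β (n (a * b)) f = h.β (n a) f * h.β (n b) f := by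
    intro a b f
    rw [show n (a * b) = ⟨ι (h.β (n a) b), h.le _⟩ * (n a * n b) from Subtype.ext (hnm a b),
      map_mul, MonoidHom.mul_apply, h.β_of_mem_range ⟨_, rfl⟩, one_mul, map_mul,
      MonoidHom.mul_apply]
  have hcχ : ∀ e, c (t (h.χ x e)) = c e := by
    intro e
    have h1 : h.χ x (e⁻¹ * t (h.χ x e)) = 1 := by simp [ht]
    have := hcm e (e⁻¹ * t (h.χ x e))
    rw [mul_inv_cancel_left, h.β_eig hx (hc e) h1,
      hcu (e⁻¹ * t (h.χ x e)) 1 (by simpa using hn0 _ h1)] at this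
    simpa using this
  have hc1 := det (fun a => c (t a)) (fun a b d => by
      have e1 : ∀ a b, c (t (a * b)) = c (t a * t b) := fun a b => by
        rw [← hcχ (t a * t b), map_mul, ht, ht]
      have e2 : c (t (a * b * d)) = c (t a * t b * t d) := by
        rw [← hcχ (t a * t b * t d), map_mul, map_mul, ht, ht, ht]
      simp only [e1 a b, e1 a d, e1 b d, e2, hcm, hβ]
      apply Additive.ofMul.injective
      simp only [ofMul_mul]
      abel)
    (fun a ha hc3 => by
      have := (h.eig_W hx (hc (t a)) (hw a)).symm.trans (hnt a ha)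
      exact Units.ext (smul_left_injective K (h3 a hc3) (this.trans (one_smul K _).symm)))
  have hc2 : ∀ e, c e = 1 := fun e => by rw [← hcχ]; exact hc1 _
  apply h.eq_one_of_fix (h.cc g hlin fun e he => ?_) hx hgx
  have h1 : (n ⟨e, he⟩ : G) = 1 := by
    apply h.eq_one_of_fix _ hx (by simpa [hc2] using hc ⟨e, he⟩)
    apply h.mem_range_of_central (n _).2
    intro f hf
    apply (h.β_eq_one_iff (b := ⟨f, hf⟩)).1
    simpa [hc2] using (hcm ⟨e, he⟩ ⟨f, hf⟩).symm
  simp only [hn, coe_mul, coe_inv, coe_cE] at h1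
  rw [inv_mul_eq_one] at h1
  exact mul_inv_eq_iff_eq_mul.1 h1.symm

end EData

end Base2
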